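import Cfsg.Agent.H9.Rank2

/-!
Odd `p`-groups of rank at most two having a normal subgroup of order `p ^ 3` and exponent `p`.
-/

set_option autoImplicit false

namespace H9

open Subgroup Cfsg
open scoped commutatorElement

variable {G : Type*} [Group G] {p : ℕ} [hp : Fact p.Prime]

theorem not_pow_of_rank [Finite G] (hr : PRankLE p 2 G) {T : Subgroup G}
    (hT : IsElementaryAbelian p T) (hc : Nat.card T = p ^ 2) {h : G}
    (hh : h ∈ centralizer (T : Set G)) (hp1 : h ^ p = 1) : h ∈ T := by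
  by_contra e
  have h1 := elementary_sup hT (elementary_zpowers hp1) fun a ha b hb => by
    obtain ⟨k, rfl⟩ := mem_zpowers_iff.1 hb
    exact ((show Commute a h from hh a ha).zpow_right k).eq
  have h2 := hr _ h1.1 h1.2
  rw [card_sup_zpowers hp.out (centralizer_le_normalizer _ hh) e (hp1 ▸ one_mem T), hc] at h2
  have := hp.out.one_lt
  nlinarith [pow_pos hp.out.pos 2]

/-- An element of order `p` in a cyclic group of order `p ^ (m + 1)`. -/
theorem exists_eq_pow_mul [Finite G] {g y : G} {m : ℕ} (hg : orderOf g = p ^ (m + 1))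
    (hy : y ∈ zpowers g) (hyp : y ^ p = 1) (hy1 : y ≠ 1) :
    ∃ k : ℕ, ¬ p ∣ k ∧ y = g ^ (k * p ^ m) := by
  have h1 := zpow_mem_zpowers_of_pow_eq_one hg hy (by simpa using hyp)
  obtain ⟨k, hk⟩ := mem_powers_iff_mem_zpowers.2 h1
  refine ⟨k, ?_, by rw [← hk, mul_comm, pow_mul]⟩
  rintro ⟨j, rfl⟩
  refine hy1 ?_
  rw [← hk]
  change (g ^ p ^ m) ^ (p * j) = 1
  rw [pow_mul, ← pow_mul g, ← pow_succ, ← hg, pow_orderOf_eq_one, one_pow]

/-- The configuration around a normal subgroup of order `p ^ 3` and exponent `p`. -/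
structure Cube (p : ℕ) (S T Z : Subgroup G) : Prop where
  Sn : S.Normal
  Tn : T.Normal
  Se : ∀ s ∈ S, s ^ p = 1
  Sc : Nat.card S = p ^ 3
  Tc : Nat.card T = p ^ 2
  Zc : Nat.card Z = p
  Ta : IsMulCommutative T
  ZT : Z ≤ T
  TS : T ≤ S
  ZZ : Z ≤ center G
  Ze : S ⊓ centralizer (S : Set G) = Z
  SG : ⁅S, (⊤ : Subgroup G)⁆ ≤ T
  TG : ⁅T, (⊤ : Subgroup G)⁆ ≤ Z

theorem exists_cube [Finite G] (hG : IsPGroup p G) (hr : PRankLE p 2 G) {S : Subgroup G}
    [hS : S.Normal] (he : ∀ s ∈ S, s ^ p = 1) (hc : Nat.card S = p ^ 3) :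
    ∃ T Z : Subgroup G, Cube p S T Z := by
  have hp1 := hp.out.one_lt
  have hnc : ¬ IsMulCommutative S := fun h => by
    have := hr S h he
    rw [hc] at this
    exact absurd ((Nat.pow_le_pow_iff_right hp1).1 this) (by norm_num)
  obtain ⟨hZ, -⟩ := center_of_card_cube hc hnc
  have hlt : S ⊓ centralizer (S : Set G) < S := lt_of_le_of_ne inf_le_left fun h =>
    hnc (le_centralizer_iff_isMulCommutative.1 (h.ge.trans inf_le_right))
  obtain ⟨T, hT, hZT, hTS, hTc, hTG, t, -, -, ht⟩ := exists_normal_card_eq_mul hG hlt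
  have hTc' : Nat.card T = p ^ 2 := by rw [hTc, hZ, pow_two]
  have hlt2 : T < S := lt_of_le_of_ne hTS fun h => by
    rw [h, hc] at hTc'
    exact absurd (Nat.pow_right_injective hp1 hTc') (by norm_num)
  obtain ⟨K, -, -, hKS, hKc, hKG, -⟩ := exists_normal_card_eq_mul hG hlt2
  rw [eq_of_le_of_card_ge hKS (by rw [hc, hKc, hTc']; exact le_of_eq (by ring))] at hKG
  have htS : t ∈ S := hTS (ht ▸ mem_sup_right (mem_zpowers t))
  exact ⟨T, _, hS, hT, he, hc, hTc', hZ, ht ▸ isMulCommutative_sup_zpowers (H15.comm_inf_cent S)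
    fun z hz => (hz.2 t htS).symm, hZT, hTS, le_center_of_card_le_prime hG hZ.le, rfl, hKG, hTG⟩

namespace Cube

variable {S T Z : Subgroup G} (h : Cube p S T Z)
include h

omit hp in
theorem Te : IsElementaryAbelian p T := ⟨h.Ta, fun t ht => h.Se t (h.TS ht)⟩

omit hp in
theorem comm_mem {u : G} (hu : u ∈ S) (a : G) : ⁅u, a⁆ ∈ T :=
  h.SG (commutator_mem_commutator hu (mem_top a))

omit hp in
theorem comm_mem' (u : G) {t : G} (ht : t ∈ T) : ⁅u, t⁆ ∈ Z :=
  H13.comm_swap (h.TG (commutator_mem_commutator ht (mem_top u)))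

omit hp in
theorem T_le : T ≤ centralizer (T : Set G) := le_centralizer_iff_isMulCommutative.2 h.Ta

omit hp in
theorem Z_le : Z ≤ centralizer (S : Set G) := h.Ze ▸ inf_le_right

/-- The commutator homomorphism. -/
def phi {u : G} (hu : u ∈ S) : centralizer (T : Set G) →* G :=
  MonoidHom.mk' (fun a => ⁅u, (a : G)⁆) fun a b =>
    commutator_mul_right_of_commute (show Commute _ _ from a.2 _ (h.comm_mem hu b)).symm

theorem exists_not_mem [Finite G] : ∃ u ∈ S, u ∉ centralizer (T : Set G) := by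
  refine SetLike.not_le_iff_exists.1 fun e => ?_
  have h1 : T ≤ Z := h.Ze ▸ le_inf h.TS (le_centralizer_iff.1 e)
  have := card_le_of_le h1
  rw [h.Tc, h.Zc] at this
  have := hp.out.one_lt
  nlinarith

variable [Finite G] {u : G} (hu : u ∈ S) (huA : u ∉ centralizer (T : Set G))
include hu huA

theorem S_eq : T ⊔ zpowers u = S :=
  sup_zpowers_eq_of_card (p := p) h.TS (by rw [h.Sc, h.Tc]; ring) hu fun e => huA (h.T_le e)

theorem mem_cent {a : G} (ha : a ∈ centralizer (T : Set G)) (e : ⁅u, a⁆ = 1) :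
    a ∈ centralizer (S : Set G) := by
  rw [← h.S_eq hu huA, centralizer_sup_zpowers]
  exact ⟨ha, mem_centralizer_singleton_iff.2 (commutatorElement_eq_one_iff_commute.1 e).symm.eq⟩

theorem comm_ne {t : G} (ht : t ∈ T) (htZ : t ∉ Z) : ⁅u, t⁆ ≠ 1 := fun e =>
  htZ (h.Ze ▸ ⟨h.TS ht, h.mem_cent hu huA (h.T_le ht) e⟩)

theorem zpowers_comm {t : G} (ht : t ∈ T) (htZ : t ∉ Z) : zpowers ⁅u, t⁆ = Z :=
  (H7.eq_or_eq_bot_of_card_prime h.Zc (zpowers_le.2 (h.comm_mem' u ht))).resolve_left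
    (by rw [zpowers_eq_bot]; exact h.comm_ne hu huA ht htZ)

theorem index_eq (hG : IsPGroup p G) : (centralizer (T : Set G)).index = p := by
  haveI := h.Tn
  have h1 := index_centralizer_le_prime hG T h.Tc
  obtain ⟨k, hk⟩ := hG.index (centralizer (T : Set G))
  rcases k with _ | _ | k
  · rw [pow_zero, index_eq_one] at hk
    exact absurd (hk ▸ mem_top u) huA
  · simpa using hk
  · rw [hk] at h1
    have := (Nat.pow_le_pow_iff_right hp.out.one_lt).1 (h1.trans (pow_one p).ge)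
    omega

theorem card_eq (hG : IsPGroup p G) : Nat.card G =
    p * (Nat.card (h.phi hu).range * Nat.card (centralizer (S : Set G))) := by
  have h1 : (h.phi hu).ker.map (centralizer (T : Set G)).subtype = centralizer (S : Set G) := by
    refine le_antisymm ?_ fun c hc => ⟨⟨c, centralizer_le h.TS hc⟩, ?_, rfl⟩
    · rintro _ ⟨a, ha, rfl⟩
      exact h.mem_cent hu huA a.2 ha
    · exact commutatorElement_eq_one_iff_commute.2 (hc u hu)
  rw [← h1, card_map_of_injective (subtype_injective _), ← index_ker, index_mul_card,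
    ← h.index_eq hu huA hG, index_mul_card]

theorem eq_top (hG : IsPGroup p G) {L : Subgroup G} (h1 : u ∈ L)
    (h2 : centralizer (S : Set G) ≤ L)
    (h3 : ∀ a ∈ centralizer (T : Set G), ∃ b ∈ L, b ∈ centralizer (T : Set G) ∧ ⁅u, b⁆ = ⁅u, a⁆) :
    L = ⊤ := by
  rw [eq_top_iff, ← sup_zpowers_eq_top_of_isCoatom
    (isCoatom_of_index_eq_prime (h.index_eq hu huA hG)) huA]
  refine sup_le (fun a ha => ?_) (zpowers_le.2 h1)
  obtain ⟨b, hbL, hb, e⟩ := h3 a ha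
  have h4 : h.phi hu (⟨b, hb⟩⁻¹ * ⟨a, ha⟩) = 1 := by
    rw [map_mul, map_inv, inv_mul_eq_one]; exact e
  have := h2 (h.mem_cent hu huA (mul_mem (inv_mem hb) ha) h4)
  simpa using mul_mem hbL this

theorem exists_gen (hp2 : p ≠ 2) (hG : IsPGroup p G) (hr : PRankLE p 2 G) :
    ∃ c : G, zpowers c = centralizer (S : Set G) := by
  haveI := h.Sn
  rw [← Subgroup.isCyclic_iff_exists_zpowers_eq_top]
  by_contra hnc
  obtain ⟨E, hEC, -, hE, hEc⟩ := exists_normal_rank_two hp2 hG _ hnc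
  have h1 := not_pow_of_rank hr hE hEc (le_centralizer_iff.1 hEC hu) (h.Se u hu)
  exact huA (centralizer_le h.TS (hEC h1))

theorem type_two (hp2 : p ≠ 2) (hr : PRankLE p 2 G) {n : ℕ} (hG : Nat.card G = p ^ n)
    (hA : ∀ a ∈ centralizer (T : Set G), ⁅u, a⁆ ∈ Z) :
    3 ≤ n ∧ ∃ x y z : G, Subgroup.closure ({x, y, z} : Set G) = ⊤ ∧ x ^ p = 1 ∧ y ^ p = 1 ∧
      z ^ p ^ (n - 2) = 1 ∧ x * z = z * x ∧ y * z = z * y ∧
      x⁻¹ * y * x = y * z ^ p ^ (n - 3) := by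
  have hP := IsPGroup.of_card hG
  have hp1 := hp.out.one_lt
  have h3 : 3 ≤ n := by
    have := card_le_of_le (le_top : S ≤ ⊤)
    rw [card_top, hG, h.Sc] at this
    exact (Nat.pow_le_pow_iff_right hp1).1 this
  obtain ⟨m, rfl⟩ := Nat.exists_eq_add_of_le' h3
  obtain ⟨t, ht, htZ⟩ : ∃ t ∈ T, t ∉ Z := SetLike.not_le_iff_exists.1 fun e => by
    have := card_le_of_le e
    rw [h.Tc, h.Zc] at this
    nlinarith
  have hZ := h.zpowers_comm hu huA ht htZ
  have hrange : (h.phi hu).range = Z := by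
    refine le_antisymm (by rintro _ ⟨a, rfl⟩; exact hA a a.2) ?_
    exact hZ.ge.trans (zpowers_le.2 ⟨⟨t, h.T_le ht⟩, rfl⟩)
  obtain ⟨c, hc⟩ := h.exists_gen hu huA hp2 hP hr
  have hco : orderOf c = p ^ (m + 1) := by
    have := h.card_eq hu huA hP
    rw [hrange, h.Zc, hG, ← hc, Nat.card_zpowers, ← mul_assoc,
      show p ^ (m + 3) = p * p * p ^ (m + 1) by ring] at this
    exact (Nat.eq_of_mul_eq_mul_left (by positivity) this).symm
  have hZt : ⁅u, t⁆ ∈ Z := h.comm_mem' u ht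
  obtain ⟨k, hk, e⟩ := exists_eq_pow_mul hco (hc ▸ h.Z_le hZt) (h.Se _ (h.TS (h.ZT hZt)))
    (h.comm_ne hu huA ht htZ)
  have hcC : c ^ k ∈ centralizer (S : Set G) := pow_mem (hc ▸ mem_zpowers c) k
  refine ⟨h3, u⁻¹, t, c ^ k, ?_, by rw [inv_pow, h.Se u hu, inv_one], h.Se t (h.TS ht), ?_,
    hcC _ (inv_mem hu), hcC _ (h.TS ht), ?_⟩
  · refine h.eq_top hu huA hP (inv_mem_iff.1 (subset_closure (by simp))) ?_ fun a ha => ?_
    · rw [← hc, zpowers_le]
      refine mem_of_zpow_mem_of_isPGroup hP (j := k) (by exact_mod_cast hk) ?_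
      rw [zpow_natCast]
      exact subset_closure (by simp)
    · have h1 := hA a ha
      rw [← hZ] at h1
      obtain ⟨j, hj⟩ := mem_zpowers_iff.1 h1
      refine ⟨t ^ j, zpow_mem (subset_closure (by simp)) j, zpow_mem (h.T_le ht) j, ?_⟩
      rw [← hj, commutator_zpow_right (commute_of_mem_center (h.ZZ hZt) t)]
  · rw [← pow_mul, mul_comm, pow_mul, show m + 3 - 2 = m + 1 by omega, ← hco,
      pow_orderOf_eq_one, one_pow]
  · rw [← pow_mul, show m + 3 - 3 = m by omega, ← e, (commute_of_mem_center (h.ZZ hZt) t).eq]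
    simp only [commutatorElement_def]
    group

omit huA in
theorem comm_pow (g : G) (b : ℕ) : ∃ z ∈ Z, ⁅u ^ b, g⁆ = ⁅u, g⁆ ^ b * z := by
  induction b with
  | zero => exact ⟨1, one_mem _, by simp⟩
  | succ b ih =>
    obtain ⟨z, hz, e⟩ := ih
    have h1 : ⁅u, g⁆ ^ b ∈ T := pow_mem (h.comm_mem hu g) b
    have h2 := h.comm_mem' u h1
    refine ⟨⁅u, ⁅u, g⁆ ^ b⁆ * z, mul_mem h2 hz, ?_⟩
    have h3 : ⁅u ^ (b + 1), g⁆ = u * ⁅u ^ b, g⁆ * u⁻¹ * ⁅u, g⁆ := by
      simp only [commutatorElement_def, pow_succ']; group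
    have h4 : u * (⁅u, g⁆ ^ b * z) * u⁻¹ = ⁅u, ⁅u, g⁆ ^ b⁆ * ⁅u, g⁆ ^ b * (u * z * u⁻¹) := by
      generalize ⁅u, g⁆ ^ b = w
      simp only [commutatorElement_def]; group
    rw [h3, e, h4, (commute_of_mem_center (h.ZZ hz) u).eq, mul_inv_cancel_right,
      ← (commute_of_mem_center (h.ZZ h2) _).eq, mul_assoc _ _ z, mul_assoc,
      ← (commute_of_mem_center (h.ZZ (mul_mem h2 hz)) _).eq, ← mul_assoc, ← pow_succ]

theorem type_three_aux (hp2 : p ≠ 2) (hr : PRankLE p 2 G) {n : ℕ} (hG : Nat.card G = p ^ n)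
    {g : G} (hg : g ∈ centralizer (T : Set G)) (hgZ : ⁅u, g⁆ ∉ Z) :
    4 ≤ n ∧ orderOf g = p ^ (n - 2) ∧ Subgroup.closure ({u⁻¹, ⁅u, g⁆, g} : Set G) = ⊤ ∧
      ∃ k : ℕ, ¬ p ∣ k ∧ ⁅u, ⁅u, g⁆⁆ = g ^ (k * p ^ (n - 3)) := by
  haveI := h.Sn
  have hP := IsPGroup.of_card hG
  have hp1 := hp.out.one_lt
  have hy : ⁅u, g⁆ ∈ T := h.comm_mem hu g
  have hZ := h.zpowers_comm hu huA hy hgZ
  have hT : Z ⊔ zpowers ⁅u, g⁆ = T :=
    sup_zpowers_eq_of_card (p := p) h.ZT (by rw [h.Tc, h.Zc]; ring) hy hgZ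
  have hrange : (h.phi hu).range = T := by
    refine le_antisymm (by rintro _ ⟨a, rfl⟩; exact h.comm_mem hu a) ?_
    refine hT.ge.trans (sup_le (hZ.ge.trans ?_) ?_)
    · exact zpowers_le.2 ⟨⟨_, h.T_le hy⟩, rfl⟩
    · exact zpowers_le.2 ⟨⟨g, hg⟩, rfl⟩
  obtain ⟨c, hc⟩ := h.exists_gen hu huA hp2 hP hr
  have hcC : c ∈ centralizer (S : Set G) := hc ▸ mem_zpowers c
  have hcard := h.card_eq hu huA hP
  rw [hrange, h.Tc, hG] at hcard
  obtain ⟨m, hm⟩ := card_eq_pow hP (centralizer (S : Set G))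
  have hm1 : 1 ≤ m := by
    have := card_le_of_le h.Z_le
    rw [h.Zc, hm] at this
    exact (Nat.pow_le_pow_iff_right hp1).1 ((pow_one p).le.trans this)
  have hn : n = m + 3 := by
    rw [hm, show p * (p ^ 2 * p ^ m) = p ^ (m + 3) by ring] at hcard
    exact Nat.pow_right_injective hp1 hcard
  subst hn
  have hgC : g ∉ centralizer (S : Set G) := fun e =>
    hgZ (commutatorElement_eq_one_iff_commute.2 (e u hu) ▸ one_mem Z)
  have hgp : g ^ p ∈ centralizer (S : Set G) := by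
    refine h.mem_cent hu huA (pow_mem hg p) ?_
    rw [commutator_pow_right (show Commute _ _ from hg _ hy).symm, h.Te.2 _ hy]
  have hcg : c ∈ zpowers g := by
    by_contra e
    obtain ⟨i, hi⟩ := odd_exists_pow_eq_one hp2 (m := m) (by rw [← Nat.card_zpowers, hc, hm])
      (by rw [hc, normalizer_eq_top]; trivial) (hc ▸ hgp) e
    have h1 := not_pow_of_rank hr h.Te h.Tc
      (mul_mem (zpow_mem (centralizer_le h.TS hcC) i) hg) hi
    have h2 := h.comm_mem' u h1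
    have h3 : Commute u (c ^ i) := zpow_mem hcC i u hu
    rw [commutator_mul_right_of_commute (show Commute _ _ from zpow_mem hcC i _ (h.TS hy)).symm,
      commutatorElement_eq_one_iff_commute.2 h3, one_mul] at h2
    exact hgZ h2
  have hCg : centralizer (S : Set G) ≤ zpowers g := hc ▸ zpowers_le.2 hcg
  have hgo : orderOf g = p ^ (m + 1) := by
    have := card_sup_zpowers hp.out (by rw [normalizer_eq_top]; trivial) hgC hgp
    rwa [sup_of_le_right hCg, Nat.card_zpowers, hm, ← pow_succ'] at this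
  have hZy := h.comm_mem' u hy
  refine ⟨by omega, hgo, ?_, exists_eq_pow_mul hgo (hCg (h.Z_le hZy))
    (h.Se _ (h.TS (h.ZT hZy))) (h.comm_ne hu huA hy hgZ)⟩
  refine h.eq_top hu huA hP (inv_mem_iff.1 (subset_closure (by simp)))
    (hCg.trans (zpowers_le.2 (subset_closure (by simp)))) fun a ha => ?_
  have h1 := h.comm_mem hu a
  rw [← hT] at h1
  obtain ⟨z, hz, j, e⟩ := (mem_sup_zpowers (centralizer_le_normalizer _ fun z hz =>
    (commute_of_mem_center (h.ZZ hz) _).symm.eq)).1 h1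
  rw [← hZ] at hz
  obtain ⟨i, rfl⟩ := mem_zpowers_iff.1 hz
  refine ⟨⁅u, g⁆ ^ i * g ^ j, mul_mem (zpow_mem (subset_closure (by simp)) i)
    (zpow_mem (subset_closure (by simp)) j), mul_mem (zpow_mem (h.T_le hy) i) (zpow_mem hg j), ?_⟩
  have := map_mul (h.phi hu) (⟨_, h.T_le hy⟩ ^ i) (⟨g, hg⟩ ^ j)
  rw [map_zpow, map_zpow] at this
  exact this.trans e.symm

theorem type_three (hp2 : p ≠ 2) (hr : PRankLE p 2 G) {n : ℕ} (hG : Nat.card G = p ^ n)
    {g : G} (hg : g ∈ centralizer (T : Set G)) (hgZ : ⁅u, g⁆ ∉ Z) :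
    4 ≤ n ∧ ∃ (s : ℕ) (x y z : G), (s = 1 ∨ ¬ IsSquare (s : ZMod p)) ∧
      Subgroup.closure ({x, y, z} : Set G) = ⊤ ∧ x ^ p = 1 ∧ y ^ p = 1 ∧ z ^ p ^ (n - 2) = 1 ∧
      y * z = z * y ∧ x⁻¹ * y * x = y * z ^ (s * p ^ (n - 3)) ∧ x⁻¹ * z * x = y * z := by
  have key : ∀ v ∈ S, v ∉ centralizer (T : Set G) → ⁅v, g⁆ ∉ Z → ∀ s : ℕ,
      ⁅v, ⁅v, g⁆⁆ = g ^ (s * p ^ (n - 3)) → ∃ x y z : G,
      Subgroup.closure ({x, y, z} : Set G) = ⊤ ∧ x ^ p = 1 ∧ y ^ p = 1 ∧ z ^ p ^ (n - 2) = 1 ∧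
      y * z = z * y ∧ x⁻¹ * y * x = y * z ^ (s * p ^ (n - 3)) ∧ x⁻¹ * z * x = y * z := by
    intro v hv hvA hvg s e
    obtain ⟨-, h1, h2, -⟩ := h.type_three_aux hv hvA hp2 hr hG hg hvg
    have hy := h.comm_mem hv g
    refine ⟨v⁻¹, ⁅v, g⁆, g, h2, by rw [inv_pow, h.Se v hv, inv_one], h.Te.2 _ hy,
      h1 ▸ pow_orderOf_eq_one g, hg _ hy, ?_, by simp only [commutatorElement_def]; group⟩
    rw [← e, (commute_of_mem_center (h.ZZ (h.comm_mem' v hy)) _).eq]
    generalize ⁅v, g⁆ = w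
    simp only [commutatorElement_def]; group
  obtain ⟨h4, ho, -, k, hk, e⟩ := h.type_three_aux hu huA hp2 hr hG hg hgZ
  refine ⟨h4, ?_⟩
  by_cases hs : IsSquare (k : ZMod p)
  swap
  · obtain ⟨x, y, z, h1⟩ := key u hu huA hgZ k e
    exact ⟨k, x, y, z, Or.inr hs, h1⟩
  obtain ⟨a, ha⟩ := hs
  have ha0 : a ≠ 0 := by
    rintro rfl
    exact hk ((ZMod.natCast_eq_zero_iff k p).1 (by simpa using ha))
  set b := (a⁻¹).val with hb
  have hb1 : ((k * (b * b) : ℕ) : ZMod p) = (1 : ℕ) := by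
    push_cast
    rw [hb, ZMod.natCast_zmod_val, ha]
    field_simp
  have hb0 : ¬ (p : ℤ) ∣ b := fun e => by
    have : ((b : ℕ) : ZMod p) = 0 := (ZMod.natCast_eq_zero_iff b p).2 (by exact_mod_cast e)
    rw [hb, ZMod.natCast_zmod_val] at this
    exact ha0 (inv_eq_zero.1 this)
  have hP := IsPGroup.of_card hG
  obtain ⟨z, hz, ez⟩ := h.comm_pow hu g b
  have hy := h.comm_mem hu g
  have hZy := h.ZZ (h.comm_mem' u hy)
  obtain ⟨x, y, z, h1⟩ := key (u ^ b) (pow_mem hu b)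
    (fun e => huA (mem_of_zpow_mem_of_isPGroup hP hb0 (by simpa using e)))
    (fun e => hgZ (mem_of_zpow_mem_of_isPGroup hP hb0 (by
      rw [ez] at e
      simpa using mul_mem e (inv_mem hz)))) 1 (by
      have h2 : ⁅u, ⁅u, g⁆ ^ b * z⁆ = ⁅u, ⁅u, g⁆⁆ ^ b := by
        have h3 : ⁅u, z⁆ = 1 :=
          commutatorElement_eq_one_iff_commute.2 (commute_of_mem_center (h.ZZ hz) u)
        rw [commutator_mul_right_of_commute (h3 ▸ Commute.one_right _), h3, mul_one,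
          commutator_pow_right (commute_of_mem_center hZy _)]
      rw [ez, commutator_pow_left (h2 ▸ commute_of_mem_center (pow_mem hZy b) u), h2, e,
        ← pow_mul, ← pow_mul, pow_eq_pow_iff_modEq, ho, show n - 2 = n - 3 + 1 by omega,
        pow_succ', mul_right_comm]
      exact ((ZMod.natCast_eq_natCast_iff _ _ _).1 hb1).mul_right' _)
  exact ⟨1, x, y, z, Or.inl rfl, h1⟩

end Cube

end H9
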