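import Cfsg.Agent.H25.Tri

set_option autoImplicit false

/-! Counting products of two involutions equal to an element of order 5 or 10. -/

namespace H9.Dih
open Subgroup H25 Finset
variable {G : Type*} [Group G] [Finite G] {w : G} (hw : orderOf w = 10) (hC : centralizer ({w ^ 2} : Set G) ≤ zpowers w)
include hw hC

theorem inv2 {a : G} (h : a * w ^ 2 * a⁻¹ = (w ^ 2)⁻¹) : a * w * a⁻¹ = w⁻¹ := by
  obtain ⟨k, hk⟩ := mem_powers_iff_mem_zpowers.2 (hC (x := a * w * a⁻¹) (mem_centralizer_singleton_iff.2 (by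
    have : Commute (a * w * a⁻¹) ((a * w * a⁻¹) ^ 2) := (Commute.refl _).pow_right 2
    rw [conj_pow, h] at this
    exact (Commute.inv_right_iff.1 this).eq)))
  simp only at hk
  have e2 : 10 ∣ k * 2 + 2 := by rw [← hw, orderOf_dvd_iff_pow_eq_one, pow_add, pow_mul, hk, conj_pow, h, inv_mul_cancel]
  have e5 : ¬10 ∣ k * 5 := by
    rw [← hw, orderOf_dvd_iff_pow_eq_one, pow_mul, hk, conj_pow, conj_eq_one_iff, ← orderOf_dvd_iff_pow_eq_one, hw]; omega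
  rw [← hk, eq_inv_iff_mul_eq_one, ← pow_succ, ← orderOf_dvd_iff_pow_eq_one, hw]; omega

theorem inv1 {g h a b : G} {j : ℕ} (hj : j = 6 ∨ j = 1) (hg : g ^ 2 = 1) (hh : h ^ 2 = 1) (c : IsConj g a) (d : IsConj h b)
    (e : a * b = w ^ j) : a ^ 2 = 1 ∧ a * w * a⁻¹ = w⁻¹ := by
  have a2 : a ^ 2 = 1 := by obtain ⟨x, rfl⟩ := isConj_iff.1 c; rw [conj_pow, hg]; group
  have b2 : b ^ 2 = 1 := by obtain ⟨x, rfl⟩ := isConj_iff.1 d; rw [conj_pow, hh]; group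
  have : a * (w ^ j) ^ 2 * a⁻¹ = ((w ^ j) ^ 2)⁻¹ := by
    rw [← conj_pow, ← e, ← mul_assoc, ← sq, a2, one_mul, ← inv_pow, mul_inv_rev, inv_eq_of_mul_eq_one_right (a := b) (sq b ▸ b2)]
  have k : (w ^ j) ^ 2 = w ^ 2 := by
    rw [← pow_mul, pow_eq_pow_iff_modEq, hw]; rcases hj with rfl | rfl <;> decide
  exact ⟨a2, inv2 hw hC (k ▸ this)⟩

theorem dih0 {g h : G} (hg : g ^ 2 = 1) (hh : h ^ 2 = 1) (hne : ncl g h (w ^ 6) ≠ 0 ∨ ncl g h w ≠ 0) :
    ∃ s, IsConj g s ∧ s ^ 2 = 1 ∧ s * w * s⁻¹ = w⁻¹ := by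
  rcases hne with n | n <;> obtain ⟨p, c, d, e⟩ := Set.nonempty_of_ncard_ne_zero n
  exacts [⟨p.1, c, inv1 hw hC (.inl rfl) hg hh c d e⟩, ⟨p.1, c, inv1 hw hC (.inr rfl) hg hh c d (e.trans (pow_one w).symm)⟩]

open Classical in
theorem cnt {s g h : G} (hs : s ^ 2 = 1) (hsw : s * w * s⁻¹ = w⁻¹) (hg : g ^ 2 = 1) (hh : h ^ 2 = 1) {j : ℕ} (hj : j = 6 ∨ j = 1) :
    ncl g h (w ^ j) = ((range 10).filter fun k => IsConj g (s * w ^ k) ∧ IsConj h (s * w ^ (k + j))).card := by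
  have si : s⁻¹ = s := inv_eq_of_mul_eq_one_right (sq s ▸ hs)
  have m : ∀ k, s * w ^ k * (s * w ^ (k + j)) = w ^ j := fun k => by
    rw [← mul_assoc, show s * w ^ k * s = (w ^ k)⁻¹ by rw [← inv_pow, ← hsw, conj_pow, si]]; group
  rw [← card_image_of_injOn (f := fun k => (s * w ^ k, s * w ^ (k + j))) fun k a l b e => pow_injOn_Iio_orderOf
    (by simpa [hw] using (mem_filter.1 a).1) (by simpa [hw] using (mem_filter.1 b).1) (mul_left_cancel (Prod.mk.inj e).1),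
    ← Set.ncard_coe_finset, ncl]
  congr 1; ext ⟨a, b⟩
  simp only [Set.mem_setOf_eq, coe_image, Set.mem_image, mem_coe, mem_filter, mem_range, Prod.mk.injEq]
  refine ⟨fun ⟨c, d, e⟩ => ?_, by rintro ⟨k, ⟨-, c, d⟩, rfl, rfl⟩; exact ⟨c, d, m k⟩⟩
  have i := (inv1 hw hC hj hg hh c d e).2
  obtain ⟨k, hk, f⟩ := (mem_zpowers_iff_mem_range_orderOf.1 (hC (x := s⁻¹ * a) (mem_centralizer_singleton_iff.2 (by
    refine (Commute.pow_right (?_ : s⁻¹ * a * w = w * (s⁻¹ * a)) 2).eq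
    calc s⁻¹ * a * w = s⁻¹ * (a * w * a⁻¹) * a := by group
      _ = s⁻¹ * (s * w * s⁻¹) * a := by rw [i, hsw]
      _ = _ := by group))) |> mem_image.1)
  have ea : s * w ^ k = a := by rw [f]; group
  have eb : s * w ^ (k + j) = b := mul_left_cancel (a := a) (by rw [e, ← ea, m])
  exact ⟨k, ⟨by simpa [hw] using hk, ea ▸ c, eb ▸ d⟩, ea, eb⟩

theorem dih {s g h : G} (hs : s ^ 2 = 1) (hsw : s * w * s⁻¹ = w⁻¹) (hg : g ^ 2 = 1) (hh : h ^ 2 = 1) [Decidable (IsConj g s)]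
    [Decidable (IsConj g (s * w ^ 5))] [Decidable (IsConj h s)] [Decidable (IsConj h (s * w ^ 5))] :
    ncl g h (w ^ 6) = 5 * ((if IsConj g s ∧ IsConj h s then 1 else 0) +
      (if IsConj g (s * w ^ 5) ∧ IsConj h (s * w ^ 5) then 1 else 0)) ∧
    ncl g h w = 5 * ((if IsConj g s ∧ IsConj h (s * w ^ 5) then 1 else 0) + (if IsConj g (s * w ^ 5) ∧ IsConj h s then 1 else 0)) := by
  have si : s⁻¹ = s := inv_eq_of_mul_eq_one_right (sq s ▸ hs)
  have st : ∀ k l, IsConj (s * w ^ k) (s * w ^ (k + 2 * l)) := fun k l => isConj_iff.2 ⟨(w ^ l)⁻¹, by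
    have : (w ^ l)⁻¹ = s * w ^ l * s⁻¹ := by rw [← inv_pow, ← hsw, conj_pow]
    rw [inv_inv, this]; group⟩
  obtain ⟨P, p0, par⟩ : ∃ P : G → ℕ → Prop, (∀ g, IsConj g s ↔ P g 0) ∧ ∀ g k, IsConj g (s * w ^ k) ↔ P g (k % 2) :=
    ⟨fun g k => IsConj g (s * w ^ k), fun g => by simp only [pow_zero, mul_one], fun g k => by
      have e := st (k % 2) (k / 2)
      rw [Nat.mod_add_div] at e
      exact ⟨fun c => c.trans e.symm, fun c => c.trans e⟩⟩
  have := cnt hw hC hs hsw hg hh (.inr rfl)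
  rw [pow_one] at this
  rw [this, cnt hw hC hs hsw hg hh (.inl rfl), card_filter, card_filter]
  classical
  simp only [sum_range_succ, par, p0, Nat.reduceAdd, Nat.reduceMod, sum_range_zero]
  by_cases P g 0 <;> by_cases P g 1 <;> by_cases P h 0 <;> by_cases P h 1 <;> simp [*]
end H9.Dih
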