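import Cfsg.Agent.H8.Dc11
import Mathlib.GroupTheory.Perm.Centralizer

set_option autoImplicit false
set_option linter.unusedSectionVars false
open Subgroup Equiv

namespace H9.Pone

theorem exσ {C : Type*} [Group C] [Finite C] {z : C} (hz : orderOf z = 2) (cz : z ∈ center C)
    (y : Fin 11 → C) (h3 : ∀ i, i ≠ 0 → i ≠ 1 → y i ^ 3 = 1)
    (h2 : ∀ i j, i ≠ 0 → i ≠ 1 → j ≠ 0 → j ≠ 1 → i ≠ j → (y i * y j) ^ 2 = z)
    (hle : Nat.card C ≤ 39916800) :
    ∃ σ : C →* Perm (Fin 11), σ.ker = zpowers z ∧ σ.range = alternatingGroup (Fin 11) ∧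
      ∀ i, i ≠ 0 → i ≠ 1 → σ (y i) = H7.c3 0 1 i := by
  have zc : zpowers z ≤ center C := zpowers_le.2 cz
  haveI nZ : (zpowers z).Normal := ⟨fun n hn g => by
    rwa [mem_center_iff.1 (zc hn) g, mul_inv_cancel_right]⟩
  have cZ : Nat.card (zpowers z) = 2 := by rw [Nat.card_zpowers, hz]
  obtain ⟨ψ, hψ⟩ := H7.exists_hom_carm (G := C ⧸ zpowers z) (a := (0 : Fin 11)) (b := 1)
    (by decide) (fun i => (y i : C ⧸ zpowers z))
    (fun i a b => by rw [← QuotientGroup.mk_pow, h3 i a b, QuotientGroup.mk_one])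
    (fun i j a b c d e => by
      rw [← QuotientGroup.mk_mul, ← QuotientGroup.mk_pow, h2 i j a b c d e,
        QuotientGroup.eq_one_iff]
      exact mem_zpowers z)
  have hs := alternatingGroup.isSimpleGroup (α := Fin 11) (by simp)
  have h23 := h2 2 3 (by decide) (by decide) (by decide) (by decide) (by decide)
  have h32 := h3 2 (by decide) (by decide)
  have h33 := h3 3 (by decide) (by decide)
  have inj : Function.Injective ψ := by
    refine (MonoidHom.ker_eq_bot_iff ψ).1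
      ((Subgroup.Normal.eq_bot_or_eq_top inferInstance).resolve_right fun h => ?_)
    have h1 := hψ 2 (by decide) (by decide)
      ⟨_, Equiv.Perm.mem_alternatingGroup.2 (H7.sign_c3 (by decide) (by decide))⟩ rfl
    rw [MonoidHom.mem_ker.1 (h ▸ Subgroup.mem_top _), eq_comm, QuotientGroup.eq_one_iff] at h1
    have h4 : y 2 ^ 2 = 1 := by
      have := pow_card_eq_one' (x := (⟨y 2, h1⟩ : zpowers z))
      rw [cZ] at this
      exact congrArg Subtype.val this
    have h5 : y 2 = 1 := by rw [pow_succ, h4, one_mul] at h32; exact h32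
    rw [h5, one_mul] at h23
    have h6 : z ^ 3 = 1 := by rw [← h23, ← pow_mul, mul_comm, pow_mul, h33, one_pow]
    have := orderOf_dvd_of_pow_eq_one h6
    rw [hz] at this
    omega
  have cA : Nat.card (alternatingGroup (Fin 11)) = 19958400 := by
    have := two_mul_nat_card_alternatingGroup (α := Fin 11)
    rw [Nat.card_perm, Nat.card_fin, show Nat.factorial 11 = 39916800 from rfl] at this
    omega
  have cQ := (zpowers z).card_eq_card_quotient_mul_card_subgroup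
  rw [cZ] at cQ
  have bij : Function.Bijective ψ :=
    inj.bijective_of_nat_card_le (by omega)
  let e := MulEquiv.ofBijective ψ bij
  refine ⟨(alternatingGroup (Fin 11)).subtype.comp
    (e.symm.toMonoidHom.comp (QuotientGroup.mk' (zpowers z))), ?_, ?_, fun i a b => ?_⟩
  · ext g
    simp [MonoidHom.mem_ker]
  · ext g
    constructor
    · rintro ⟨x, rfl⟩
      exact SetLike.coe_mem _
    · intro hg
      obtain ⟨x, hx⟩ := QuotientGroup.mk_surjective (e ⟨g, hg⟩)
      exact ⟨x, by simp [hx]⟩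
  · have := hψ i a b ⟨_, Equiv.Perm.mem_alternatingGroup.2 (H7.sign_c3 (by decide) a)⟩ rfl
    have h1 : e.symm (y i : C ⧸ zpowers z) =
        ⟨_, Equiv.Perm.mem_alternatingGroup.2 (H7.sign_c3 (by decide : (0 : Fin 11) ≠ 1) a)⟩ :=
      (MulEquiv.symm_apply_eq e).2 this.symm
    simpa using congrArg Subtype.val h1

section
variable {k : Fin 11} (k0 : k ≠ 0) (k1 : k ≠ 1)
include k0 k1

theorem c0 : H7.c3 (0 : Fin 11) 1 k 0 = k := by
  simp [H7.c3, swap_apply_of_ne_of_ne k0 k1]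

theorem ck : H7.c3 (0 : Fin 11) 1 k k = 1 := by
  simp [H7.c3]

theorem c1 : H7.c3 (0 : Fin 11) 1 k 1 = 0 := by
  rw [H7.c3, Perm.mul_apply, swap_apply_of_ne_of_ne (by decide) k1.symm, swap_apply_right]

omit k0 k1 in
theorem cx {x : Fin 11} (h : x ≠ 0 ∧ x ≠ 1 ∧ x ≠ k) : H7.c3 (0 : Fin 11) 1 k x = x := by
  rw [H7.c3, Perm.mul_apply, swap_apply_of_ne_of_ne h.1 h.2.2, swap_apply_of_ne_of_ne h.1 h.2.1]

omit k0 k1 in
theorem comm_of {g : Perm (Fin 11)} (a : g 0 = 0) (b : g 1 = 1) (c : g k = k) :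
    g * H7.c3 0 1 k = H7.c3 0 1 k * g := by
  have := H7.conj_c3 g 0 1 k
  rw [a, b, c] at this
  exact mul_inv_eq_iff_eq_mul.1 this

theorem decomp {g : Perm (Fin 11)} (hg : g * H7.c3 0 1 k = H7.c3 0 1 k * g) :
    ∃ j : ℕ, (H7.c3 0 1 k ^ j * g) 0 = 0 ∧ (H7.c3 0 1 k ^ j * g) 1 = 1 ∧
      (H7.c3 0 1 k ^ j * g) k = k := by
  have key : ∀ j : ℕ, (H7.c3 0 1 k ^ j * g) 0 = 0 → (H7.c3 0 1 k ^ j * g) 0 = 0 ∧
      (H7.c3 0 1 k ^ j * g) 1 = 1 ∧ (H7.c3 0 1 k ^ j * g) k = k := fun j h => by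
    have hc : Commute (H7.c3 0 1 k ^ j * g) (H7.c3 0 1 k) :=
      ((Commute.refl _).pow_left j).mul_left hg
    have e := fun x => congrArg (fun p : Perm (Fin 11) => p x) hc.eq
    have e0 := e 0
    have ek := e k
    simp only [Perm.mul_apply] at e0 ek h ⊢
    rw [c0 k0 k1, h, c0 k0 k1] at e0
    rw [ck k0 k1, e0, ck k0 k1] at ek
    exact ⟨h, ek, e0⟩
  by_cases a : g 0 = 0
  · exact ⟨0, key 0 (by simpa)⟩
  by_cases b : g 0 = 1
  · exact ⟨1, key 1 (by rw [pow_one, Perm.mul_apply, b, c1 k0 k1])⟩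
  by_cases c : g 0 = k
  · exact ⟨2, key 2 (by rw [sq, Perm.mul_apply, Perm.mul_apply, c, ck k0 k1, c1 k0 k1])⟩
  have e0 := congrArg (fun p : Perm (Fin 11) => p 0) hg
  simp only [Perm.mul_apply] at e0
  rw [c0 k0 k1, cx ⟨a, b, c⟩] at e0
  exact absurd (g.injective e0) k0

omit k0 k1 in
theorem pick : ∃ i j a b : Fin 11, (i ≠ 0 ∧ i ≠ 1 ∧ i ≠ k) ∧ (j ≠ 0 ∧ j ≠ 1 ∧ j ≠ k) ∧
    (a ≠ 0 ∧ a ≠ 1 ∧ a ≠ k) ∧ (b ≠ 0 ∧ b ≠ 1 ∧ b ≠ k) ∧ i ≠ j ∧ i ≠ a ∧ i ≠ b ∧ j ≠ a ∧ j ≠ b ∧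
    a ≠ b := by
  by_cases h : k < 6
  · refine ⟨6, 7, 8, 9, ?_⟩
    revert k; decide
  · refine ⟨2, 3, 4, 5, ?_⟩
    revert k; decide

theorem cardC : Nat.card (alternatingGroup (Fin 11) ⊓ centralizer {H7.c3 (0 : Fin 11) 1 k} :
    Subgroup (Perm (Fin 11))) = 60480 := by
  have h3 : (H7.c3 (0 : Fin 11) 1 k).cycleType = {3} :=
    Perm.isThreeCycle_swap_mul_swap_same (by decide) k0.symm k1.symm
  have h1 := Perm.nat_card_centralizer (H7.c3 (0 : Fin 11) 1 k)
  rw [h3] at h1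
  have h2 : Nat.card (centralizer {H7.c3 (0 : Fin 11) 1 k}) = 120960 := by
    rw [h1]; simp [Nat.factorial]
  obtain ⟨i, j, a, b, hi, hj, -, -, ij, -⟩ := pick (k := k)
  have hm : swap i j ∈ centralizer {H7.c3 (0 : Fin 11) 1 k} :=
    mem_centralizer_singleton_iff.2 (comm_of (swap_apply_of_ne_of_ne hi.1.symm hj.1.symm)
      (swap_apply_of_ne_of_ne hi.2.1.symm hj.2.1.symm)
      (swap_apply_of_ne_of_ne hi.2.2.symm hj.2.2.symm))
  have hr : (alternatingGroup (Fin 11)).relIndex (centralizer {H7.c3 (0 : Fin 11) 1 k}) = 2 := by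
    have d := relIndex_dvd_index_of_normal (alternatingGroup (Fin 11))
      (centralizer {H7.c3 (0 : Fin 11) 1 k})
    rw [alternatingGroup.index_eq_two] at d
    rcases (Nat.dvd_prime Nat.prime_two).1 d with h | h
    · have := relIndex_eq_one.1 h hm
      rw [Perm.mem_alternatingGroup, Perm.sign_swap ij] at this
      exact absurd this (by decide)
    · exact h
  have := ((alternatingGroup (Fin 11)).subgroupOf
    (centralizer {H7.c3 (0 : Fin 11) 1 k})).card_mul_index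
  rw [h2, ← relIndex, hr, ← inf_subgroupOf_right,
    Nat.card_congr (subgroupOfEquivOfLe inf_le_right).toEquiv] at this
  omega
end

theorem core {C : Type*} [Group C] [Finite C] {z : C} (hz : orderOf z = 2) (cz : z ∈ center C)
    (y : Fin 11 → C) (h3 : ∀ i, i ≠ 0 → i ≠ 1 → y i ^ 3 = 1)
    (h2 : ∀ i j, i ≠ 0 → i ≠ 1 → j ≠ 0 → j ≠ 1 → i ≠ j → (y i * y j) ^ 2 = z)
    (hle : Nat.card C ≤ 39916800) (k : Fin 11) (k0 : k ≠ 0) (k1 : k ≠ 1) :
    orderOf (y k) = 3 ∧ Nat.card (centralizer {y k} : Subgroup C) = 120960 ∧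
    ∀ R : Subgroup C, R ≤ centralizer {y k} → y k ∈ R →
      (∀ g ∈ centralizer ({y k} : Set C), ∀ r ∈ R, g * r * g⁻¹ ∈ R) →
      R = zpowers (y k) ∨ R = zpowers (y k) ⊔ zpowers z ∨ R = centralizer {y k} := by
  classical
  obtain ⟨σ, hk, hr, hy⟩ := exσ hz cz y h3 h2 hle
  have zz : z ^ 2 = 1 := by rw [← hz, pow_orderOf_eq_one]
  have kz : ∀ g, σ g = 1 → g = 1 ∨ g = z := fun g hg => by
    have h1 : g ∈ zpowers z := hk ▸ MonoidHom.mem_ker.2 hg
    rw [mem_zpowers_iff_mem_range_orderOf, hz] at h1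
    simp only [Finset.mem_image, Finset.mem_range] at h1
    obtain ⟨n, hn, rfl⟩ := h1
    interval_cases n <;> simp
  have zcm : ∀ g, g * z = z * g := mem_center_iff.1 cz
  have yk := hy k k0 k1
  have hB : ∀ g, g ∈ centralizer ({y k} : Set C) ↔ σ g * H7.c3 0 1 k = H7.c3 0 1 k * σ g :=
    fun g => by
    rw [mem_centralizer_singleton_iff]
    refine ⟨fun h => by rw [← yk, ← map_mul, ← map_mul, h], fun h => ?_⟩
    rcases kz ((y k)⁻¹ * (g * y k * g⁻¹)) (by
      simp only [map_mul, map_inv, yk, h]; group) with e | e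
    · rw [inv_mul_eq_one] at e
      rw [← mul_inv_eq_iff_eq_mul, ← e]
    · rw [inv_mul_eq_iff_eq_mul] at e
      have h4 : (y k * z) ^ 3 = 1 := by rw [← e, conj_pow, h3 k k0 k1]; simp
      rw [(show Commute (y k) z from zcm _).mul_pow, h3 k k0 k1, one_mul] at h4
      have := orderOf_dvd_of_pow_eq_one h4
      rw [hz] at this
      omega
  have sg : ∀ g, Perm.sign (σ g) = 1 := fun g =>
    Perm.mem_alternatingGroup.1 (hr ▸ (⟨g, rfl⟩ : σ g ∈ σ.range))
  have su : ∀ p : Perm (Fin 11), Perm.sign p = 1 → ∃ g, σ g = p := fun p hp =>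
    show p ∈ σ.range from hr ▸ Perm.mem_alternatingGroup.2 hp
  haveI : Fact (Nat.Prime 3) := ⟨Nat.prime_three⟩
  refine ⟨orderOf_eq_prime (h3 k k0 k1) fun e => ?_, ?_, fun R hR hx hn => ?_⟩
  · have := c0 k0 k1
    rw [← yk, e, map_one] at this
    exact k0 this.symm
  · have e1 : centralizer ({y k} : Set C) =
        (alternatingGroup (Fin 11) ⊓ centralizer {H7.c3 (0 : Fin 11) 1 k}).comap σ := by
      ext g
      rw [hB, mem_comap, mem_inf, mem_centralizer_singleton_iff, Perm.mem_alternatingGroup]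
      simp [sg]
    have e2 : (centralizer ({y k} : Set C)).map σ =
        alternatingGroup (Fin 11) ⊓ centralizer {H7.c3 (0 : Fin 11) 1 k} := by
      rw [e1, map_comap_eq, hr, ← inf_assoc, inf_idem]
    have e3 : σ.ker ≤ centralizer ({y k} : Set C) := by rw [e1]; exact ker_le_comap _ _
    have e4 := (σ.comp (centralizer ({y k} : Set C)).subtype).ker.card_mul_index
    rw [index_ker, MonoidHom.range_comp, range_subtype, e2, cardC k0 k1, ← MonoidHom.comap_ker,
      comap_subtype, Nat.card_congr (subgroupOfEquivOfLe e3).toEquiv, hk, Nat.card_zpowers,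
      hz] at e4
    omega
  let p : Fin 11 → Prop := fun x => x ≠ 0 ∧ x ≠ 1 ∧ x ≠ k
  have hs := alternatingGroup.isSimpleGroup (α := Subtype p) (by
    rw [Nat.card_eq_fintype_card, Fintype.card_subtype]
    have : ∀ k : Fin 11, 5 ≤ (Finset.univ.filter fun x : Fin 11 => x ≠ 0 ∧ x ≠ 1 ∧ x ≠ k).card := by
      decide
    convert this k)
  let φ : alternatingGroup (Subtype p) →* Perm (Fin 11) :=
    Perm.ofSubtype.comp (alternatingGroup (Subtype p)).subtype
  have φc : ∀ h, ∃ g ∈ centralizer ({y k} : Set C), σ g = φ h := fun h => by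
    obtain ⟨g, hg⟩ := su (φ h) (by
      simp only [φ, MonoidHom.comp_apply, Perm.sign_ofSubtype]; exact h.2)
    refine ⟨g, (hB g).2 ?_, hg⟩
    rw [hg]
    exact comm_of (Perm.ofSubtype_apply_of_not_mem _ (by simp [p]))
      (Perm.ofSubtype_apply_of_not_mem _ (by simp [p]))
      (Perm.ofSubtype_apply_of_not_mem _ (by simp [p]))
  have dec : ∀ g ∈ centralizer ({y k} : Set C), ∃ (j : ℕ) (h : _), σ (y k ^ j * g) = φ h :=
    fun g hg => by
    obtain ⟨j, a, b, c⟩ := decomp k0 k1 ((hB g).1 hg)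
    rw [← yk, ← map_pow, ← map_mul] at a b c
    have q : ∀ x, σ (y k ^ j * g) x ≠ x → p x := fun x hx =>
      ⟨fun e => hx (by rw [e, a]), fun e => hx (by rw [e, b]), fun e => hx (by rw [e, c])⟩
    have q1 : ∀ x, p (σ (y k ^ j * g) x) ↔ p x := fun x => by
      have w : ∀ u, σ (y k ^ j * g) u = u → (σ (y k ^ j * g) x ≠ u ↔ x ≠ u) := fun u hu =>
        not_congr ⟨fun e => (σ _).injective (e.trans hu.symm), fun e => e ▸ e ▸ hu⟩
      exact and_congr (w _ a) (and_congr (w _ b) (w _ c))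
    have q2 := Perm.ofSubtype_subtypePerm q1 q
    refine ⟨j, ⟨Perm.subtypePerm _ q1, ?_⟩, q2.symm⟩
    rw [Perm.mem_alternatingGroup, ← Perm.sign_ofSubtype, q2, sg]
  have nN : ((R.map σ).comap φ).Normal := ⟨fun n hn' h => by
    obtain ⟨r, hr', e⟩ := mem_comap.1 hn'
    obtain ⟨g, hg, e'⟩ := φc h
    exact mem_comap.2 ⟨_, hn g hg r hr', by simp only [map_mul, map_inv, e, e']⟩⟩
  rcases nN.eq_bot_or_eq_top with h | h
  · have key : ∀ r ∈ R, ∃ j : ℕ, y k ^ j * r = 1 ∨ y k ^ j * r = z := fun r hr' => by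
      obtain ⟨j, w, e⟩ := dec r (hR hr')
      have : w ∈ (R.map σ).comap φ := mem_comap.2 ⟨_, mul_mem (pow_mem hx j) hr', e⟩
      rw [h, mem_bot] at this
      rw [this, map_one] at e
      exact ⟨j, kz _ e⟩
    by_cases hz' : z ∈ R
    · refine Or.inr (Or.inl (le_antisymm (fun r hr' => ?_)
        (sup_le (zpowers_le.2 hx) (zpowers_le.2 hz'))))
      obtain ⟨j, e⟩ := key r hr'
      rw [← (zpowers (y k) ⊔ zpowers z).mul_mem_cancel_left
        (pow_mem (mem_sup_left (mem_zpowers _)) j)]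
      rcases e with e | e <;> rw [e]
      · exact one_mem _
      · exact mem_sup_right (mem_zpowers _)
    · refine Or.inl (le_antisymm (fun r hr' => ?_) (zpowers_le.2 hx))
      obtain ⟨j, e⟩ := key r hr'
      rw [← (zpowers (y k)).mul_mem_cancel_left (pow_mem (mem_zpowers _) j),
        e.resolve_right fun e => hz' (e ▸ mul_mem (pow_mem hx j) hr')]
      exact one_mem _
  · have key : ∀ g ∈ centralizer ({y k} : Set C), g ∈ R ∨ g * z ∈ R := fun g hg => by
      obtain ⟨j, w, e⟩ := dec g hg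
      obtain ⟨r, hr', e'⟩ := mem_comap.1 (h ▸ mem_top w : w ∈ (R.map σ).comap φ)
      have m : r⁻¹ * y k ^ j ∈ R := mul_mem (inv_mem hr') (pow_mem hx j)
      rcases kz (r⁻¹ * y k ^ j * g) (by rw [mul_assoc, map_mul, e, map_inv, e', inv_mul_cancel])
        with f | f
      · exact Or.inl ((R.mul_mem_cancel_left m).1 (f ▸ one_mem _))
      · refine Or.inr ((R.mul_mem_cancel_left m).1 ?_)
        rw [← mul_assoc, f, ← sq, zz]
        exact one_mem _
    have sq3 : ∀ u ∈ centralizer ({y k} : Set C), u ^ 3 = 1 → u ∈ R := fun u hu h3' => by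
      rcases key u hu with f | f
      · exact f
      · have := pow_mem f 4
        rwa [(show Commute u z from zcm _).mul_pow, pow_succ u 3, h3', one_mul,
          show 4 = 2 * 2 from rfl, pow_mul, zz, one_pow, mul_one] at this
    obtain ⟨i, j, a, b, hi, hj, ha, hb, ij, ia, ib, ja, jb, ab⟩ := pick (k := k)
    obtain ⟨g, hg⟩ := su (swap 0 a * swap 1 b) (by
      rw [map_mul, Perm.sign_swap ha.1.symm, Perm.sign_swap hb.2.1.symm]; simp)
    have cj : ∀ i, (i ≠ 0 ∧ i ≠ 1 ∧ i ≠ k) → i ≠ a → i ≠ b → g * y i * g⁻¹ ∈ R := fun i hi ia ib => by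
      refine sq3 _ ((hB _).2 ?_) (by rw [conj_pow, h3 i hi.1 hi.2.1]; simp)
      rw [map_mul, map_mul, map_inv, hy i hi.1 hi.2.1, H7.conj_c3, hg]
      simp only [Perm.mul_apply]
      rw [swap_apply_of_ne_of_ne (by decide : (0 : Fin 11) ≠ 1) hb.1.symm, swap_apply_left,
        swap_apply_left, swap_apply_of_ne_of_ne hb.1 ab.symm, swap_apply_of_ne_of_ne hi.2.1 ib,
        swap_apply_of_ne_of_ne hi.1 ia]
      have m := H7.c3_mem_AS (T := {x | p x}) ab ia ha hb hi
      exact comm_of (m.2 _ (by simp [p])) (m.2 _ (by simp [p])) (m.2 _ (by simp [p]))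
    have hz' : z ∈ R := by
      have := pow_mem (mul_mem (cj i hi ia ib) (cj j hj ja jb)) 2
      rwa [conj_mul, conj_pow, h2 i j hi.1 hi.2.1 hj.1 hj.2.1 ij, zcm, mul_inv_cancel_right] at this
    exact Or.inr (Or.inr (le_antisymm hR fun u hu =>
      (key u hu).elim id fun f => (R.mul_mem_cancel_right hz').1 f))

theorem p1 {G : Type*} [Group G] [Finite G] {t : G} (ht : orderOf t = 2) (y : Fin 11 → G)
    (hc : ∀ i, i ≠ 0 → i ≠ 1 → Commute (y i) t) (h3 : ∀ i, i ≠ 0 → i ≠ 1 → y i ^ 3 = 1)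
    (h2 : ∀ i j, i ≠ 0 → i ≠ 1 → j ≠ 0 → j ≠ 1 → i ≠ j → (y i * y j) ^ 2 = t)
    (hle : Nat.card (centralizer ({t} : Set G)) ≤ 39916800) (k : Fin 11) (k0 : k ≠ 0) (k1 : k ≠ 1) :
    orderOf (y k) = 3 ∧ Nat.card (centralizer ({t} : Set G) ⊓ centralizer {y k} : Subgroup G) = 120960 ∧
    ∀ R : Subgroup G, R ≤ centralizer {t} ⊓ centralizer {y k} → y k ∈ R →
      (∀ g ∈ centralizer ({t} : Set G) ⊓ centralizer {y k}, ∀ r ∈ R, g * r * g⁻¹ ∈ R) →
      R = zpowers (y k) ∨ R = zpowers (y k) ⊔ zpowers t ∨ R = centralizer {t} ⊓ centralizer {y k} := by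
  classical
  let x : centralizer ({t} : Set G) := ⟨y k, mem_centralizer_singleton_iff.2 (hc k k0 k1)⟩
  let z : centralizer ({t} : Set G) := ⟨t, mem_centralizer_singleton_iff.2 rfl⟩
  let Y : Fin 11 → centralizer ({t} : Set G) := fun i =>
    if h : i ≠ 0 ∧ i ≠ 1 then ⟨y i, mem_centralizer_singleton_iff.2 (hc i h.1 h.2)⟩ else 1
  have hY : Y k = x := dif_pos ⟨k0, k1⟩
  obtain ⟨a, b, c⟩ := core (z := z) (by rw [Subgroup.orderOf_mk, ht])
    (mem_center_iff.2 fun g => Subtype.ext (mem_centralizer_singleton_iff.1 g.2)) Y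
    (fun i a b => by
      simp only [Y]
      rw [dif_pos ⟨a, b⟩]
      exact Subtype.ext (h3 i a b))
    (fun i j a b c d e => by
      simp only [Y]
      rw [dif_pos ⟨a, b⟩, dif_pos ⟨c, d⟩]
      exact Subtype.ext (h2 i j a b c d e)) hle k k0 k1
  rw [hY] at a b c
  have e : (centralizer ({t} : Set G) ⊓ centralizer {y k}).subgroupOf (centralizer {t}) =
      centralizer {x} := by
    ext g
    rw [mem_subgroupOf, mem_inf, mem_centralizer_singleton_iff (g := y k),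
      mem_centralizer_singleton_iff (g := x), Subtype.ext_iff]
    simp [x]
  refine ⟨by rwa [Subgroup.orderOf_mk] at a, ?_, fun R hR hx hn => ?_⟩
  · rw [← b, ← e, Nat.card_congr (subgroupOfEquivOfLe inf_le_left).toEquiv]
  have hR' : (R.subgroupOf (centralizer {t})).map (centralizer ({t} : Set G)).subtype = R :=
    map_subgroupOf_eq_of_le (hR.trans inf_le_left)
  rcases c (R.subgroupOf _) (e ▸ fun g hg => hR hg) hx
    (fun g hg r hr => hn g (by rw [← e] at hg; exact hg) r hr) with h | h | h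
  · exact Or.inl (by rw [← hR', h, MonoidHom.map_zpowers]; rfl)
  · exact Or.inr (Or.inl (by
      rw [← hR', h, Subgroup.map_sup, MonoidHom.map_zpowers, MonoidHom.map_zpowers]; rfl))
  · exact Or.inr (Or.inr (by rw [← hR', h, ← e, map_subgroupOf_eq_of_le inf_le_left]))

end H9.Pone
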