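import Cfsg.Agent.H9.Fr22
/-! The subgroups of order 13 and 11 of M(22). -/
namespace H9
open Cfsg H27 H28 H16 Subgroup
set_option Elab.async false
set_option maxRecDepth 100000
variable {G : Type*} [Group G] [Finite G] {D : Set G} {ε : Nat → G} {xs : List G}
def xa13 : Ex := .w [1, 5, 0, 7, 8, 3, 2, 4]
def ta13 : Ex := .w [2, 1, 3, 2, 0, 4, 1, 2, 3, 7, 8, 4, 2, 3, 7, 5, 4, 3, 2, 0, 1, 8, 4, 3, 7, 5, 4, 3, 8, 5, 3, 7, 4, 3, 2, 3, 4, 7, 3, 4, 5, 8, 1, 2, 3, 7, 4, 3, 2, 1, 0, 1, 2, 3, 4, 7, 3, 2, 1, 7, 8, 3, 7, 4, 3, 2, 3, 4, 7, 3, 8, 7, 2, 0, 4]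
def da13 : Px := (3, .w [6, 5, 4])
def ra13 : List (Px × Nat) := [((0, .w []), 1), ((1, .w []), 2), ((1, .w [3, 2]), 1), ((2, .w []), 2), ((5, .w []), 1), ((3, .w []), 1), ((3, .w [5, 4]), 1), ((3, .w [7]), 1), ((2, .w [3, 7, 4, 3]), 1), ((4, .w []), 3), ((1, .w [6, 5, 4, 3, 2]), 2), ((0, .w [8, 3, 7, 4, 3, 2, 1]), 1), ((7, .w []), 3), ((6, .w []), 1), ((1, .w [8, 3, 7, 4, 3, 2]), 1), ((1, .w [8, 7, 6, 5, 4, 3, 2]), 1), ((2, .w [3, 7, 6, 5, 4, 3]), 1), ((0, .w [4, 3, 7, 5, 4, 3, 2, 1]), 1), ((0, .w [1, 2, 3, 7, 4, 3, 2, 1]), 1), ((2, .w [8, 3, 7, 5, 4, 3]), 1), ((0, .w [2, 3, 7, 6, 5, 4, 3, 2, 1]), 1), ((0, .w [4, 3, 7, 6, 5, 4, 3, 2, 1]), 1), ((0, .w [8, 3, 7, 6,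 5, 4, 3, 2, 1]), 1), ((1, .w [2, 3, 7, 6, 5, 4, 3, 2]), 1), ((1, .w [4, 3, 7, 6, 5, 4, 3, 2]), 1), ((1, .w [8, 3, 7, 6, 5, 4, 3, 2]), 1), ((1, .w [8, 4, 3, 7, 6, 5, 4, 3, 2]), 1), ((2, .w [5, 4, 3, 7, 6, 5, 4, 3]), 1), ((1, .w [8, 2, 3, 7, 6, 5, 4, 3, 2]), 1), ((0, .w [8, 1, 2, 3, 7, 5, 4, 3, 2, 1]), 1), ((1, .w [3, 4, 2, 3, 7, 5, 4, 3, 2]), 1), ((2, .w [8, 3, 7, 6, 5, 4, 3]), 1), ((0, .w [4, 1, 2, 3, 7, 6, 5, 4, 3, 2, 1]), 1), ((0, .w [8, 1, 2, 3, 7, 6, 5, 4, 3, 2, 1]), 1), ((0, .w [3, 4, 2, 3, 7, 6, 5, 4, 3, 2, 1]), 1), ((0, .w [8, 5, 4, 3, 7, 6, 5, 4, 3, 2, 1]), 1), ((1, .w [5, 4, 2, 3, 7, 6, 5, 4, 3, 2]), 1), ((0, .w [3, 4, 1, 2, 3, 7, 5, 4, 3, 2, 1]), 1), ((1,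 .w [3, 4, 2, 3, 7, 6, 5, 4, 3, 2]), 1), ((1, .w [8, 5, 4, 3, 7, 6, 5, 4, 3, 2]), 1), ((0, .w [3, 4, 1, 2, 3, 7, 6, 5, 4, 3, 2, 1]), 1), ((1, .w [8, 3, 4, 2, 3, 7, 6, 5, 4, 3, 2]), 1), ((0, .w [5, 3, 4, 2, 3, 7, 6, 5, 4, 3, 2, 1]), 1), ((0, .w [7, 3, 4, 2, 3, 7, 6, 5, 4, 3, 2, 1]), 1), ((0, .w [3, 7, 8, 2, 3, 7, 6, 5, 4, 3, 2, 1]), 1), ((0, .w [3, 7, 8, 4, 2, 3, 7, 5, 4, 3, 2, 1]), 2), ((0, .w [2, 3, 7, 8, 1, 2, 3, 7, 4, 3, 2, 1]), 1), ((1, .w [5, 3, 4, 2, 3, 7, 6, 5, 4, 3, 2]), 1), ((2, .w [3, 7, 8, 4, 3, 7, 6, 5, 4, 3]), 1), ((1, .w [8, 7, 3, 4, 2, 3, 7, 6, 5, 4, 3, 2]), 1), ((0, .w [8, 5, 3, 4, 2, 3, 7, 6, 5, 4, 3, 2, 1]), 1), ((0, .w [8, 7, 3, 4, 1, 2, 3, 7, 5,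 4, 3, 2, 1]), 2), ((1, .w [1, 2, 3, 7, 8, 4, 3, 7, 5, 4, 3, 2]), 3), ((1, .w [4, 3, 7, 8, 4, 2, 3, 7, 5, 4, 3, 2]), 1), ((0, .w [6, 5, 4, 3, 7, 8, 2, 3, 7, 4, 3, 2, 1]), 2), ((1, .w [8, 5, 3, 4, 2, 3, 7, 6, 5, 4, 3, 2]), 1), ((1, .w [3, 7, 8, 4, 2, 3, 7, 6, 5, 4, 3, 2]), 1), ((1, .w [6, 5, 4, 3, 7, 8, 2, 3, 7, 4, 3, 2]), 2), ((0, .w [5, 2, 3, 4, 1, 2, 3, 7, 6, 5, 4, 3, 2, 1]), 1), ((0, .w [7, 2, 3, 4, 1, 2, 3, 7, 6, 5, 4, 3, 2, 1]), 1), ((0, .w [8, 5, 3, 4, 1, 2, 3, 7, 6, 5, 4, 3, 2, 1]), 2), ((0, .w [8, 7, 3, 4, 1, 2, 3, 7, 6, 5, 4, 3, 2, 1]), 1), ((0, .w [3, 7, 8, 4, 1, 2, 3, 7, 6, 5, 4, 3, 2, 1]), 1), ((0, .w [2, 3, 7, 8, 1, 2, 3, 7, 6, 5, 4, 3, 2, 1]), 2), ((1,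 .w [7, 8, 7, 3, 4, 2, 3, 7, 6, 5, 4, 3, 2]), 1), ((0, .w [8, 7, 5, 3, 4, 2, 3, 7, 6, 5, 4, 3, 2, 1]), 1), ((1, .w [3, 7, 8, 5, 4, 2, 3, 7, 6, 5, 4, 3, 2]), 1), ((1, .w [5, 4, 3, 7, 8, 2, 3, 7, 6, 5, 4, 3, 2]), 1), ((0, .w [5, 4, 3, 7, 8, 2, 3, 7, 6, 5, 4, 3, 2, 1]), 1), ((2, .w [4, 3, 7, 8, 5, 4, 3, 7, 6, 5, 4, 3]), 1), ((1, .w [2, 3, 7, 8, 5, 4, 3, 7, 6, 5, 4, 3, 2]), 1), ((0, .w [1, 2, 3, 7, 8, 4, 3, 7, 6, 5, 4, 3, 2, 1]), 1), ((0, .w [5, 4, 3, 7, 8, 4, 2, 3, 7, 5, 4, 3, 2, 1]), 2), ((1, .w [6, 5, 4, 3, 7, 8, 2, 3, 7, 5, 4, 3, 2]), 2), ((1, .w [2, 3, 7, 8, 4, 2, 3, 7, 6, 5, 4, 3, 2]), 1), ((1, .w [4, 3, 7, 8, 4, 2, 3, 7, 6, 5, 4, 3, 2]), 1), ((2, .w [2, 3, 7, 8,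 5, 4, 3, 7, 6, 5, 4, 3]), 1), ((1, .w [1, 2, 3, 7, 8, 4, 3, 7, 6, 5, 4, 3, 2]), 1), ((1, .w [1, 2, 3, 7, 8, 4, 2, 3, 7, 5, 4, 3, 2]), 2), ((0, .w [3, 7, 2, 3, 4, 1, 2, 3, 7, 6, 5, 4, 3, 2, 1]), 2), ((0, .w [4, 3, 7, 8, 4, 1, 2, 3, 7, 6, 5, 4, 3, 2, 1]), 1), ((2, .w [4, 1, 2, 3, 7, 8, 5, 4, 3, 7, 6, 5, 4, 3]), 2), ((0, .w [2, 3, 7, 8, 3, 4, 2, 3, 7, 6, 5, 4, 3, 2, 1]), 1), ((0, .w [4, 3, 7, 8, 3, 4, 2, 3, 7, 6, 5, 4, 3, 2, 1]), 1), ((0, .w [2, 3, 7, 8, 5, 4, 2, 3, 7, 6, 5, 4, 3, 2, 1]), 1), ((0, .w [1, 2, 3, 7, 8, 4, 2, 3, 7, 6, 5, 4, 3, 2, 1]), 1), ((0, .w [6, 5, 4, 3, 7, 8, 2, 3, 7, 6, 5, 4, 3, 2, 1]), 1), ((0, .w [0, 1, 2, 3, 7, 8, 4, 3, 7, 6, 5, 4, 3, 2, 1]), 1),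 ((0, .w [6, 5, 4, 3, 7, 8, 4, 2, 3, 7, 5, 4, 3, 2, 1]), 1), ((1, .w [2, 3, 7, 8, 5, 4, 2, 3, 7, 6, 5, 4, 3, 2]), 1), ((1, .w [1, 2, 3, 7, 8, 4, 2, 3, 7, 6, 5, 4, 3, 2]), 1), ((1, .w [5, 4, 3, 7, 8, 4, 2, 3, 7, 6, 5, 4, 3, 2]), 1), ((1, .w [6, 5, 4, 3, 7, 8, 2, 3, 7, 6, 5, 4, 3, 2]), 1), ((1, .w [6, 5, 4, 3, 7, 8, 4, 2, 3, 7, 5, 4, 3, 2]), 1), ((0, .w [4, 3, 7, 2, 3, 4, 1, 2, 3, 7, 6, 5, 4, 3, 2, 1]), 2), ((1, .w [2, 3, 7, 4, 5, 3, 4, 2, 3, 7, 6, 5, 4, 3, 2]), 2), ((0, .w [2, 3, 7, 8, 3, 4, 1, 2, 3, 7, 6, 5, 4, 3, 2, 1]), 1), ((0, .w [1, 2, 3, 7, 8, 4, 1, 2, 3, 7, 6, 5, 4, 3, 2, 1]), 1), ((1, .w [2, 3, 7, 8, 7, 3, 4, 2, 3, 7, 6, 5, 4, 3, 2]), 1), ((0, .w [3, 4, 2, 3,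 7, 8, 1, 2, 3, 7, 6, 5, 4, 3, 2, 1]), 1), ((2, .w [3, 4, 1, 2, 3, 7, 8, 5, 4, 3, 7, 6, 5, 4, 3]), 2), ((1, .w [1, 2, 3, 7, 8, 5, 4, 2, 3, 7, 6, 5, 4, 3, 2]), 1), ((1, .w [4, 3, 7, 8, 7, 3, 4, 2, 3, 7, 6, 5, 4, 3, 2]), 1), ((0, .w [5, 4, 3, 7, 8, 5, 4, 2, 3, 7, 6, 5, 4, 3, 2, 1]), 1), ((0, .w [0, 1, 2, 3, 7, 8, 4, 2, 3, 7, 6, 5, 4, 3, 2, 1]), 1), ((0, .w [4, 1, 2, 3, 7, 8, 4, 2, 3, 7, 6, 5, 4, 3, 2, 1]), 1), ((1, .w [4, 3, 7, 8, 5, 3, 4, 2, 3, 7, 6, 5, 4, 3, 2]), 1), ((0, .w [6, 5, 4, 3, 7, 8, 4, 2, 3, 7, 6, 5, 4, 3, 2, 1]), 1), ((1, .w [4, 1, 2, 3, 7, 8, 4, 2, 3, 7, 6, 5, 4, 3, 2]), 2), ((0, .w [4, 1, 2, 3, 7, 8, 5, 4, 3, 7, 6, 5, 4, 3, 2, 1]), 2), ((0, .w [3, 4, 2,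 3, 7, 8, 5, 4, 3, 7, 6, 5, 4, 3, 2, 1]), 1), ((0, .w [6, 5, 4, 3, 7, 8, 4, 1, 2, 3, 7, 5, 4, 3, 2, 1]), 1), ((1, .w [3, 4, 2, 3, 7, 8, 3, 4, 2, 3, 7, 5, 4, 3, 2]), 1), ((2, .w [0, 1, 2, 3, 7, 8, 4, 3, 7, 6, 5, 4, 3]), 1), ((1, .w [0, 1, 2, 3, 7, 8, 4, 2, 3, 7, 6, 5, 4, 3, 2]), 1), ((1, .w [6, 5, 4, 3, 7, 8, 4, 2, 3, 7, 6, 5, 4, 3, 2]), 1), ((1, .w [3, 4, 2, 3, 7, 8, 5, 4, 3, 7, 6, 5, 4, 3, 2]), 1), ((0, .w [2, 3, 7, 8, 2, 3, 4, 1, 2, 3, 7, 6, 5, 4, 3, 2, 1]), 1), ((0, .w [6, 5, 4, 3, 7, 8, 4, 1, 2, 3, 7, 6, 5, 4, 3, 2, 1]), 1), ((0, .w [5, 3, 4, 2, 3, 7, 8, 1, 2, 3, 7, 6, 5, 4, 3, 2, 1]), 1), ((0, .w [2, 3, 7, 8, 4, 5, 3, 4, 2, 3, 7, 6, 5, 4, 3, 2, 1]), 2), ((0, .w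 [2, 3, 7, 8, 7, 5, 3, 4, 2, 3, 7, 6, 5, 4, 3, 2, 1]), 1), ((0, .w [3, 4, 2, 3, 7, 8, 3, 4, 2, 3, 7, 6, 5, 4, 3, 2, 1]), 1), ((0, .w [0, 1, 2, 3, 7, 8, 5, 4, 2, 3, 7, 6, 5, 4, 3, 2, 1]), 1), ((0, .w [4, 1, 2, 3, 7, 8, 5, 4, 2, 3, 7, 6, 5, 4, 3, 2, 1]), 1), ((0, .w [6, 5, 4, 3, 7, 8, 5, 4, 2, 3, 7, 6, 5, 4, 3, 2, 1]), 1), ((0, .w [3, 4, 1, 2, 3, 7, 8, 5, 4, 3, 7, 6, 5, 4, 3, 2, 1]), 1), ((0, .w [6, 5, 3, 4, 2, 3, 7, 8, 1, 2, 3, 7, 5, 4, 3, 2, 1]), 1), ((0, .w [6, 5, 4, 3, 7, 8, 7, 3, 4, 2, 3, 7, 5, 4, 3, 2, 1]), 1), ((0, .w [6, 5, 4, 2, 3, 7, 8, 3, 4, 2, 3, 7, 5, 4, 3, 2, 1]), 1), ((1, .w [4, 3, 7, 8, 4, 5, 3, 4, 2, 3, 7, 6, 5, 4, 3, 2]), 2), ((1, .w [2, 3, 7, 8, 7,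 5, 3, 4, 2, 3, 7, 6, 5, 4, 3, 2]), 1), ((1, .w [3, 4, 2, 3, 7, 8, 3, 4, 2, 3, 7, 6, 5, 4, 3, 2]), 1), ((1, .w [0, 1, 2, 3, 7, 8, 5, 4, 2, 3, 7, 6, 5, 4, 3, 2]), 1), ((1, .w [6, 5, 4, 3, 7, 8, 5, 4, 2, 3, 7, 6, 5, 4, 3, 2]), 1), ((1, .w [5, 4, 1, 2, 3, 7, 8, 4, 2, 3, 7, 6, 5, 4, 3, 2]), 1), ((1, .w [3, 4, 1, 2, 3, 7, 8, 5, 4, 3, 7, 6, 5, 4, 3, 2]), 1), ((1, .w [6, 5, 4, 3, 7, 8, 7, 3, 4, 2, 3, 7, 5, 4, 3, 2]), 1), ((1, .w [6, 5, 4, 2, 3, 7, 8, 3, 4, 2, 3, 7, 5, 4, 3, 2]), 1), ((1, .w [6, 5, 4, 1, 2, 3, 7, 8, 4, 2, 3, 7, 5, 4, 3, 2]), 1), ((0, .w [2, 3, 7, 8, 5, 2, 3, 4, 1, 2, 3, 7, 6, 5, 4, 3, 2, 1]), 1), ((0, .w [4, 3, 7, 8, 5, 2, 3, 4, 1, 2, 3, 7, 6, 5, 4, 3, 2, 1]),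 1), ((0, .w [2, 3, 7, 8, 7, 2, 3, 4, 1, 2, 3, 7, 6, 5, 4, 3, 2, 1]), 1), ((0, .w [1, 2, 3, 7, 8, 2, 3, 4, 1, 2, 3, 7, 6, 5, 4, 3, 2, 1]), 1), ((1, .w [3, 4, 2, 3, 7, 8, 5, 3, 4, 2, 3, 7, 6, 5, 4, 3, 2]), 1), ((0, .w [4, 1, 2, 3, 7, 8, 3, 4, 1, 2, 3, 7, 6, 5, 4, 3, 2, 1]), 1), ((0, .w [3, 4, 2, 3, 7, 8, 3, 4, 1, 2, 3, 7, 6, 5, 4, 3, 2, 1]), 3), ((0, .w [7, 3, 4, 2, 3, 7, 8, 4, 1, 2, 3, 7, 6, 5, 4, 3, 2, 1]), 1), ((0, .w [8, 7, 3, 4, 2, 3, 7, 8, 1, 2, 3, 7, 6, 5, 4, 3, 2, 1]), 1), ((1, .w [1, 2, 3, 7, 8, 4, 5, 3, 4, 2, 3, 7, 6, 5, 4, 3, 2]), 1), ((1, .w [4, 3, 7, 8, 7, 4, 5, 3, 4, 2, 3, 7, 6, 5, 4, 3, 2]), 2), ((1, .w [5, 3, 4, 2, 3, 7, 8, 5, 4, 2, 3, 7, 6, 5, 4, 3,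 2]), 1), ((1, .w [4, 1, 2, 3, 7, 8, 5, 3, 4, 2, 3, 7, 6, 5, 4, 3, 2]), 1), ((1, .w [5, 4, 1, 2, 3, 7, 8, 5, 4, 2, 3, 7, 6, 5, 4, 3, 2]), 1), ((0, .w [6, 5, 4, 2, 3, 7, 8, 3, 4, 2, 3, 7, 6, 5, 4, 3, 2, 1]), 1), ((0, .w [8, 7, 3, 4, 2, 3, 7, 8, 5, 4, 3, 7, 6, 5, 4, 3, 2, 1]), 1), ((1, .w [0, 1, 2, 3, 7, 8, 7, 3, 4, 2, 3, 7, 6, 5, 4, 3, 2]), 1), ((1, .w [6, 5, 4, 2, 3, 7, 8, 3, 4, 2, 3, 7, 6, 5, 4, 3, 2]), 1), ((1, .w [7, 3, 4, 2, 3, 7, 8, 5, 4, 2, 3, 7, 6, 5, 4, 3, 2]), 1), ((1, .w [3, 4, 0, 1, 2, 3, 7, 8, 5, 4, 3, 7, 6, 5, 4, 3, 2]), 2), ((0, .w [2, 3, 7, 8, 7, 5, 2, 3, 4, 1, 2, 3, 7, 6, 5, 4, 3, 2, 1]), 1), ((0, .w [5, 4, 3, 7, 8, 5, 2, 3, 4, 1, 2, 3, 7, 6, 5, 4, 3,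 2, 1]), 3), ((0, .w [1, 2, 3, 7, 8, 7, 2, 3, 4, 1, 2, 3, 7, 6, 5, 4, 3, 2, 1]), 1), ((0, .w [0, 1, 2, 3, 7, 8, 2, 3, 4, 1, 2, 3, 7, 6, 5, 4, 3, 2, 1]), 1), ((0, .w [4, 1, 2, 3, 7, 8, 2, 3, 4, 1, 2, 3, 7, 6, 5, 4, 3, 2, 1]), 1), ((0, .w [3, 4, 2, 3, 7, 8, 5, 3, 4, 1, 2, 3, 7, 6, 5, 4, 3, 2, 1]), 1), ((0, .w [3, 4, 1, 2, 3, 7, 8, 3, 4, 1, 2, 3, 7, 6, 5, 4, 3, 2, 1]), 1), ((0, .w [5, 3, 4, 2, 3, 7, 8, 3, 4, 1, 2, 3, 7, 6, 5, 4, 3, 2, 1]), 1), ((0, .w [5, 3, 4, 2, 3, 7, 8, 5, 4, 1, 2, 3, 7, 6, 5, 4, 3, 2, 1]), 1), ((0, .w [4, 1, 2, 3, 7, 8, 4, 5, 3, 4, 2, 3, 7, 6, 5, 4, 3, 2, 1]), 1), ((0, .w [3, 4, 2, 3, 7, 8, 4, 5, 3, 4, 2, 3, 7, 6, 5, 4, 3, 2, 1]), 1), ((0, .w [6, 5,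 4, 3, 7, 8, 4, 5, 3, 4, 2, 3, 7, 6, 5, 4, 3, 2, 1]), 3), ((0, .w [3, 4, 2, 3, 7, 8, 7, 5, 3, 4, 2, 3, 7, 6, 5, 4, 3, 2, 1]), 1), ((1, .w [7, 3, 4, 2, 3, 7, 8, 5, 3, 4, 2, 3, 7, 6, 5, 4, 3, 2]), 1), ((0, .w [6, 5, 3, 4, 1, 2, 3, 7, 8, 4, 1, 2, 3, 7, 5, 4, 3, 2, 1]), 1), ((1, .w [3, 4, 2, 3, 7, 8, 4, 5, 3, 4, 2, 3, 7, 6, 5, 4, 3, 2]), 1), ((1, .w [3, 4, 1, 2, 3, 7, 8, 5, 3, 4, 2, 3, 7, 6, 5, 4, 3, 2]), 1), ((1, .w [6, 5, 3, 4, 2, 3, 7, 8, 5, 4, 2, 3, 7, 6, 5, 4, 3, 2]), 2), ((0, .w [0, 1, 2, 3, 7, 8, 7, 2, 3, 4, 1, 2, 3, 7, 6, 5, 4, 3, 2, 1]), 1), ((0, .w [7, 3, 4, 2, 3, 7, 8, 2, 3, 4, 1, 2, 3, 7, 6, 5, 4, 3, 2, 1]), 3), ((0, .w [6, 5, 4, 2, 3, 7, 8, 2, 3, 4, 1, 2, 3,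 7, 6, 5, 4, 3, 2, 1]), 1), ((0, .w [0, 1, 2, 3, 7, 8, 4, 5, 3, 4, 1, 2, 3, 7, 6, 5, 4, 3, 2, 1]), 1), ((0, .w [3, 4, 2, 3, 7, 8, 7, 5, 3, 4, 1, 2, 3, 7, 6, 5, 4, 3, 2, 1]), 1), ((0, .w [3, 4, 1, 2, 3, 7, 8, 5, 3, 4, 1, 2, 3, 7, 6, 5, 4, 3, 2, 1]), 1), ((0, .w [3, 4, 1, 2, 3, 7, 8, 7, 3, 4, 1, 2, 3, 7, 6, 5, 4, 3, 2, 1]), 1), ((0, .w [3, 4, 0, 1, 2, 3, 7, 8, 3, 4, 1, 2, 3, 7, 6, 5, 4, 3, 2, 1]), 2), ((0, .w [2, 3, 4, 1, 2, 3, 7, 8, 3, 4, 1, 2, 3, 7, 6, 5, 4, 3, 2, 1]), 3), ((0, .w [8, 7, 3, 4, 2, 3, 7, 8, 3, 4, 1, 2, 3, 7, 6, 5, 4, 3, 2, 1]), 1), ((0, .w [5, 3, 4, 1, 2, 3, 7, 8, 5, 4, 1, 2, 3, 7, 6, 5, 4, 3, 2, 1]), 1), ((0, .w [6, 5, 4, 0, 1, 2, 3, 7, 8, 4, 1, 2, 3,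 7, 6, 5, 4, 3, 2, 1]), 2), ((0, .w [8, 7, 3, 4, 1, 2, 3, 7, 8, 4, 1, 2, 3, 7, 6, 5, 4, 3, 2, 1]), 1), ((1, .w [3, 4, 1, 2, 3, 7, 8, 7, 5, 3, 4, 2, 3, 7, 6, 5, 4, 3, 2]), 2), ((0, .w [8, 7, 3, 4, 2, 3, 7, 8, 5, 3, 4, 2, 3, 7, 6, 5, 4, 3, 2, 1]), 2), ((0, .w [6, 5, 3, 4, 2, 3, 7, 8, 7, 3, 4, 1, 2, 3, 7, 5, 4, 3, 2, 1]), 1), ((1, .w [6, 5, 4, 3, 7, 8, 7, 4, 5, 3, 4, 2, 3, 7, 6, 5, 4, 3, 2]), 1), ((1, .w [3, 4, 1, 2, 3, 7, 8, 4, 5, 3, 4, 2, 3, 7, 6, 5, 4, 3, 2]), 2), ((0, .w [0, 1, 2, 3, 7, 8, 4, 5, 2, 3, 4, 1, 2, 3, 7, 6, 5, 4, 3, 2, 1]), 1), ((0, .w [6, 5, 4, 3, 7, 8, 4, 5, 2, 3, 4, 1, 2, 3, 7, 6, 5, 4, 3, 2, 1]), 2), ((0, .w [5, 4, 1, 2, 3, 7, 8, 5, 2, 3, 4, 1, 2, 3,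 7, 6, 5, 4, 3, 2, 1]), 1), ((0, .w [5, 3, 4, 2, 3, 7, 8, 5, 2, 3, 4, 1, 2, 3, 7, 6, 5, 4, 3, 2, 1]), 1), ((0, .w [3, 4, 1, 2, 3, 7, 8, 7, 5, 3, 4, 1, 2, 3, 7, 6, 5, 4, 3, 2, 1]), 1), ((0, .w [5, 3, 4, 2, 3, 7, 8, 7, 5, 3, 4, 1, 2, 3, 7, 6, 5, 4, 3, 2, 1]), 1), ((0, .w [6, 5, 3, 4, 2, 3, 7, 8, 5, 3, 4, 1, 2, 3, 7, 6, 5, 4, 3, 2, 1]), 1), ((0, .w [3, 4, 0, 1, 2, 3, 7, 8, 7, 3, 4, 1, 2, 3, 7, 6, 5, 4, 3, 2, 1]), 3), ((0, .w [5, 3, 4, 0, 1, 2, 3, 7, 8, 5, 4, 1, 2, 3, 7, 6, 5, 4, 3, 2, 1]), 1), ((0, .w [6, 5, 3, 4, 1, 2, 3, 7, 8, 5, 4, 1, 2, 3, 7, 6, 5, 4, 3, 2, 1]), 1), ((0, .w [8, 7, 5, 3, 4, 2, 3, 7, 8, 5, 4, 1, 2, 3, 7, 6, 5, 4, 3, 2, 1]), 1), ((1, .w [3, 4, 0, 1, 2,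 3, 7, 8, 7, 5, 3, 4, 2, 3, 7, 6, 5, 4, 3, 2]), 2), ((0, .w [3, 4, 2, 3, 7, 8, 3, 4, 5, 2, 3, 4, 1, 2, 3, 7, 6, 5, 4, 3, 2, 1]), 1), ((0, .w [7, 3, 4, 2, 3, 7, 8, 4, 5, 2, 3, 4, 1, 2, 3, 7, 6, 5, 4, 3, 2, 1]), 1), ((0, .w [3, 4, 2, 3, 7, 8, 3, 7, 5, 2, 3, 4, 1, 2, 3, 7, 6, 5, 4, 3, 2, 1]), 3), ((0, .w [6, 5, 3, 4, 2, 3, 7, 8, 5, 2, 3, 4, 1, 2, 3, 7, 6, 5, 4, 3, 2, 1]), 1), ((0, .w [6, 5, 4, 0, 1, 2, 3, 7, 8, 2, 3, 4, 1, 2, 3, 7, 6, 5, 4, 3, 2, 1]), 2), ((0, .w [3, 4, 1, 2, 3, 7, 8, 7, 4, 5, 3, 4, 1, 2, 3, 7, 6, 5, 4, 3, 2, 1]), 1), ((0, .w [3, 4, 0, 1, 2, 3, 7, 8, 7, 5, 3, 4, 1, 2, 3, 7, 6, 5, 4, 3, 2, 1]), 1), ((0, .w [8, 7, 3, 4, 2, 3, 7, 8, 7, 5, 3, 4, 1, 2, 3, 7,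 6, 5, 4, 3, 2, 1]), 1), ((0, .w [5, 3, 4, 0, 1, 2, 3, 7, 8, 5, 3, 4, 1, 2, 3, 7, 6, 5, 4, 3, 2, 1]), 1), ((0, .w [8, 7, 5, 3, 4, 2, 3, 7, 8, 5, 3, 4, 1, 2, 3, 7, 6, 5, 4, 3, 2, 1]), 1), ((0, .w [3, 7, 4, 5, 3, 4, 2, 3, 7, 8, 3, 4, 1, 2, 3, 7, 6, 5, 4, 3, 2, 1]), 1), ((0, .w [6, 5, 3, 4, 0, 1, 2, 3, 7, 8, 5, 4, 1, 2, 3, 7, 6, 5, 4, 3, 2, 1]), 1), ((0, .w [8, 7, 3, 4, 0, 1, 2, 3, 7, 8, 5, 4, 1, 2, 3, 7, 6, 5, 4, 3, 2, 1]), 1), ((0, .w [3, 4, 5, 2, 3, 4, 1, 2, 3, 7, 8, 3, 4, 2, 3, 7, 6, 5, 4, 3, 2, 1]), 1), ((0, .w [3, 4, 1, 2, 3, 7, 8, 3, 4, 5, 2, 3, 4, 1, 2, 3, 7, 6, 5, 4, 3, 2, 1]), 1), ((0, .w [5, 3, 4, 2, 3, 7, 8, 3, 4, 5, 2, 3, 4, 1, 2, 3, 7, 6, 5, 4, 3, 2, 1]),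 1), ((0, .w [7, 3, 4, 2, 3, 7, 8, 3, 4, 5, 2, 3, 4, 1, 2, 3, 7, 6, 5, 4, 3, 2, 1]), 1), ((0, .w [5, 3, 4, 1, 2, 3, 7, 8, 4, 5, 2, 3, 4, 1, 2, 3, 7, 6, 5, 4, 3, 2, 1]), 1), ((0, .w [6, 5, 4, 1, 2, 3, 7, 8, 4, 5, 2, 3, 4, 1, 2, 3, 7, 6, 5, 4, 3, 2, 1]), 1), ((0, .w [3, 4, 1, 2, 3, 7, 8, 3, 7, 5, 2, 3, 4, 1, 2, 3, 7, 6, 5, 4, 3, 2, 1]), 1), ((0, .w [8, 7, 5, 3, 4, 2, 3, 7, 8, 5, 2, 3, 4, 1, 2, 3, 7, 6, 5, 4, 3, 2, 1]), 1), ((0, .w [5, 3, 4, 1, 2, 3, 7, 8, 7, 4, 5, 3, 4, 1, 2, 3, 7, 6, 5, 4, 3, 2, 1]), 1), ((0, .w [5, 2, 3, 4, 1, 2, 3, 7, 8, 4, 5, 3, 4, 1, 2, 3, 7, 6, 5, 4, 3, 2, 1]), 1), ((0, .w [6, 5, 3, 4, 1, 2, 3, 7, 8, 7, 5, 3, 4, 1, 2, 3, 7, 6, 5, 4, 3, 2, 1]), 1),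 ((0, .w [1, 2, 3, 4, 0, 1, 2, 3, 7, 8, 5, 3, 4, 1, 2, 3, 7, 6, 5, 4, 3, 2, 1]), 1), ((0, .w [6, 5, 3, 4, 0, 1, 2, 3, 7, 8, 5, 3, 4, 1, 2, 3, 7, 6, 5, 4, 3, 2, 1]), 2), ((0, .w [8, 3, 7, 2, 3, 4, 1, 2, 3, 7, 8, 5, 4, 1, 2, 3, 7, 6, 5, 4, 3, 2, 1]), 1), ((0, .w [8, 7, 6, 5, 3, 4, 1, 2, 3, 7, 8, 5, 4, 1, 2, 3, 7, 6, 5, 4, 3, 2, 1]), 1), ((0, .w [2, 3, 7, 4, 5, 3, 4, 2, 3, 7, 8, 5, 4, 1, 2, 3, 7, 6, 5, 4, 3, 2, 1]), 1), ((0, .w [3, 4, 0, 1, 2, 3, 7, 8, 3, 4, 5, 2, 3, 4, 1, 2, 3, 7, 6, 5, 4, 3, 2, 1]), 2), ((0, .w [5, 2, 3, 4, 1, 2, 3, 7, 8, 4, 5, 2, 3, 4, 1, 2, 3, 7, 6, 5, 4, 3, 2, 1]), 2), ((0, .w [6, 5, 3, 4, 1, 2, 3, 7, 8, 4, 5, 2, 3, 4, 1, 2, 3, 7, 6, 5, 4, 3, 2, 1]),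 2), ((0, .w [5, 3, 4, 0, 1, 2, 3, 7, 8, 7, 5, 2, 3, 4, 1, 2, 3, 7, 6, 5, 4, 3, 2, 1]), 1), ((0, .w [6, 5, 3, 4, 0, 1, 2, 3, 7, 8, 5, 2, 3, 4, 1, 2, 3, 7, 6, 5, 4, 3, 2, 1]), 1), ((0, .w [3, 7, 2, 3, 4, 1, 2, 3, 7, 8, 5, 2, 3, 4, 1, 2, 3, 7, 6, 5, 4, 3, 2, 1]), 1), ((0, .w [5, 6, 4, 5, 3, 4, 2, 3, 7, 8, 5, 2, 3, 4, 1, 2, 3, 7, 6, 5, 4, 3, 2, 1]), 1), ((0, .w [4, 3, 7, 2, 3, 4, 1, 2, 3, 7, 8, 5, 3, 4, 1, 2, 3, 7, 6, 5, 4, 3, 2, 1]), 1), ((0, .w [3, 7, 4, 5, 2, 3, 4, 1, 2, 3, 7, 8, 3, 4, 1, 2, 3, 7, 6, 5, 4, 3, 2, 1]), 2), ((0, .w [8, 7, 6, 5, 3, 4, 0, 1, 2, 3, 7, 8, 5, 4, 1, 2, 3, 7, 6, 5, 4, 3, 2, 1]), 2), ((0, .w [1, 2, 3, 7, 4, 5, 3, 4, 1, 2, 3, 7, 8, 4, 1, 2, 3,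 7, 6, 5, 4, 3, 2, 1]), 1), ((0, .w [6, 5, 4, 0, 1, 2, 3, 7, 8, 3, 4, 5, 2, 3, 4, 1, 2, 3, 7, 6, 5, 4, 3, 2, 1]), 1), ((0, .w [5, 2, 3, 4, 1, 2, 3, 7, 8, 3, 4, 5, 2, 3, 4, 1, 2, 3, 7, 6, 5, 4, 3, 2, 1]), 2), ((0, .w [4, 5, 3, 4, 1, 2, 3, 7, 8, 7, 4, 5, 2, 3, 4, 1, 2, 3, 7, 6, 5, 4, 3, 2, 1]), 1), ((0, .w [3, 7, 2, 3, 4, 1, 2, 3, 7, 8, 4, 5, 2, 3, 4, 1, 2, 3, 7, 6, 5, 4, 3, 2, 1]), 1), ((0, .w [7, 6, 5, 2, 3, 4, 1, 2, 3, 7, 8, 5, 2, 3, 4, 1, 2, 3, 7, 6, 5, 4, 3, 2, 1]), 1), ((0, .w [1, 2, 3, 7, 4, 5, 3, 4, 2, 3, 7, 8, 2, 3, 4, 1, 2, 3, 7, 6, 5, 4, 3, 2, 1]), 1), ((0, .w [6, 5, 2, 3, 4, 1, 2, 3, 7, 8, 7, 4, 5, 3, 4, 1, 2, 3, 7, 6, 5, 4, 3, 2, 1]), 1), ((0, .w [8, 3, 7,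 2, 3, 4, 1, 2, 3, 7, 8, 4, 5, 3, 4, 1, 2, 3, 7, 6, 5, 4, 3, 2, 1]), 1), ((0, .w [5, 1, 2, 3, 4, 0, 1, 2, 3, 7, 8, 7, 5, 3, 4, 1, 2, 3, 7, 6, 5, 4, 3, 2, 1]), 1), ((0, .w [8, 3, 7, 4, 5, 3, 4, 2, 3, 7, 8, 4, 5, 2, 3, 4, 1, 2, 3, 7, 6, 5, 4, 3, 2, 1]), 1), ((0, .w [5, 1, 2, 3, 4, 0, 1, 2, 3, 7, 8, 7, 5, 2, 3, 4, 1, 2, 3, 7, 6, 5, 4, 3, 2, 1]), 2), ((0, .w [3, 7, 2, 3, 4, 0, 1, 2, 3, 7, 8, 7, 5, 2, 3, 4, 1, 2, 3, 7, 6, 5, 4, 3, 2, 1]), 1), ((0, .w [6, 5, 1, 2, 3, 4, 0, 1, 2, 3, 7, 8, 5, 2, 3, 4, 1, 2, 3, 7, 6, 5, 4, 3, 2, 1]), 1), ((0, .w [1, 2, 3, 7, 4, 5, 2, 3, 4, 1, 2, 3, 7, 8, 3, 4, 1, 2, 3, 7, 6, 5, 4, 3, 2, 1]), 3), ((0, .w [4, 3, 7, 5, 2, 3, 4, 1, 2, 3, 7, 8, 4,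 5, 2, 3, 4, 1, 2, 3, 7, 6, 5, 4, 3, 2, 1]), 1), ((0, .w [4, 3, 7, 2, 3, 4, 1, 2, 3, 7, 8, 3, 7, 5, 2, 3, 4, 1, 2, 3, 7, 6, 5, 4, 3, 2, 1]), 1), ((0, .w [1, 2, 3, 7, 4, 5, 3, 4, 1, 2, 3, 7, 8, 4, 5, 3, 4, 1, 2, 3, 7, 6, 5, 4, 3, 2, 1]), 1), ((0, .w [1, 2, 3, 7, 4, 5, 3, 4, 1, 2, 3, 7, 8, 7, 4, 5, 3, 4, 1, 2, 3, 7, 6, 5, 4, 3, 2, 1]), 1), ((0, .w [8, 5, 4, 3, 7, 2, 3, 4, 1, 2, 3, 7, 8, 3, 4, 5, 2, 3, 4, 1, 2, 3, 7, 6, 5, 4, 3, 2, 1]), 1)]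
theorem a13_o (h : F22 D ε xs) : orderOf (xa13.ev xs) = 13 := h.orderOf_eq h.base0 (by norm_num) 0 (by decide +kernel)
theorem a13_f (h : F22 D ε xs) : Frb (zpowers (xa13.ev xs)) (zpowers (xa13.ev xs) ⊔ zpowers (ta13.ev xs)) (13 * 6) :=
  h.frb h.base0 (a := 4) (a13_o h) (by decide +kernel) (by decide +kernel) (by decide)
theorem a13_c (h : F22 D ε xs) : Cand 3510 ε (xa13.ev xs) (da13.ex.ev xs) (orL [22, 49, 63, 67, 71, 94, 107, 111, 121, 161, 344, 402, 426, 463, 828, 1062, 1168, 1223, 1501, 1504, 1725, 2063, 2119, 2152, 2246, 2269, 2531, 2804, 2815, 2816, 3029, 3171, 3225, 3366, 3368, 3371, 3481, 3500, 3501]) :=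
  (h.goodC_orb (h.goodC_rep (pt := 7183) (p := 13) (by decide +kernel) ra13) (Es := [xa13]) (by simp) 12).cand.eq (by decide +kernel)
theorem a13_b (h : F22 D ε xs) : Nat.card N[zpowers (xa13.ev xs)] ≤ 468 := by
  have := norm_le_cent (xa13.ev xs) (by rw [Ne, ← orderOf_eq_one_iff, a13_o h]; norm_num)
  rw [a13_o h] at this
  exact this.trans (Nat.mul_le_mul_left _ (h.lvl_le (P := []) (E := [xa13]) [] da13 0 (a13_c h) 39 (by decide +kernel)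
    (h.end_le h.base0 [([1, 0, 1, 0, 1, 1, 0, 1, 1, 0, 1, 0, 1, 0, 1, 1, 1, 1, 1], 0), ([1, 1, 1, 1, 0, 1, 0, 1, 0, 1, 1, 0, 1, 1, 0, 1, 1, 1, 1, 1, 1], 0), ([1, 1, 1, 1, 1, 1, 1, 0, 1, 1, 1, 0, 1, 0, 1, 1, 1, 1], 0), ([0, 1, 0, 1, 1, 1, 1, 1, 1, 1, 0, 1, 1, 1, 0, 1, 0, 1, 1, 1, 1], 0), ([1, 1, 0, 1, 0, 1, 1, 1, 1, 0, 1, 1, 0, 1, 1, 1, 1, 1], 0), ([1, 1, 1, 1, 1, 1, 0, 1, 0, 1, 0, 1, 1, 1, 0, 1, 1, 1, 0, 1, 1, 1, 1], 0), ([0, 1, 1, 1, 1, 1, 0, 1, 0, 1, 1, 0, 1, 1, 1, 0, 1, 1, 1, 1, 1], 0), ([1, 1, 1, 0, 1, 1, 0, 1, 0, 1, 0, 1, 1, 1, 1, 1], 0), ([1, 1, 1, 1, 0, 1, 1, 0, 1, 0, 1, 1, 0, 1, 1, 0, 1, 1, 1, 1], 0)] (by decide +kernel))))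
def xa11 : Ex := .w [3, 1, 4, 2, 5, 1, 4, 3, 8, 7, 2, 1, 3, 6, 4, 8, 0, 7]
def ta11 : Ex := .w [4, 5, 2, 0, 3, 4, 1, 2, 3, 7, 8, 7, 2, 3, 4, 1, 2, 3, 7, 5, 4, 3, 2, 1, 2, 4, 5, 3, 4, 6, 5, 1, 2, 3, 7, 4, 3, 2, 1, 0, 1, 2, 3, 4, 7, 3, 2, 1, 8, 7, 2, 3, 7, 8, 3, 7, 4, 3, 2, 3, 4, 7, 3, 6, 3, 7, 6, 5, 4, 3, 2, 3, 4, 5, 6, 7, 3, 4, 5, 7, 2, 0, 4, 6, 8]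
def da11 : Px := (1, .w [])
def ra11 : List (Px × Nat) := [((0, .w []), 1), ((0, .w [1]), 3), ((0, .w [2, 1]), 1), ((1, .w [2]), 1), ((2, .w []), 1), ((1, .w [3, 2]), 1), ((3, .w [7]), 1), ((0, .w [7, 3, 2, 1]), 1), ((2, .w [3]), 2), ((2, .w [5, 4, 3]), 1), ((0, .w [8, 7, 3, 2, 1]), 2), ((3, .w []), 1), ((1, .w [5, 4, 3, 2]), 1), ((1, .w [8, 7, 3, 2]), 1), ((0, .w [6, 5, 4, 3, 2, 1]), 1), ((0, .w [7, 5, 4, 3, 2, 1]), 1), ((1, .w [3, 7, 4, 3, 2]), 1), ((2, .w [8, 7, 3]), 2), ((1, .w [7, 5, 4, 3, 2]), 1), ((0, .w [8, 7, 5, 4, 3, 2, 1]), 1), ((0, .w [2, 3, 7, 4, 3, 2, 1]), 1), ((2, .w [3, 7, 4, 3]), 2), ((4, .w []), 2), ((3, .w [5, 4]), 1), ((3, .w [7, 4]), 1), ((7, .w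 []), 2), ((2, .w [7, 5, 4, 3]), 1), ((1, .w [7, 6, 5, 4, 3, 2]), 1), ((7, .w [8]), 1), ((1, .w [2, 3, 7, 4, 3, 2]), 1), ((0, .w [2, 3, 7, 5, 4, 3, 2, 1]), 1), ((1, .w [3, 7, 6, 5, 4, 3, 2]), 1), ((0, .w [1, 2, 3, 7, 4, 3, 2, 1]), 2), ((0, .w [8, 2, 3, 7, 4, 3, 2, 1]), 1), ((5, .w []), 1), ((6, .w []), 1), ((3, .w [8, 7, 4]), 2), ((2, .w [8, 7, 5, 4, 3]), 1), ((1, .w [8, 7, 6, 5, 4, 3, 2]), 1), ((0, .w [2, 3, 7, 6, 5, 4, 3, 2, 1]), 1), ((0, .w [8, 3, 7, 6, 5, 4, 3, 2, 1]), 1), ((1, .w [4, 3, 7, 6, 5, 4, 3, 2]), 1), ((0, .w [4, 2, 3, 7, 5, 4, 3, 2, 1]), 1), ((2, .w [3, 7, 6, 5, 4, 3]), 1), ((0, .w [7, 8, 3, 7, 5, 4, 3, 2, 1]), 1), ((0, .w [8, 1, 2, 3, 7, 4, 3, 2, 1]),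 1), ((1, .w [7, 8, 3, 7, 5, 4, 3, 2]), 1), ((0, .w [1, 2, 3, 7, 6, 5, 4, 3, 2, 1]), 1), ((0, .w [5, 4, 3, 7, 6, 5, 4, 3, 2, 1]), 1), ((0, .w [4, 1, 2, 3, 7, 5, 4, 3, 2, 1]), 1), ((0, .w [8, 4, 2, 3, 7, 5, 4, 3, 2, 1]), 1), ((0, .w [7, 8, 2, 3, 7, 5, 4, 3, 2, 1]), 1), ((0, .w [3, 7, 8, 2, 3, 7, 4, 3, 2, 1]), 1), ((2, .w [7, 8, 3, 7, 5, 4, 3]), 1), ((1, .w [4, 2, 3, 7, 6, 5, 4, 3, 2]), 1), ((1, .w [8, 2, 3, 7, 6, 5, 4, 3, 2]), 1), ((1, .w [7, 8, 3, 7, 6, 5, 4, 3, 2]), 1), ((2, .w [7, 8, 3, 7, 6, 5, 4, 3]), 1), ((1, .w [7, 8, 2, 3, 7, 5, 4, 3, 2]), 1), ((1, .w [3, 7, 8, 2, 3, 7, 4, 3, 2]), 1), ((0, .w [4, 1, 2, 3, 7, 6, 5, 4, 3, 2, 1]), 1), ((0, .w [8, 1, 2, 3, 7, 6,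 5, 4, 3, 2, 1]), 1), ((0, .w [3, 4, 2, 3, 7, 6, 5, 4, 3, 2, 1]), 1), ((0, .w [5, 4, 2, 3, 7, 6, 5, 4, 3, 2, 1]), 3), ((0, .w [7, 8, 2, 3, 7, 6, 5, 4, 3, 2, 1]), 1), ((0, .w [7, 8, 1, 2, 3, 7, 5, 4, 3, 2, 1]), 1), ((0, .w [3, 7, 8, 2, 3, 7, 5, 4, 3, 2, 1]), 1), ((1, .w [3, 4, 2, 3, 7, 6, 5, 4, 3, 2]), 1), ((0, .w [3, 7, 8, 1, 2, 3, 7, 4, 3, 2, 1]), 2), ((1, .w [5, 4, 2, 3, 7, 6, 5, 4, 3, 2]), 1), ((1, .w [8, 4, 2, 3, 7, 6, 5, 4, 3, 2]), 1), ((1, .w [7, 8, 2, 3, 7, 6, 5, 4, 3, 2]), 1), ((1, .w [7, 3, 4, 2, 3, 7, 5, 4, 3, 2]), 1), ((0, .w [3, 4, 1, 2, 3, 7, 6, 5, 4, 3, 2, 1]), 1), ((0, .w [5, 4, 1, 2, 3, 7, 6, 5, 4, 3, 2, 1]), 1), ((0, .w [7, 8, 1, 2, 3, 7, 6, 5, 4, 3,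 2, 1]), 1), ((0, .w [8, 3, 4, 2, 3, 7, 6, 5, 4, 3, 2, 1]), 1), ((0, .w [8, 5, 4, 2, 3, 7, 6, 5, 4, 3, 2, 1]), 1), ((1, .w [7, 8, 3, 4, 2, 3, 7, 5, 4, 3, 2]), 1), ((0, .w [7, 3, 4, 1, 2, 3, 7, 5, 4, 3, 2, 1]), 1), ((0, .w [8, 7, 3, 4, 2, 3, 7, 5, 4, 3, 2, 1]), 1), ((0, .w [2, 3, 7, 8, 4, 3, 7, 5, 4, 3, 2, 1]), 1), ((0, .w [2, 3, 7, 8, 1, 2, 3, 7, 4, 3, 2, 1]), 2), ((1, .w [7, 3, 4, 2, 3, 7, 6, 5, 4, 3, 2]), 1), ((2, .w [7, 8, 5, 4, 3, 7, 6, 5, 4, 3]), 2), ((1, .w [3, 7, 8, 2, 3, 7, 6, 5, 4, 3, 2]), 2), ((1, .w [7, 8, 5, 4, 3, 7, 6, 5, 4, 3, 2]), 1), ((1, .w [2, 3, 7, 8, 4, 3, 7, 5, 4, 3, 2]), 1), ((0, .w [2, 3, 4, 1, 2, 3, 7, 6, 5, 4, 3, 2, 1]), 4), ((0, .w [8, 3, 4,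 1, 2, 3, 7, 6, 5, 4, 3, 2, 1]), 3), ((0, .w [8, 5, 4, 1, 2, 3, 7, 6, 5, 4, 3, 2, 1]), 1), ((0, .w [3, 7, 8, 1, 2, 3, 7, 6, 5, 4, 3, 2, 1]), 2), ((0, .w [4, 5, 3, 4, 2, 3, 7, 6, 5, 4, 3, 2, 1]), 1), ((0, .w [7, 5, 3, 4, 2, 3, 7, 6, 5, 4, 3, 2, 1]), 2), ((2, .w [2, 3, 7, 8, 4, 3, 7, 5, 4, 3]), 1), ((0, .w [7, 8, 5, 4, 2, 3, 7, 6, 5, 4, 3, 2, 1]), 1), ((1, .w [7, 8, 7, 3, 4, 2, 3, 7, 5, 4, 3, 2]), 1), ((0, .w [3, 7, 8, 5, 4, 3, 7, 6, 5, 4, 3, 2, 1]), 2), ((0, .w [2, 3, 7, 8, 4, 3, 7, 6, 5, 4, 3, 2, 1]), 1), ((0, .w [2, 3, 7, 8, 1, 2, 3, 7, 5, 4, 3, 2, 1]), 1), ((0, .w [5, 4, 3, 7, 8, 2, 3, 7, 5, 4, 3, 2, 1]), 1), ((1, .w [2, 3, 7, 8, 4, 3, 7, 6, 5, 4, 3, 2]), 1), ((1,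 .w [3, 7, 8, 4, 2, 3, 7, 6, 5, 4, 3, 2]), 1), ((1, .w [3, 7, 8, 3, 4, 2, 3, 7, 5, 4, 3, 2]), 1), ((2, .w [2, 3, 7, 8, 4, 3, 7, 6, 5, 4, 3]), 1), ((1, .w [1, 2, 3, 7, 8, 4, 3, 7, 5, 4, 3, 2]), 1), ((1, .w [6, 5, 4, 3, 7, 8, 2, 3, 7, 4, 3, 2]), 1), ((1, .w [4, 3, 7, 8, 5, 4, 3, 7, 6, 5, 4, 3, 2]), 1), ((0, .w [8, 2, 3, 4, 1, 2, 3, 7, 6, 5, 4, 3, 2, 1]), 2), ((0, .w [7, 5, 3, 4, 1, 2, 3, 7, 6, 5, 4, 3, 2, 1]), 1), ((0, .w [7, 8, 5, 4, 1, 2, 3, 7, 6, 5, 4, 3, 2, 1]), 1), ((0, .w [2, 3, 7, 8, 1, 2, 3, 7, 6, 5, 4, 3, 2, 1]), 1), ((0, .w [8, 7, 5, 3, 4, 2, 3, 7, 6, 5, 4, 3, 2, 1]), 1), ((0, .w [7, 8, 5, 3, 4, 2, 3, 7, 6, 5, 4, 3, 2, 1]), 2), ((0, .w [3, 7, 8, 3, 4, 2, 3,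 7, 6, 5, 4, 3, 2, 1]), 1), ((1, .w [3, 7, 8, 3, 4, 2, 3, 7, 6, 5, 4, 3, 2]), 1), ((1, .w [3, 7, 8, 7, 3, 4, 2, 3, 7, 5, 4, 3, 2]), 1), ((0, .w [7, 8, 2, 3, 4, 1, 2, 3, 7, 5, 4, 3, 2, 1]), 2), ((0, .w [3, 7, 8, 3, 4, 1, 2, 3, 7, 5, 4, 3, 2, 1]), 1), ((0, .w [2, 3, 7, 8, 4, 1, 2, 3, 7, 5, 4, 3, 2, 1]), 1), ((0, .w [3, 7, 8, 7, 3, 4, 2, 3, 7, 5, 4, 3, 2, 1]), 1), ((0, .w [2, 3, 7, 8, 3, 4, 2, 3, 7, 5, 4, 3, 2, 1]), 2), ((0, .w [4, 2, 3, 7, 8, 4, 2, 3, 7, 5, 4, 3, 2, 1]), 1), ((0, .w [0, 1, 2, 3, 7, 8, 4, 3, 7, 5, 4, 3, 2, 1]), 1), ((1, .w [7, 4, 5, 3, 4, 2, 3, 7, 6, 5, 4, 3, 2]), 1), ((1, .w [2, 3, 7, 8, 4, 2, 3, 7, 6, 5, 4, 3, 2]), 1), ((1, .w [5, 4, 3, 7, 8, 2, 3, 7,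 6, 5, 4, 3, 2]), 2), ((1, .w [2, 3, 7, 8, 5, 4, 3, 7, 6, 5, 4, 3, 2]), 1), ((1, .w [4, 2, 3, 7, 8, 4, 2, 3, 7, 5, 4, 3, 2]), 1), ((1, .w [0, 1, 2, 3, 7, 8, 4, 3, 7, 5, 4, 3, 2]), 1), ((0, .w [4, 5, 2, 3, 4, 1, 2, 3, 7, 6, 5, 4, 3, 2, 1]), 2), ((1, .w [1, 2, 3, 7, 8, 4, 2, 3, 7, 6, 5, 4, 3, 2]), 1), ((0, .w [7, 4, 5, 3, 4, 1, 2, 3, 7, 6, 5, 4, 3, 2, 1]), 1), ((0, .w [2, 3, 7, 8, 4, 1, 2, 3, 7, 6, 5, 4, 3, 2, 1]), 1), ((0, .w [3, 7, 4, 5, 3, 4, 2, 3, 7, 6, 5, 4, 3, 2, 1]), 1), ((0, .w [7, 8, 7, 5, 3, 4, 2, 3, 7, 6, 5, 4, 3, 2, 1]), 1), ((0, .w [3, 7, 8, 5, 3, 4, 2, 3, 7, 6, 5, 4, 3, 2, 1]), 1), ((1, .w [5, 4, 3, 7, 8, 3, 4, 2, 3, 7, 5, 4, 3, 2]), 1), ((0, .w [4, 2, 3,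 7, 8, 5, 4, 3, 7, 6, 5, 4, 3, 2, 1]), 1), ((0, .w [0, 1, 2, 3, 7, 8, 4, 3, 7, 6, 5, 4, 3, 2, 1]), 1), ((0, .w [4, 3, 7, 2, 3, 4, 1, 2, 3, 7, 5, 4, 3, 2, 1]), 1), ((0, .w [7, 8, 7, 2, 3, 4, 1, 2, 3, 7, 5, 4, 3, 2, 1]), 1), ((0, .w [3, 7, 8, 7, 3, 4, 1, 2, 3, 7, 5, 4, 3, 2, 1]), 1), ((0, .w [1, 2, 3, 7, 8, 3, 4, 2, 3, 7, 5, 4, 3, 2, 1]), 1), ((0, .w [5, 4, 3, 7, 8, 3, 4, 2, 3, 7, 5, 4, 3, 2, 1]), 1), ((0, .w [0, 1, 2, 3, 7, 8, 4, 2, 3, 7, 5, 4, 3, 2, 1]), 1), ((0, .w [4, 1, 2, 3, 7, 8, 4, 2, 3, 7, 5, 4, 3, 2, 1]), 1), ((0, .w [6, 5, 4, 2, 3, 7, 8, 1, 2, 3, 7, 4, 3, 2, 1]), 1), ((1, .w [3, 7, 8, 5, 3, 4, 2, 3, 7, 6, 5, 4, 3, 2]), 1), ((1, .w [3, 7, 8, 7, 3, 4, 2, 3, 7,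 6, 5, 4, 3, 2]), 1), ((1, .w [2, 3, 7, 8, 3, 4, 2, 3, 7, 6, 5, 4, 3, 2]), 1), ((1, .w [6, 5, 4, 3, 7, 8, 2, 3, 7, 6, 5, 4, 3, 2]), 1), ((1, .w [2, 3, 7, 8, 7, 3, 4, 2, 3, 7, 5, 4, 3, 2]), 1), ((1, .w [1, 2, 3, 7, 8, 3, 4, 2, 3, 7, 5, 4, 3, 2]), 1), ((0, .w [8, 4, 5, 2, 3, 4, 1, 2, 3, 7, 6, 5, 4, 3, 2, 1]), 4), ((0, .w [8, 7, 5, 2, 3, 4, 1, 2, 3, 7, 6, 5, 4, 3, 2, 1]), 1), ((0, .w [3, 7, 4, 5, 3, 4, 1, 2, 3, 7, 6, 5, 4, 3, 2, 1]), 1), ((0, .w [3, 7, 8, 5, 3, 4, 1, 2, 3, 7, 6, 5, 4, 3, 2, 1]), 1), ((0, .w [3, 7, 8, 7, 3, 4, 1, 2, 3, 7, 6, 5, 4, 3, 2, 1]), 1), ((0, .w [2, 3, 7, 8, 3, 4, 1, 2, 3, 7, 6, 5, 4, 3, 2, 1]), 1), ((0, .w [2, 3, 7, 8, 5, 4, 1, 2, 3, 7, 6, 5, 4,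 3, 2, 1]), 1), ((0, .w [6, 5, 4, 3, 7, 8, 1, 2, 3, 7, 6, 5, 4, 3, 2, 1]), 1), ((0, .w [3, 7, 8, 7, 5, 3, 4, 2, 3, 7, 6, 5, 4, 3, 2, 1]), 1), ((1, .w [5, 4, 3, 7, 8, 3, 4, 2, 3, 7, 6, 5, 4, 3, 2]), 1), ((0, .w [0, 1, 2, 3, 7, 8, 5, 4, 3, 7, 6, 5, 4, 3, 2, 1]), 1), ((0, .w [4, 1, 2, 3, 7, 8, 5, 4, 3, 7, 6, 5, 4, 3, 2, 1]), 1), ((0, .w [8, 4, 3, 7, 2, 3, 4, 1, 2, 3, 7, 5, 4, 3, 2, 1]), 1), ((0, .w [2, 3, 7, 8, 7, 3, 4, 1, 2, 3, 7, 5, 4, 3, 2, 1]), 1), ((0, .w [1, 2, 3, 7, 8, 3, 4, 1, 2, 3, 7, 5, 4, 3, 2, 1]), 2), ((0, .w [4, 2, 3, 7, 8, 3, 4, 1, 2, 3, 7, 5, 4, 3, 2, 1]), 1), ((0, .w [5, 4, 2, 3, 7, 8, 4, 1, 2, 3, 7, 5, 4, 3, 2, 1]), 1), ((1, .w [4, 1, 2, 3, 7, 8, 4, 2,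 3, 7, 6, 5, 4, 3, 2]), 1), ((0, .w [1, 2, 3, 7, 8, 7, 3, 4, 2, 3, 7, 5, 4, 3, 2, 1]), 1), ((0, .w [5, 4, 3, 7, 8, 7, 3, 4, 2, 3, 7, 5, 4, 3, 2, 1]), 1), ((0, .w [0, 1, 2, 3, 7, 8, 3, 4, 2, 3, 7, 5, 4, 3, 2, 1]), 1), ((0, .w [5, 4, 2, 3, 7, 8, 3, 4, 2, 3, 7, 5, 4, 3, 2, 1]), 1), ((1, .w [0, 1, 2, 3, 7, 8, 3, 4, 2, 3, 7, 5, 4, 3, 2]), 1), ((1, .w [2, 3, 7, 4, 5, 3, 4, 2, 3, 7, 6, 5, 4, 3, 2]), 1), ((1, .w [3, 7, 8, 4, 5, 3, 4, 2, 3, 7, 6, 5, 4, 3, 2]), 1), ((1, .w [3, 7, 8, 7, 5, 3, 4, 2, 3, 7, 6, 5, 4, 3, 2]), 1), ((1, .w [2, 3, 7, 8, 5, 3, 4, 2, 3, 7, 6, 5, 4, 3, 2]), 1), ((1, .w [1, 2, 3, 7, 8, 3, 4, 2, 3, 7, 6, 5, 4, 3, 2]), 1), ((1, .w [4, 2, 3, 7, 8, 5, 4, 2, 3,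 7, 6, 5, 4, 3, 2]), 1), ((1, .w [1, 2, 3, 7, 8, 7, 3, 4, 2, 3, 7, 5, 4, 3, 2]), 1), ((1, .w [5, 4, 2, 3, 7, 8, 3, 4, 2, 3, 7, 5, 4, 3, 2]), 2), ((1, .w [6, 5, 4, 2, 3, 7, 8, 4, 2, 3, 7, 5, 4, 3, 2]), 1), ((0, .w [2, 3, 7, 8, 2, 3, 4, 1, 2, 3, 7, 6, 5, 4, 3, 2, 1]), 2), ((0, .w [3, 7, 8, 4, 5, 3, 4, 1, 2, 3, 7, 6, 5, 4, 3, 2, 1]), 2), ((0, .w [3, 7, 8, 7, 5, 3, 4, 1, 2, 3, 7, 6, 5, 4, 3, 2, 1]), 1), ((0, .w [2, 3, 7, 8, 5, 3, 4, 1, 2, 3, 7, 6, 5, 4, 3, 2, 1]), 2), ((0, .w [2, 3, 7, 8, 7, 3, 4, 1, 2, 3, 7, 6, 5, 4, 3, 2, 1]), 1), ((0, .w [1, 2, 3, 7, 8, 3, 4, 1, 2, 3, 7, 6, 5, 4, 3, 2, 1]), 1), ((0, .w [5, 4, 3, 7, 8, 3, 4, 1, 2, 3, 7, 6, 5, 4, 3, 2, 1]), 1), ((0, .w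 [1, 2, 3, 7, 8, 5, 4, 1, 2, 3, 7, 6, 5, 4, 3, 2, 1]), 1), ((0, .w [4, 2, 3, 7, 8, 5, 4, 1, 2, 3, 7, 6, 5, 4, 3, 2, 1]), 1), ((0, .w [5, 4, 3, 7, 8, 5, 3, 4, 2, 3, 7, 6, 5, 4, 3, 2, 1]), 1), ((0, .w [5, 4, 3, 7, 8, 7, 3, 4, 2, 3, 7, 6, 5, 4, 3, 2, 1]), 2), ((0, .w [4, 1, 2, 3, 7, 8, 5, 4, 2, 3, 7, 6, 5, 4, 3, 2, 1]), 1), ((0, .w [4, 0, 1, 2, 3, 7, 8, 5, 4, 3, 7, 6, 5, 4, 3, 2, 1]), 1), ((0, .w [2, 3, 7, 8, 7, 2, 3, 4, 1, 2, 3, 7, 5, 4, 3, 2, 1]), 1), ((0, .w [4, 2, 3, 7, 8, 2, 3, 4, 1, 2, 3, 7, 5, 4, 3, 2, 1]), 1), ((0, .w [1, 2, 3, 7, 8, 7, 3, 4, 1, 2, 3, 7, 5, 4, 3, 2, 1]), 2), ((0, .w [0, 1, 2, 3, 7, 8, 3, 4, 1, 2, 3, 7, 5, 4, 3, 2, 1]), 3), ((0, .w [3, 4, 2, 3,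 7, 8, 3, 4, 1, 2, 3, 7, 5, 4, 3, 2, 1]), 1), ((0, .w [0, 1, 2, 3, 7, 8, 7, 3, 4, 2, 3, 7, 5, 4, 3, 2, 1]), 4), ((0, .w [3, 4, 2, 3, 7, 8, 7, 3, 4, 2, 3, 7, 5, 4, 3, 2, 1]), 1), ((2, .w [4, 1, 2, 3, 7, 8, 5, 4, 3, 7, 6, 5, 4, 3]), 1), ((1, .w [2, 3, 7, 8, 4, 5, 3, 4, 2, 3, 7, 6, 5, 4, 3, 2]), 1), ((1, .w [2, 3, 7, 8, 7, 5, 3, 4, 2, 3, 7, 6, 5, 4, 3, 2]), 4), ((1, .w [1, 2, 3, 7, 8, 5, 3, 4, 2, 3, 7, 6, 5, 4, 3, 2]), 1), ((1, .w [1, 2, 3, 7, 8, 7, 3, 4, 2, 3, 7, 6, 5, 4, 3, 2]), 2), ((1, .w [5, 4, 2, 3, 7, 8, 3, 4, 2, 3, 7, 6, 5, 4, 3, 2]), 1), ((1, .w [4, 1, 2, 3, 7, 8, 5, 4, 2, 3, 7, 6, 5, 4, 3, 2]), 1), ((1, .w [0, 1, 2, 3, 7, 8, 7, 3, 4, 2, 3, 7, 5, 4, 3, 2]), 1),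 ((1, .w [5, 4, 2, 3, 7, 8, 7, 3, 4, 2, 3, 7, 5, 4, 3, 2]), 2), ((0, .w [2, 3, 7, 8, 7, 2, 3, 4, 1, 2, 3, 7, 6, 5, 4, 3, 2, 1]), 1), ((0, .w [2, 3, 7, 8, 4, 5, 3, 4, 1, 2, 3, 7, 6, 5, 4, 3, 2, 1]), 1), ((0, .w [2, 3, 7, 8, 7, 5, 3, 4, 1, 2, 3, 7, 6, 5, 4, 3, 2, 1]), 1), ((1, .w [1, 2, 3, 7, 8, 4, 5, 3, 4, 2, 3, 7, 6, 5, 4, 3, 2]), 1), ((0, .w [4, 2, 3, 7, 8, 5, 3, 4, 1, 2, 3, 7, 6, 5, 4, 3, 2, 1]), 1), ((0, .w [5, 4, 3, 7, 8, 5, 3, 4, 1, 2, 3, 7, 6, 5, 4, 3, 2, 1]), 1), ((0, .w [5, 4, 2, 3, 7, 8, 3, 4, 1, 2, 3, 7, 6, 5, 4, 3, 2, 1]), 2), ((0, .w [4, 1, 2, 3, 7, 8, 5, 4, 1, 2, 3, 7, 6, 5, 4, 3, 2, 1]), 1), ((0, .w [7, 5, 3, 4, 2, 3, 7, 8, 1, 2, 3, 7, 6, 5, 4, 3, 2, 1]),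 1), ((0, .w [2, 3, 7, 8, 7, 4, 5, 3, 4, 2, 3, 7, 6, 5, 4, 3, 2, 1]), 1), ((0, .w [1, 2, 3, 7, 8, 4, 5, 3, 4, 2, 3, 7, 6, 5, 4, 3, 2, 1]), 1), ((0, .w [0, 1, 2, 3, 7, 8, 7, 3, 4, 2, 3, 7, 6, 5, 4, 3, 2, 1]), 1), ((0, .w [6, 5, 4, 1, 2, 3, 7, 8, 4, 2, 3, 7, 6, 5, 4, 3, 2, 1]), 1), ((0, .w [2, 3, 4, 1, 2, 3, 7, 8, 5, 4, 3, 7, 6, 5, 4, 3, 2, 1]), 1), ((0, .w [8, 7, 3, 4, 2, 3, 7, 8, 5, 4, 3, 7, 6, 5, 4, 3, 2, 1]), 1), ((0, .w [3, 4, 2, 3, 7, 8, 2, 3, 4, 1, 2, 3, 7, 5, 4, 3, 2, 1]), 1), ((0, .w [5, 4, 2, 3, 7, 8, 7, 3, 4, 1, 2, 3, 7, 5, 4, 3, 2, 1]), 1), ((1, .w [2, 3, 7, 8, 7, 4, 5, 3, 4, 2, 3, 7, 6, 5, 4, 3, 2]), 1), ((0, .w [3, 4, 0, 1, 2, 3, 7, 8, 4, 1, 2, 3, 7, 5,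 4, 3, 2, 1]), 1), ((0, .w [3, 4, 1, 2, 3, 7, 8, 7, 3, 4, 2, 3, 7, 5, 4, 3, 2, 1]), 1), ((0, .w [2, 3, 4, 1, 2, 3, 7, 8, 3, 4, 2, 3, 7, 5, 4, 3, 2, 1]), 1), ((1, .w [0, 1, 2, 3, 7, 8, 5, 3, 4, 2, 3, 7, 6, 5, 4, 3, 2]), 1), ((1, .w [6, 5, 4, 2, 3, 7, 8, 5, 4, 2, 3, 7, 6, 5, 4, 3, 2]), 1), ((0, .w [3, 7, 8, 3, 4, 5, 2, 3, 4, 1, 2, 3, 7, 6, 5, 4, 3, 2, 1]), 2), ((0, .w [2, 3, 7, 8, 4, 5, 2, 3, 4, 1, 2, 3, 7, 6, 5, 4, 3, 2, 1]), 1), ((0, .w [2, 3, 7, 8, 7, 5, 2, 3, 4, 1, 2, 3, 7, 6, 5, 4, 3, 2, 1]), 1), ((0, .w [1, 2, 3, 7, 8, 5, 2, 3, 4, 1, 2, 3, 7, 6, 5, 4, 3, 2, 1]), 2), ((0, .w [3, 4, 2, 3, 7, 8, 2, 3, 4, 1, 2, 3, 7, 6, 5, 4, 3, 2, 1]), 1), ((0, .w [3, 7, 8, 3, 7, 4,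 5, 3, 4, 1, 2, 3, 7, 6, 5, 4, 3, 2, 1]), 1), ((0, .w [2, 3, 7, 8, 7, 4, 5, 3, 4, 1, 2, 3, 7, 6, 5, 4, 3, 2, 1]), 1), ((0, .w [1, 2, 3, 7, 8, 4, 5, 3, 4, 1, 2, 3, 7, 6, 5, 4, 3, 2, 1]), 1), ((0, .w [0, 1, 2, 3, 7, 8, 5, 3, 4, 1, 2, 3, 7, 6, 5, 4, 3, 2, 1]), 2), ((0, .w [6, 5, 4, 2, 3, 7, 8, 3, 4, 1, 2, 3, 7, 6, 5, 4, 3, 2, 1]), 3), ((1, .w [3, 4, 2, 3, 7, 8, 4, 5, 3, 4, 2, 3, 7, 6, 5, 4, 3, 2]), 1), ((0, .w [0, 1, 2, 3, 7, 8, 7, 5, 3, 4, 2, 3, 7, 6, 5, 4, 3, 2, 1]), 1), ((0, .w [5, 4, 0, 1, 2, 3, 7, 8, 3, 4, 2, 3, 7, 6, 5, 4, 3, 2, 1]), 1), ((0, .w [7, 5, 3, 4, 2, 3, 7, 8, 5, 4, 2, 3, 7, 6, 5, 4, 3, 2, 1]), 3), ((0, .w [7, 2, 3, 4, 1, 2, 3, 7, 8, 5, 4, 3, 7, 6, 5, 4,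 3, 2, 1]), 1), ((1, .w [5, 4, 2, 3, 7, 8, 4, 5, 3, 4, 2, 3, 7, 6, 5, 4, 3, 2]), 2), ((1, .w [0, 1, 2, 3, 7, 8, 7, 5, 3, 4, 2, 3, 7, 6, 5, 4, 3, 2]), 1), ((0, .w [1, 2, 3, 7, 8, 7, 4, 5, 3, 4, 1, 2, 3, 7, 6, 5, 4, 3, 2, 1]), 1), ((0, .w [5, 4, 2, 3, 7, 8, 4, 5, 3, 4, 1, 2, 3, 7, 6, 5, 4, 3, 2, 1]), 1), ((0, .w [0, 1, 2, 3, 7, 8, 7, 5, 3, 4, 1, 2, 3, 7, 6, 5, 4, 3, 2, 1]), 1), ((0, .w [8, 7, 3, 4, 2, 3, 7, 8, 5, 4, 1, 2, 3, 7, 6, 5, 4, 3, 2, 1]), 1), ((0, .w [7, 5, 3, 4, 1, 2, 3, 7, 8, 4, 1, 2, 3, 7, 6, 5, 4, 3, 2, 1]), 2), ((1, .w [3, 4, 1, 2, 3, 7, 8, 4, 5, 3, 4, 2, 3, 7, 6, 5, 4, 3, 2]), 1), ((0, .w [5, 4, 2, 3, 7, 8, 7, 4, 5, 3, 4, 2, 3, 7, 6, 5, 4, 3, 2, 1]), 2),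 ((0, .w [5, 4, 0, 1, 2, 3, 7, 8, 5, 3, 4, 2, 3, 7, 6, 5, 4, 3, 2, 1]), 1), ((0, .w [2, 3, 4, 1, 2, 3, 7, 8, 5, 3, 4, 2, 3, 7, 6, 5, 4, 3, 2, 1]), 1), ((0, .w [7, 3, 4, 1, 2, 3, 7, 8, 5, 3, 4, 2, 3, 7, 6, 5, 4, 3, 2, 1]), 1), ((0, .w [5, 4, 0, 1, 2, 3, 7, 8, 7, 3, 4, 2, 3, 7, 6, 5, 4, 3, 2, 1]), 2), ((0, .w [7, 5, 3, 4, 1, 2, 3, 7, 8, 5, 4, 2, 3, 7, 6, 5, 4, 3, 2, 1]), 1), ((1, .w [5, 4, 1, 2, 3, 7, 8, 4, 5, 3, 4, 2, 3, 7, 6, 5, 4, 3, 2]), 2), ((0, .w [7, 5, 3, 4, 2, 3, 7, 8, 2, 3, 4, 1, 2, 3, 7, 6, 5, 4, 3, 2, 1]), 1), ((0, .w [3, 4, 1, 2, 3, 7, 8, 4, 5, 3, 4, 1, 2, 3, 7, 6, 5, 4, 3, 2, 1]), 2), ((0, .w [7, 3, 4, 2, 3, 7, 8, 7, 5, 3, 4, 1, 2, 3, 7, 6, 5, 4, 3, 2, 1]),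 1), ((0, .w [6, 5, 4, 2, 3, 7, 8, 7, 5, 3, 4, 1, 2, 3, 7, 6, 5, 4, 3, 2, 1]), 1), ((0, .w [7, 3, 4, 1, 2, 3, 7, 8, 5, 3, 4, 1, 2, 3, 7, 6, 5, 4, 3, 2, 1]), 1), ((0, .w [5, 4, 0, 1, 2, 3, 7, 8, 7, 3, 4, 1, 2, 3, 7, 6, 5, 4, 3, 2, 1]), 2), ((0, .w [7, 5, 3, 4, 1, 2, 3, 7, 8, 5, 4, 1, 2, 3, 7, 6, 5, 4, 3, 2, 1]), 1), ((0, .w [3, 4, 0, 1, 2, 3, 7, 8, 4, 5, 3, 4, 2, 3, 7, 6, 5, 4, 3, 2, 1]), 1), ((0, .w [2, 3, 4, 1, 2, 3, 7, 8, 4, 5, 3, 4, 2, 3, 7, 6, 5, 4, 3, 2, 1]), 1), ((0, .w [7, 2, 3, 4, 1, 2, 3, 7, 8, 5, 3, 4, 2, 3, 7, 6, 5, 4, 3, 2, 1]), 3), ((0, .w [0, 1, 2, 3, 7, 8, 3, 4, 5, 2, 3, 4, 1, 2, 3, 7, 6, 5, 4, 3, 2, 1]), 2), ((0, .w [3, 4, 2, 3, 7, 8, 3, 4, 5, 2, 3,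 4, 1, 2, 3, 7, 6, 5, 4, 3, 2, 1]), 1), ((0, .w [3, 4, 2, 3, 7, 8, 7, 4, 5, 2, 3, 4, 1, 2, 3, 7, 6, 5, 4, 3, 2, 1]), 1), ((0, .w [6, 5, 4, 2, 3, 7, 8, 4, 5, 2, 3, 4, 1, 2, 3, 7, 6, 5, 4, 3, 2, 1]), 1), ((0, .w [6, 5, 3, 4, 1, 2, 3, 7, 8, 2, 3, 4, 1, 2, 3, 7, 6, 5, 4, 3, 2, 1]), 1), ((0, .w [6, 5, 4, 2, 3, 7, 8, 7, 4, 5, 3, 4, 1, 2, 3, 7, 6, 5, 4, 3, 2, 1]), 1), ((0, .w [5, 4, 0, 1, 2, 3, 7, 8, 4, 5, 3, 4, 1, 2, 3, 7, 6, 5, 4, 3, 2, 1]), 1), ((0, .w [6, 5, 4, 1, 2, 3, 7, 8, 4, 5, 3, 4, 1, 2, 3, 7, 6, 5, 4, 3, 2, 1]), 1), ((0, .w [4, 5, 3, 4, 2, 3, 7, 8, 4, 5, 3, 4, 1, 2, 3, 7, 6, 5, 4, 3, 2, 1]), 1), ((0, .w [7, 5, 3, 4, 1, 2, 3, 7, 8, 5, 3, 4, 1, 2, 3, 7, 6, 5, 4, 3,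 2, 1]), 2), ((0, .w [8, 7, 5, 3, 4, 2, 3, 7, 8, 5, 3, 4, 1, 2, 3, 7, 6, 5, 4, 3, 2, 1]), 1), ((0, .w [8, 7, 6, 5, 3, 4, 2, 3, 7, 8, 5, 4, 1, 2, 3, 7, 6, 5, 4, 3, 2, 1]), 1), ((0, .w [2, 3, 4, 0, 1, 2, 3, 7, 8, 7, 5, 3, 4, 2, 3, 7, 6, 5, 4, 3, 2, 1]), 1), ((0, .w [6, 5, 2, 3, 4, 1, 2, 3, 7, 8, 5, 3, 4, 2, 3, 7, 6, 5, 4, 3, 2, 1]), 2), ((0, .w [6, 5, 4, 2, 3, 7, 8, 3, 4, 5, 2, 3, 4, 1, 2, 3, 7, 6, 5, 4, 3, 2, 1]), 1), ((0, .w [3, 4, 0, 1, 2, 3, 7, 8, 4, 5, 2, 3, 4, 1, 2, 3, 7, 6, 5, 4, 3, 2, 1]), 1), ((0, .w [7, 5, 3, 4, 2, 3, 7, 8, 4, 5, 2, 3, 4, 1, 2, 3, 7, 6, 5, 4, 3, 2, 1]), 1), ((0, .w [7, 5, 3, 4, 2, 3, 7, 8, 7, 5, 2, 3, 4, 1, 2, 3, 7, 6, 5, 4, 3, 2, 1]), 2), ((0,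 .w [7, 5, 3, 4, 1, 2, 3, 7, 8, 5, 2, 3, 4, 1, 2, 3, 7, 6, 5, 4, 3, 2, 1]), 2), ((0, .w [6, 5, 4, 0, 1, 2, 3, 7, 8, 4, 5, 3, 4, 1, 2, 3, 7, 6, 5, 4, 3, 2, 1]), 1), ((0, .w [7, 6, 5, 3, 4, 2, 3, 7, 8, 7, 5, 3, 4, 1, 2, 3, 7, 6, 5, 4, 3, 2, 1]), 3), ((0, .w [3, 7, 2, 3, 4, 1, 2, 3, 7, 8, 5, 3, 4, 1, 2, 3, 7, 6, 5, 4, 3, 2, 1]), 1), ((0, .w [8, 7, 2, 3, 4, 1, 2, 3, 7, 8, 5, 3, 4, 1, 2, 3, 7, 6, 5, 4, 3, 2, 1]), 1), ((0, .w [8, 7, 5, 3, 4, 1, 2, 3, 7, 8, 5, 3, 4, 1, 2, 3, 7, 6, 5, 4, 3, 2, 1]), 2), ((0, .w [7, 5, 2, 3, 4, 0, 1, 2, 3, 7, 8, 5, 4, 1, 2, 3, 7, 6, 5, 4, 3, 2, 1]), 1), ((0, .w [8, 7, 5, 2, 3, 4, 1, 2, 3, 7, 8, 5, 4, 1, 2, 3, 7, 6, 5, 4, 3, 2, 1]), 1), ((0, .w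 [2, 3, 4, 0, 1, 2, 3, 7, 8, 4, 5, 2, 3, 4, 1, 2, 3, 7, 6, 5, 4, 3, 2, 1]), 1), ((0, .w [2, 3, 4, 0, 1, 2, 3, 7, 8, 7, 5, 2, 3, 4, 1, 2, 3, 7, 6, 5, 4, 3, 2, 1]), 2), ((0, .w [2, 3, 7, 4, 5, 3, 4, 2, 3, 7, 8, 2, 3, 4, 1, 2, 3, 7, 6, 5, 4, 3, 2, 1]), 1), ((0, .w [7, 5, 3, 4, 2, 3, 7, 8, 3, 7, 4, 5, 3, 4, 1, 2, 3, 7, 6, 5, 4, 3, 2, 1]), 1), ((0, .w [8, 7, 5, 3, 4, 2, 3, 7, 8, 7, 4, 5, 3, 4, 1, 2, 3, 7, 6, 5, 4, 3, 2, 1]), 1), ((0, .w [8, 7, 5, 2, 3, 4, 1, 2, 3, 7, 8, 5, 3, 4, 1, 2, 3, 7, 6, 5, 4, 3, 2, 1]), 1), ((0, .w [8, 7, 6, 5, 2, 3, 4, 1, 2, 3, 7, 8, 5, 4, 1, 2, 3, 7, 6, 5, 4, 3, 2, 1]), 1), ((0, .w [8, 7, 3, 4, 5, 2, 3, 4, 1, 2, 3, 7, 8, 3, 4, 2, 3, 7, 6, 5, 4,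 3, 2, 1]), 1), ((0, .w [6, 5, 2, 3, 4, 0, 1, 2, 3, 7, 8, 5, 2, 3, 4, 1, 2, 3, 7, 6, 5, 4, 3, 2, 1]), 1), ((0, .w [8, 7, 5, 3, 4, 0, 1, 2, 3, 7, 8, 4, 5, 3, 4, 1, 2, 3, 7, 6, 5, 4, 3, 2, 1]), 1), ((0, .w [8, 7, 5, 2, 3, 4, 1, 2, 3, 7, 8, 4, 5, 3, 4, 1, 2, 3, 7, 6, 5, 4, 3, 2, 1]), 1), ((0, .w [8, 4, 3, 7, 2, 3, 4, 1, 2, 3, 7, 8, 5, 2, 3, 4, 1, 2, 3, 7, 6, 5, 4, 3, 2, 1]), 1), ((0, .w [8, 7, 3, 4, 5, 2, 3, 4, 1, 2, 3, 7, 8, 4, 5, 2, 3, 4, 1, 2, 3, 7, 6, 5, 4, 3, 2, 1]), 3), ((0, .w [3, 7, 8, 2, 3, 7, 4, 5, 2, 3, 4, 1, 2, 3, 7, 8, 4, 5, 3, 4, 1, 2, 3, 7, 6, 5, 4, 3, 2, 1]), 4)]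
theorem a11_o (h : F22 D ε xs) : orderOf (xa11.ev xs) = 11 := h.orderOf_eq h.base0 (by norm_num) 0 (by decide +kernel)
theorem a11_f (h : F22 D ε xs) : Frb (zpowers (xa11.ev xs)) (zpowers (xa11.ev xs) ⊔ zpowers (ta11.ev xs)) (11 * 5) :=
  h.frb h.base0 (a := 5) (a11_o h) (by decide +kernel) (by decide +kernel) (by decide)
theorem a11_c (h : F22 D ε xs) : Cand 3510 ε (xa11.ev xs) (da11.ex.ev xs) (orL [2, 5, 26, 89, 92, 158, 209, 583, 1771, 1943, 1966, 2018, 2174, 2342, 2504, 3179, 3231, 3379, 3384, 3386, 3389, 3396]) :=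
  (h.goodC_orb (h.goodC_rep (pt := 1807) (p := 11) (by decide +kernel) ra11) (Es := [xa11]) (by simp) 10).cand.eq (by decide +kernel)
theorem a11_b (h : F22 D ε xs) : Nat.card N[zpowers (xa11.ev xs)] ≤ 220 := by
  have := norm_le_cent (xa11.ev xs) (by rw [Ne, ← orderOf_eq_one_iff, a11_o h]; norm_num)
  rw [a11_o h] at this
  exact this.trans (Nat.mul_le_mul_left _ (h.lvl_le (P := []) (E := [xa11]) [] da11 0 (a11_c h) 22 (by decide +kernel)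
    (h.end_le h.base0 [([0, 1, 0, 1, 1, 1, 0, 1, 0, 1, 1, 0, 1, 1, 0, 1, 0, 1, 1, 1, 0, 1, 1, 1, 1], 0), ([], 0), ([0, 1, 1, 1, 1, 1, 1, 0, 1, 0, 1, 1, 1, 0, 1, 1, 1, 1, 0, 1, 0, 1, 1, 1, 1], 0), ([1, 1, 0, 1, 0, 1, 0, 1, 1, 1, 1, 0, 1, 1, 0, 1, 1, 0, 1, 0, 1, 1, 1, 1], 0), ([1, 0, 1, 1, 1, 0, 1, 0, 1, 1, 0, 1, 0, 1, 1, 1, 1, 0, 1, 0, 1, 1, 1, 1], 0), ([1, 1, 1, 0, 1, 1, 1, 1, 1, 0, 1, 1, 0, 1, 1, 0, 1, 0, 1, 0, 1, 1, 1, 1, 1], 0), ([1, 1, 1, 0, 1, 1, 0, 1, 0, 1, 0, 1, 0, 1, 1, 0, 1, 0, 1, 1, 1, 1], 0), ([1, 0, 1, 1, 0, 1, 0, 1, 1, 0, 1, 0, 1, 0, 1, 1, 1, 1], 0), ([1, 1, 1, 1, 1, 1, 1, 1, 1, 1], 0)] (by decide +kernel))))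
theorem a11_r (h : F22 D ε xs) : Rep t22 ε (orL [3246]) (D ∩ (C[zpowers (xa11.ev xs)] : Set G)) :=
  rep_eq (h.rep_fixX _) (by decide +kernel)
-- [(0, .w [3, 7, 8, 2, 3, 7, 4, 5, 2, 3, 4, 1, 2, 3, 7, 8, 4, 5, 3, 4, 1, 2, 3, 7, 6, 5, 4, 3, 2, 1])] [True]
theorem n22_13 (h : F22 D ε xs) (X : Subgroup G) (hX : Nat.card X = 13) : Nat.card N[X] = 78 ∧ C[X] = X := by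
  obtain ⟨ε, xs, h, rfl⟩ := h.wlog (h.cj1 (by norm_num) (by norm_num)) (a13_o h) hX
  exact (a13_f h).cent (h.norm_eq (by norm_num) hX (a13_f h).norm (a13_f h).card (a13_b h) (by norm_num))
theorem n22_11 (h : F22 D ε xs) (X : Subgroup G) (hX : Nat.card X = 11) : Nat.card N[X] = 110 ∧
    ∃ (F : Subgroup G) (d : G), d ∈ D ∧ Nat.card F = 55 ∧ X ≤ F ∧ F ⊓ C[X] = X ∧ F ⊓ zpowers d = ⊥ ∧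
      (∀ x ∈ F, ∀ y ∈ zpowers d, x * y = y * x) ∧ F ⊔ zpowers d = N[X] := by
  obtain ⟨ε, xs, h, rfl⟩ := h.wlog (h.cj1 (by norm_num) (by norm_num)) (a11_o h) hX
  have f := a11_f h
  have k : okP t22 [(0, .w [3, 7, 8, 2, 3, 7, 4, 5, 2, 3, 4, 1, 2, 3, 7, 8, 4, 5, 3, 4, 1, 2, 3, 7, 6, 5, 4, 3, 2, 1])] = true := by decide
  have hd := h.ex_mem (okP_iff.1 k _ List.mem_cons_self)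
  have c1 := h.fixP_comm (a := xa11) k (by decide +kernel) List.mem_cons_self
  have c2 := h.fixP_comm (a := ta11) k (by decide +kernel) List.mem_cons_self
  have c := sup_le (zpowers_le.2 (mem_cent1.2 c1)) (zpowers_le.2 (mem_cent1.2 c2))
  rw [← cent_zpowers] at c
  have s := (card_zpowers _).trans (h.tm.tt.1 _ hd)
  have b := inf_bot_of_coprime (show Nat.Coprime _ _ from f.card ▸ s ▸ (by norm_num : Nat.Coprime (11 * 5) 2))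
  obtain ⟨u, v⟩ := f.sup (cent_symm (le_sup_left.trans c)) c s b
  have e := h.norm_eq (by norm_num) hX v u (a11_b h) (by norm_num)
  exact ⟨e ▸ u, _, _, hd, f.card, f.le, f.inf, b, fun x hx y hy => (mem_cent.1 (c hx) y hy).symm, e⟩
end H9
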