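import Cfsg.Agent.H9.Fr22
import Cfsg.Agent.H9.Fz5
/-! The subgroups of order 7 and 5 of M(22). -/
namespace H9
open Cfsg H27 H28 H16 Subgroup
set_option Elab.async false
set_option maxRecDepth 100000
variable {G : Type*} [Group G] [Finite G] {D : Set G} {ε : Nat → G} {xs : List G}
def xa7 : Ex := .w [0, 1, 2, 3, 4, 5]
def ta7 : Ex := .w [2, 3, 0, 5, 4, 2, 1, 8]
def pa7 : List Px := [(8, .w []), (0, .w [7, 8, 2, 3, 7, 4, 5, 2, 3, 4, 0, 1, 2, 3, 7, 8, 4, 5, 3, 4, 1, 2, 3, 7, 6, 5, 4, 3, 2, 1])]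
theorem a7_o (h : F22 D ε xs) : orderOf (xa7.ev xs) = 7 := h.orderOf_eq h.base0 (by norm_num) 0 (by decide +kernel)
theorem a7_t (h : F22 D ε xs) : ta7.ev xs * xa7.ev xs * (ta7.ev xs)⁻¹ = xa7.ev xs ^ 3 :=
  h.eq_of h.base0 (a := ta7.cj xa7) (b := xa7.pow 3) (by decide +kernel)
theorem a7_r (h : F22 D ε xs) : Rep t22 ε (orL [92, 3232, 3373]) (D ∩ (C[zpowers (xa7.ev xs)] : Set G)) :=
  rep_eq (h.rep_fixX _) (by decide +kernel)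
theorem a7_l (h : F22 D ε xs) : ∃ φ : Equiv.Perm (Fin 3) →* G, (∀ i : Fin 2, φ (H18.adjSw i) = (nth px0 pa7 i).ex.ev xs) ∧
    Loc D (zpowers (xa7.ev xs)) (zpowers (xa7.ev xs) ⊔ zpowers (ta7.ev xs)) 42 φ :=
  h.loc (n := 0) (frb_of (e := 6) (a7_o h) (a7_t h) (h.eq_one h.base0 (a := ta7.pow 6) (by decide +kernel)) (by decide)) (a7_r h) pa7
    (by decide +kernel) (by decide +kernel)
theorem a7_b (h : F22 D ε xs) : Nat.card (CA ((alph [] [xa7]).map (Ex.ev xs))) ≤ 84 :=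
  le_trans (h.lvl_le (P := []) (E := [xa7]) [] (8, .w []) 0 (h.cand_fix (a7_r h) (d := (8, .w [])) (by decide +kernel)) 3 (by decide +kernel)
    (h.lvl_le (P := [(8, .w [])]) (E := [xa7]) [(([], 0), (8, .w []))] (0, .w [7, 8, 2, 3, 7, 4, 5, 2, 3, 4, 0, 1, 2, 3, 7, 8, 4, 5, 3, 4, 1, 2, 3, 7, 6, 5, 4, 3, 2, 1]) 1 (h.cand_fix (a7_r h) (d := (0, .w [7, 8, 2, 3, 7, 4, 5, 2, 3, 4, 0, 1, 2, 3, 7, 8, 4, 5, 3, 4, 1, 2, 3, 7, 6, 5, 4, 3, 2, 1])) (by decide +kernel)) 2 (by decide +kernel)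
    (h.lvl_le (P := [(0, .w [7, 8, 2, 3, 7, 4, 5, 2, 3, 4, 0, 1, 2, 3, 7, 8, 4, 5, 3, 4, 1, 2, 3, 7, 6, 5, 4, 3, 2, 1]), (8, .w [])]) (E := [xa7]) [(([], 1), (8, .w [])), (([], 0), (0, .w [7, 8, 2, 3, 7, 4, 5, 2, 3, 4, 0, 1, 2, 3, 7, 8, 4, 5, 3, 4, 1, 2, 3, 7, 6, 5, 4, 3, 2, 1]))] (2, .w [7, 8, 3, 7, 6, 5, 4, 3]) 2 (h.goodC_orb (h.goodC_rep (x := xa7) (d := (2, .w [7, 8, 3, 7, 6, 5, 4, 3])) (pt := 37) (p := 7) (by decide +kernel) [((2, .w [7, 8, 4, 3, 7, 5, 4, 3]), 1), ((1, .w [7, 8, 2, 3, 7, 5, 4, 3, 2]), 3), ((1, .w [7, 8, 4, 3, 7, 6, 5, 4, 3, 2]), 2), ((1, .w [4, 3, 7, 8, 2, 3, 7, 4, 3, 2]), 1), ((0, .w [7, 8, 4, 2, 3, 7, 6, 5, 4, 3, 2, 1]), 2), ((1, .w [3, 7, 8, 4, 2, 3, 7, 6, 5, 4, 3, 2]), 1), ((0, .w [6, 5, 4, 3, 7, 8, 1, 2, 3, 7, 4, 3, 2, 1]), 1), ((0, .w [4, 3, 7,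 8, 4, 1, 2, 3, 7, 6, 5, 4, 3, 2, 1]), 1), ((0, .w [6, 5, 4, 3, 7, 8, 4, 2, 3, 7, 5, 4, 3, 2, 1]), 3), ((1, .w [6, 5, 4, 1, 2, 3, 7, 8, 4, 2, 3, 7, 5, 4, 3, 2]), 1), ((0, .w [7, 8, 3, 7, 2, 3, 4, 0, 1, 2, 3, 7, 8, 5, 2, 3, 4, 1, 2, 3, 7, 6, 5, 4, 3, 2, 1]), 2), ((0, .w [7, 8, 4, 3, 7, 2, 3, 4, 1, 2, 3, 7, 8, 5, 2, 3, 4, 1, 2, 3, 7, 6, 5, 4, 3, 2, 1]), 2), ((0, .w [7, 8, 3, 7, 4, 5, 2, 3, 4, 0, 1, 2, 3, 7, 8, 5, 4, 1, 2, 3, 7, 6, 5, 4, 3, 2, 1]), 2), ((0, .w [7, 8, 3, 7, 2, 3, 4, 1, 2, 3, 7, 8, 3, 7, 5, 2, 3, 4, 1, 2, 3, 7, 6, 5, 4, 3, 2, 1]), 2), ((0, .w [7, 8, 4, 2, 3, 7, 4, 5, 2, 3, 4, 1, 2, 3, 7, 8, 5, 4, 1, 2, 3, 7, 6, 5, 4, 3, 2, 1]), 2), ((0, .w [7, 8, 3, 7, 5, 2, 3, 4, 0, 1, 2, 3, 7, 8, 7, 5, 2, 3, 4, 1, 2, 3, 7, 6, 5, 4, 3, 2, 1]), 2)]) (Es := [xa7]) (by simp) 6).cand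 14 (by decide +kernel)
    (h.lvl_le (P := [(2, .w [7, 8, 3, 7, 6, 5, 4, 3]), (0, .w [7, 8, 2, 3, 7, 4, 5, 2, 3, 4, 0, 1, 2, 3, 7, 8, 4, 5, 3, 4, 1, 2, 3, 7, 6, 5, 4, 3, 2, 1]), (8, .w [])]) (E := [xa7]) [(([], 2), (8, .w [])), (([], 0), (2, .w [7, 8, 3, 7, 6, 5, 4, 3])), (([3, 3, 3, 3], 0), (0, .w [3, 4, 2, 3, 7, 8, 5, 4, 1, 2, 3, 7, 6, 5, 4, 3, 2, 1])), (([3, 3], 0), (0, .w [7, 8, 3, 7, 4, 5, 3, 4, 1, 2, 3, 7, 6, 5, 4, 3, 2, 1])), (([3, 3, 3, 3, 3], 0), (0, .w [4, 5, 3, 4, 2, 3, 7, 8, 1, 2, 3, 7, 6, 5, 4, 3, 2, 1])), (([3], 0), (2, .w [0, 1, 2, 3, 7, 8, 4, 3, 7, 6, 5, 4, 3])), (([], 1), (0, .w [7, 8, 2, 3, 7, 4, 5, 2, 3, 4, 0, 1, 2, 3, 7, 8, 4, 5, 3, 4, 1, 2, 3, 7, 6, 5, 4, 3, 2, 1]))] (0, .w []) 0 (cand_all _ _ _ _) 1 (by decide +kernel)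
    (h.end_le h.base0 [([], 0), ([4], 0), ([4, 4], 0), ([4, 4, 4], 0), ([4, 4, 4, 4], 0), ([4, 4, 4, 4, 4], 0), ([1, 4, 1, 0, 4, 0, 4, 0, 4, 1, 4], 0), ([4, 4, 4, 0, 4, 4, 1, 4, 0, 4, 1, 4, 3, 0, 4, 0, 4, 0], 2), ([], 3)] (by decide +kernel)))))) (by norm_num)
def xa5 : Ex := .w [0, 1, 2, 3]
def ta5 : Ex := .w [1, 3, 2]
def pa5 : List Px := [(8, .w []), (0, .w [7, 3, 4, 2, 3, 7, 8, 1, 2, 3, 7, 4, 3, 2, 1]), (5, .w []), (6, .w [])]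
theorem a5_o (h : F22 D ε xs) : orderOf (xa5.ev xs) = 5 := h.orderOf_eq h.base0 (by norm_num) 0 (by decide +kernel)
theorem a5_t (h : F22 D ε xs) : ta5.ev xs * xa5.ev xs * (ta5.ev xs)⁻¹ = xa5.ev xs ^ 2 :=
  h.eq_of h.base0 (a := ta5.cj xa5) (b := xa5.pow 2) (by decide +kernel)
theorem a5_r (h : F22 D ε xs) : Rep t22 ε (orL [88, 92, 120, 154, 369, 392, 430, 472, 473, 545]) (D ∩ (C[zpowers (xa5.ev xs)] : Set G)) :=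
  rep_eq (h.rep_fixX _) (by decide +kernel)
theorem a5_l (h : F22 D ε xs) : ∃ φ : Equiv.Perm (Fin 5) →* G, (∀ i : Fin 4, φ (H18.adjSw i) = (nth px0 pa5 i).ex.ev xs) ∧
    Loc D (zpowers (xa5.ev xs)) (zpowers (xa5.ev xs) ⊔ zpowers (ta5.ev xs)) 20 φ :=
  h.loc (n := 2) (frb_of (e := 4) (a5_o h) (a5_t h) (h.eq_one h.base0 (a := ta5.pow 4) (by decide +kernel)) (by decide)) (a5_r h) pa5
    (by decide +kernel) (by decide +kernel)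
theorem a5_b (h : F22 D ε xs) : Nat.card (CA ((alph [] [xa5]).map (Ex.ev xs))) ≤ 1800 :=
  le_trans (h.lvl_le (P := []) (E := [xa5]) [] (8, .w []) 0 (h.cand_fix (a5_r h) (d := (8, .w [])) (by decide +kernel)) 10 (by decide +kernel)
    (h.lvl_le (P := [(8, .w [])]) (E := [xa5]) [(([], 0), (8, .w []))] (0, .w [7, 3, 4, 2, 3, 7, 8, 1, 2, 3, 7, 4, 3, 2, 1]) 1 (h.cand_fix (a5_r h) (d := (0, .w [7, 3, 4, 2, 3, 7, 8, 1, 2, 3, 7, 4, 3, 2, 1])) (by decide +kernel)) 6 (by decide +kernel)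
    (h.lvl_le (P := [(0, .w [7, 3, 4, 2, 3, 7, 8, 1, 2, 3, 7, 4, 3, 2, 1]), (8, .w [])]) (E := [xa5]) [(([], 1), (8, .w [])), (([], 0), (0, .w [7, 3, 4, 2, 3, 7, 8, 1, 2, 3, 7, 4, 3, 2, 1]))] (5, .w []) 2 (h.cand_fix (a5_r h) (d := (5, .w [])) (by decide +kernel)) 3 (by decide +kernel)
    (h.lvl_le (P := [(5, .w []), (0, .w [7, 3, 4, 2, 3, 7, 8, 1, 2, 3, 7, 4, 3, 2, 1]), (8, .w [])]) (E := [xa5]) [(([], 2), (8, .w [])), (([], 1), (0, .w [7, 3, 4, 2, 3, 7, 8, 1, 2, 3, 7, 4, 3, 2, 1]))] (6, .w []) 3 (h.cand_fix (a5_r h) (d := (6, .w [])) (by decide +kernel)) 1 (by decide +kernel)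
    (h.lvl_le (P := [(6, .w []), (5, .w []), (0, .w [7, 3, 4, 2, 3, 7, 8, 1, 2, 3, 7, 4, 3, 2, 1]), (8, .w [])]) (E := [xa5]) [(([], 1), (5, .w [])), (([], 0), (6, .w [])), (([], 2), (0, .w [7, 3, 4, 2, 3, 7, 8, 1, 2, 3, 7, 4, 3, 2, 1])), (([], 3), (8, .w []))] (0, .w []) 4 (h.goodC_orb (h.goodC_rep (x := xa5) (d := (0, .w [])) (pt := 13) (p := 5) (by decide +kernel) [((0, .w [1]), 1)]) (Es := [xa5]) (by simp) 4).cand 5 (by decide +kernel)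
    (h.lvl_le (P := [(0, .w []), (6, .w []), (5, .w []), (0, .w [7, 3, 4, 2, 3, 7, 8, 1, 2, 3, 7, 4, 3, 2, 1]), (8, .w [])]) (E := [xa5]) [(([], 0), (0, .w [])), (([5], 0), (1, .w [])), (([5, 5], 0), (2, .w [])), (([], 4), (8, .w [])), (([], 1), (6, .w [])), (([], 3), (0, .w [7, 3, 4, 2, 3, 7, 8, 1, 2, 3, 7, 4, 3, 2, 1])), (([5, 5, 5], 0), (3, .w []))] (4, .w []) 0 (cand_all _ _ _ _) 1 (by decide +kernel)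
    (h.lvl_le (P := [(4, .w []), (0, .w []), (6, .w []), (5, .w []), (0, .w [7, 3, 4, 2, 3, 7, 8, 1, 2, 3, 7, 4, 3, 2, 1]), (8, .w [])]) (E := [xa5]) [(([], 1), (0, .w [])), (([6], 1), (1, .w [])), (([6, 6], 1), (2, .w [])), (([], 0), (4, .w [])), (([], 3), (5, .w [])), (([5], 4), (0, .w [5, 4, 3, 7, 2, 3, 4, 1, 2, 3, 7, 5, 4, 3, 2, 1]))] (7, .w []) 0 (cand_all _ _ _ _) 2 (by decide +kernel)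
    (h.end_le h.base0 [([], 2), ([7], 2), ([7, 7], 2), ([7, 7, 7], 2), ([], 1), ([], 4), ([], 3), ([], 0), ([], 6)] (by decide +kernel))))))))) (by norm_num)
def ya5 : Ex := (((nth px0 pa5 0).ex.mul (nth px0 pa5 1).ex).mul (nth px0 pa5 2).ex).mul (nth px0 pa5 3).ex
theorem a5_c1 (h : F22 D ε xs) : IsConj (xa5.ev xs) (ya5.ev xs) :=
  isConj_iff.2 ⟨_, h.eq_of h.base0 (a := (Ex.w [7, 8, 5, 6, 4, 5, 3, 4, 2, 3, 1, 2, 0, 1, 5, 1, 2, 3, 7, 4, 3, 2, 1, 0, 1, 2, 3, 4, 7, 3, 2, 1, 4, 5, 3, 4, 2, 7, 4, 3, 2, 3, 4, 7, 3, 8, 5, 3, 7, 4, 3, 2, 3, 4, 7, 3, 6, 5, 7, 8, 5, 4, 3, 7, 6, 5, 4, 3, 2, 3, 4, 5, 6, 7, 3, 4, 5, 8, 7, 0, 3, 4, 2, 3, 7, 8, 1, 2, 3, 7, 4, 3, 2, 1, 0, 1, 2, 3, 4, 7, 3, 2, 1, 8, 7, 3, 2, 4, 3]).cj xa5) (by decide +kernel)⟩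
theorem a5_c2 (h : F22 D ε xs) : IsConj (xa5.ev xs) (xa5.ev xs * ya5.ev xs) :=
  isConj_iff.2 ⟨_, h.eq_of h.base0 (a := (Ex.w [7, 8, 3, 7, 6, 4, 5, 2, 3, 4, 1, 2, 3, 7, 8, 5, 2, 3, 4, 1, 2, 3, 7, 6, 5, 4, 3, 2, 1, 5, 4, 5, 7, 8, 1, 2, 3, 7, 4, 3, 2, 1, 0, 1, 2, 3, 4, 7, 3, 2, 1, 3, 7, 8, 5, 4, 3, 7, 6, 5, 4, 3, 8, 3, 7, 4, 3, 2, 3, 4, 7, 3, 5, 8, 5, 4, 1, 2, 3, 7, 6, 5, 4, 3, 2, 1, 0, 1, 2, 3, 4, 5, 6, 7, 3, 2, 1, 3, 7, 6, 5, 4, 3, 2, 3, 4, 5, 6, 7, 3, 4, 5, 8, 3, 7, 4, 3, 2, 3, 4, 7, 3, 8, 7, 0]).cj xa5) (b := xa5.mul ya5) (by decide +kernel)⟩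
theorem n22_7 (h : F22 D ε xs) (X : Subgroup G) (hX : Nat.card X = 7) : ProdSym D X 42 3 ∧ Nat.card N[X] = 252 := by
  obtain ⟨ε, xs, h, rfl⟩ := h.wlog (h.cj1 (by norm_num) (by norm_num)) (a7_o h) hX
  obtain ⟨φ, -, L⟩ := a7_l h
  have := norm_le_cent (xa7.ev xs) (by rw [Ne, ← orderOf_eq_one_iff, a7_o h]; norm_num)
  rw [a7_o h] at this
  exact L.prod (n := 0) (h.norm_eq (by norm_num) hX (L.le (n := 0)) (L.card (n := 0))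
    (this.trans (Nat.mul_le_mul_left _ (a7_b h))) (by norm_num [Nat.factorial]))
theorem a5_m (h : F22 D ε xs) : ∃ φ : Equiv.Perm (Fin 5) →* G, (∀ i : Fin 4, φ (H18.adjSw i) = (nth px0 pa5 i).ex.ev xs) ∧
    Loc D (zpowers (xa5.ev xs)) (zpowers (xa5.ev xs) ⊔ zpowers (ta5.ev xs)) 20 φ ∧
    zpowers (xa5.ev xs) ⊔ zpowers (ta5.ev xs) ⊔ φ.range = N[zpowers (xa5.ev xs)] ∧ CJ G 5 ∧ CE G 25 25 ∧ NE G 25 2400 ∧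
      Nat.card ↥(zpowers (xa5.ev xs) ⊔ zpowers (ya5.ev xs)) = 25 ∧
      ∀ z ∈ zpowers (xa5.ev xs) ⊔ zpowers (ya5.ev xs), z ≠ 1 → IsConj (xa5.ev xs) z := by
  obtain ⟨φ, a, L⟩ := a5_l h
  have e : φ c5 = ya5.ev xs := by rw [c5, map_mul, map_mul, map_mul, a, a, a, a]; rfl
  exact ⟨φ, a, L, e ▸ five_main (a5_o h) (a5_t h) L (e ▸ a5_c1 h) (e ▸ a5_c2 h) (q := 26900729856) h.card rfl
    (lt_of_le_of_lt (a5_b h) (by norm_num))⟩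
theorem cj22_5 (h : F22 D ε xs) : CJ G 5 := let ⟨_, _, _, _, k, _⟩ := a5_m h; k
theorem ce22_25 (h : F22 D ε xs) : CE G 25 25 := let ⟨_, _, _, _, _, k, _⟩ := a5_m h; k
theorem ne22_25 (h : F22 D ε xs) : NE G 25 2400 := let ⟨_, _, _, _, _, _, k, _⟩ := a5_m h; k
theorem n22_5 (h : F22 D ε xs) (X : Subgroup G) (hX : Nat.card X = 5) : ProdSym D X 20 5 ∧ Nat.card N[X] = 2400 := by
  obtain ⟨ε, xs, h, rfl⟩ := h.wlog (cj22_5 h) (a5_o h) hX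
  obtain ⟨φ, -, L, e, -⟩ := a5_m h
  exact L.prod (n := 2) e
end H9
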