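import Cfsg.Agent.H9.Ct1a
import Cfsg.Agent.H9.Ct1b
import Cfsg.Prelude.Def_Local

set_option autoImplicit false
set_option linter.unusedSectionVars false
open Subgroup Equiv H3S

namespace H9.Ct1

theorem ty {d : P} (hd : d ∈ D0) : d = 1 ∨ (d = z0 ∨ d = z0⁻¹) ∨ (d = z1 ∨ d = z1⁻¹) ∨
    ∃ ρ : P, ρ * t0 = t0 * ρ ∧ ρ * d * ρ⁻¹ = z0 * z1 := by
  have h : d ∈ DL := hd
  simp only [DL, List.mem_cons, List.not_mem_nil, or_false] at h
  rcases h with h | h | h | h | h | rfl | rfl | rfl | rfl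
  · exact .inl h
  · exact .inr (.inl (.inl h))
  · exact .inr (.inl (.inr h))
  · exact .inr (.inr (.inl (.inl h)))
  · exact .inr (.inr (.inl (.inr h)))
  · exact .inr (.inr (.inr ⟨1, by simp, by simp⟩))
  · exact .inr (.inr (.inr ⟨r0, by decide +kernel, by decide +kernel⟩))
  · exact .inr (.inr (.inr ⟨r1, by decide +kernel, by decide +kernel⟩))
  · exact .inr (.inr (.inr ⟨r0 * r1, by decide +kernel, by decide +kernel⟩))

theorem D0_le {K : Subgroup P} (a : z0 ∈ K) (b : z1 ∈ K) : D0 ≤ K := fun d hd => by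
  have h : d ∈ DL := hd
  simp only [DL, List.mem_cons, List.not_mem_nil, or_false] at h
  rcases h with rfl | rfl | rfl | rfl | rfl | rfl | rfl | rfl | rfl
  exacts [one_mem _, a, inv_mem a, b, inv_mem b, mul_mem a b, mul_mem (inv_mem a) b,
    mul_mem a (inv_mem b), mul_mem (inv_mem a) (inv_mem b)]

theorem z0D : z0 ∈ D0 := show z0 ∈ DL by simp [DL]
theorem z1D : z1 ∈ D0 := show z1 ∈ DL by simp [DL]

variable {G : Type*} [Group G] [Finite G] {φ : P →* G} {σ : G}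

theorem D_le {K : Subgroup G} (a : φ z0 ∈ K) (b : φ z1 ∈ K) : D0.map φ ≤ K :=
  map_le_iff_le_comap.2 (D0_le a b)

theorem nD {g : G} (a : g * φ z0 * g⁻¹ ∈ D0.map φ) (b : g * φ z1 * g⁻¹ ∈ D0.map φ) :
    g ∈ normalizer (D0.map φ : Set G) :=
  mem_normalizer_fintype fun _ hd =>
    D_le (K := (D0.map φ).comap (MulAut.conj g).toMonoidHom) a b hd

theorem cD {g : G} (a : g * φ z0 = φ z0 * g) (b : g * φ z1 = φ z1 * g) :
    g ∈ centralizer (D0.map φ : Set G) :=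
  mem_centralizer_iff.2 fun _ hd => mem_centralizer_singleton_iff.1
    (D_le (K := centralizer {g}) (mem_centralizer_singleton_iff.2 a.symm)
      (mem_centralizer_singleton_iff.2 b.symm) hd)

theorem nL {p : P} (hp : p * t0 = t0 * p) : φ p ∈ normalizer (D0.map φ : Set G) := by
  obtain ⟨h1, h2⟩ := F2 p.1 p.2 hp
  refine nD ?_ ?_ <;> rw [← map_inv, ← map_mul, ← map_mul] <;> refine mem_map_of_mem φ ?_
  · rcases h1 with e | e <;> rw [e]
    exacts [z0D, inv_mem z0D]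
  · rcases h2 with e | e <;> rw [e]
    exacts [z1D, inv_mem z1D]

section
variable (h : Hy φ σ)
include h

theorem si : σ⁻¹ = σ := inv_eq_of_mul_eq_one_right h.ss

theorem sz' : σ * φ z1 * σ = φ z0 := by
  rw [← h.sz]
  calc _ = σ * σ * φ z0 * (σ * σ) := by group
    _ = _ := by rw [h.ss, one_mul, mul_one]

theorem st' : σ * φ t0 = φ t0 * σ := by
  rw [← mul_inv_eq_iff_eq_mul, si h, h.st]

theorem nS : σ ∈ normalizer (D0.map φ : Set G) :=
  nD (by rw [si h, h.sz]; exact mem_map_of_mem φ z1D)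
    (by rw [si h, sz' h]; exact mem_map_of_mem φ z0D)

theorem cz {g : G} (e : g * φ z0 = φ z0 * g) : g ∈ φ.range :=
  h.nz g (by rw [e, mul_inv_cancel_right]; exact mem_zpowers _)

theorem K1 {g : G} (e : g * φ z0 * g⁻¹ ∈ D0.map φ) : g ∈ φ.range ∨ σ * g ∈ φ.range := by
  obtain ⟨d, hd, e⟩ := e
  have sg : σ * g * φ z0 * (σ * g)⁻¹ = σ * φ d * σ := by
    rw [e, mul_inv_rev, si h]; group
  rcases ty hd with rfl | (rfl | rfl) | (rfl | rfl) | ⟨ρ, -, f⟩
  · exact .inl (h.nz g (by rw [← e, map_one]; exact one_mem _))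
  · exact .inl (h.nz g (by rw [← e]; exact mem_zpowers _))
  · exact .inl (h.nz g (by rw [← e, map_inv]; exact inv_mem (mem_zpowers _)))
  · exact .inr (h.nz _ (by rw [sg, sz' h]; exact mem_zpowers _))
  · refine .inr (h.nz _ ?_)
    rw [sg, map_inv, show σ * (φ z1)⁻¹ * σ = (σ * φ z1 * σ)⁻¹ by
      rw [mul_inv_rev, mul_inv_rev, si h, mul_assoc], sz' h]
    exact inv_mem (mem_zpowers _)
  · exfalso
    haveI : Fact (Nat.Prime 5) := ⟨by norm_num⟩
    have y : φ ρ * g * φ z0 * (φ ρ * g)⁻¹ = φ z0 * φ z1 := by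
      rw [← map_mul φ z0 z1, ← f, map_mul, map_mul, map_inv, e]; group
    have o : orderOf (φ ρ * g * φ w5 * (φ ρ * g)⁻¹) = 5 := by
      rw [← MulAut.conj_apply, MulEquiv.orderOf_eq, orderOf_injective φ h.inj]
      exact orderOf_eq_prime F6.1 F6.2.1
    have c : φ w5 * φ z0 = φ z0 * φ w5 := by rw [← map_mul, F6.2.2, map_mul]
    have m : φ ρ * g * φ w5 * (φ ρ * g)⁻¹ ∈ centralizer ({φ z0 * φ z1} : Set G) :=
      mem_centralizer_singleton_iff.2 (by rw [← y, conj_mul, conj_mul, c])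
    have := orderOf_dvd_natCard _ m
    rw [o, h.cy] at this
    omega

theorem cardD : Nat.card (D0.map φ) = 9 :=
  (Nat.card_congr (D0.equivMapOfInjective φ h.inj).toEquiv).symm.trans card_D0

theorem Cy : centralizer ({φ z0 * φ z1} : Set G) ≤ normalizer (D0.map φ : Set G) := by
  haveI : Fact (Nat.Prime 2) := ⟨Nat.prime_two⟩
  obtain ⟨-, -, -, -, -, -, -, tt, t1, zt, zt', -, zz, c, -⟩ := F7
  have c' : φ z0 * φ z1 = φ z1 * φ z0 := by rw [← map_mul, c, map_mul]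
  have a1 : φ t0 * φ z0 = φ z0 * φ t0 := by rw [← map_mul, ← zt, map_mul]
  have a2 : φ t0 * φ z1 = φ z1 * φ t0 := by rw [← map_mul, ← zt', map_mul]
  let H := normalizer (D0.map φ : Set G) ⊓ centralizer ({φ z0 * φ z1} : Set G)
  let H1 := H ⊓ centralizer ({φ z0} : Set G)
  have d9 : 9 ∣ Nat.card H1 := by
    rw [← cardD h]
    refine card_dvd_of_le (le_inf (le_inf le_normalizer (D_le ?_ ?_)) (D_le ?_ ?_)) <;>
      rw [mem_centralizer_singleton_iff]
    · rw [mul_assoc, c']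
    · rw [← mul_assoc, c']
    · exact c'.symm
  have d2 : 2 ∣ Nat.card H1 := by
    have o : orderOf (φ t0) = 2 := by
      rw [orderOf_injective φ h.inj]; exact orderOf_eq_prime (by rw [sq, tt]) t1
    rw [← o]
    refine orderOf_dvd_natCard _ ⟨⟨nL rfl, mem_centralizer_singleton_iff.2 ?_⟩,
      mem_centralizer_singleton_iff.2 a1⟩
    rw [← mul_assoc, a1, mul_assoc, a2, mul_assoc]
  have sH : σ ∈ H := ⟨nS h, mem_centralizer_singleton_iff.2 (by
    rw [← mul_inv_eq_iff_eq_mul, ← conj_mul, si h, h.sz, sz' h, c'])⟩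
  have ne : ¬ Nat.card H ≤ Nat.card H1 := fun e => by
    have e1 : H1 = H := eq_of_le_of_card_ge inf_le_left e
    have := mem_centralizer_singleton_iff.1 (e1 ▸ sH : σ ∈ H1).2
    rw [← mul_inv_eq_iff_eq_mul, si h, h.sz] at this
    exact zz (h.inj this).symm
  have d36 : Nat.card H ∣ 36 := h.cy ▸ card_dvd_of_le inf_le_right
  obtain ⟨k, hk⟩ : Nat.card H1 ∣ Nat.card H := card_dvd_of_le inf_le_left
  obtain ⟨m, hm⟩ := Nat.Coprime.mul_dvd_of_dvd_of_dvd (by norm_num : Nat.Coprime 9 2) d9 d2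
  have p1 : 0 < Nat.card H := Nat.card_pos
  have : H = centralizer ({φ z0 * φ z1} : Set G) := eq_of_le_of_card_ge inf_le_right (by
    rw [h.cy]
    rw [hk, hm] at ne p1 ⊢
    rcases k with _ | _ | k
    · omega
    · omega
    · rcases m with _ | m
      · omega
      · nlinarith)
  exact this ▸ inf_le_left

theorem tL {p : P} (e : φ p * φ t0 = φ t0 * φ p) : p * t0 = t0 * p :=
  h.inj (by rw [map_mul, map_mul, e])

theorem hcG {d : P} (hd : d ∈ D0) (d1 : d ≠ 1) {g : G} (gt : g * φ t0 = φ t0 * g)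
    (e : g * φ d = φ d * g) : g ∈ normalizer (D0.map φ : Set G) := by
  have k0 : ∀ g, g * φ t0 = φ t0 * g → g * φ z0 = φ z0 * g → g ∈ normalizer (D0.map φ : Set G) :=
    fun g a b => by
    obtain ⟨p, rfl⟩ := cz h b
    exact nL (tL h a)
  have k1 : g * φ z1 = φ z1 * g → g ∈ normalizer (D0.map φ : Set G) := fun b => by
    have e1 : σ * φ t0 * σ⁻¹ = φ t0 := by rw [si h, h.st]
    have e2 : σ * φ z1 * σ⁻¹ = φ z0 := by rw [si h, sz' h]
    have := k0 (σ * g * σ⁻¹) (by rw [← e1, conj_mul, conj_mul, gt])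
      (by rw [← e2, conj_mul, conj_mul, b])
    exact (mul_mem_cancel_left (nS h)).1 ((mul_mem_cancel_right (inv_mem (nS h))).1 this)
  rcases ty hd with rfl | (rfl | rfl) | (rfl | rfl) | ⟨ρ, a, f⟩
  · exact absurd rfl d1
  · exact k0 g gt e
  · exact k0 g gt (Commute.inv_right_iff.1 (show Commute g (φ z0)⁻¹ from map_inv φ z0 ▸ e))
  · exact k1 e
  · exact k1 (Commute.inv_right_iff.1 (show Commute g (φ z1)⁻¹ from map_inv φ z1 ▸ e))
  · have : φ ρ * g * (φ ρ)⁻¹ ∈ normalizer (D0.map φ : Set G) :=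
      Cy h (mem_centralizer_singleton_iff.2 (by
        rw [← map_mul φ z0 z1, ← f, map_mul, map_mul, map_inv, conj_mul, conj_mul, e]))
    exact (mul_mem_cancel_left (nL a)).1 ((mul_mem_cancel_right (inv_mem (nL a))).1 this)

theorem rs : (σ * φ r0 * σ) * φ z0 * (σ * φ r0 * σ)⁻¹ = φ z0 ∧
    (σ * φ r0 * σ) * φ z1 * (σ * φ r0 * σ)⁻¹ = (φ z1)⁻¹ ∧
    (σ * φ r0 * σ) * φ r0 = φ r0 * (σ * φ r0 * σ) := by
  obtain ⟨a, b, -, -, -, -, rr, -⟩ := F7
  have a' : φ r0 * φ z0 * (φ r0)⁻¹ = (φ z0)⁻¹ := by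
    rw [← map_inv, ← map_mul, ← map_mul, a, map_inv]
  have b' : φ r0 * φ z1 * (φ r0)⁻¹ = φ z1 := by rw [← map_inv, ← map_mul, ← map_mul, b]
  have e1 : σ * φ z1 * σ⁻¹ = φ z0 := by rw [si h, sz' h]
  have e2 : σ * φ z0 * σ⁻¹ = φ z1 := by rw [si h, h.sz]
  have e3 : σ * φ r0 * σ = σ * φ r0 * σ⁻¹ := by rw [si h]
  have h1 : (σ * φ r0 * σ) * φ z0 * (σ * φ r0 * σ)⁻¹ = φ z0 := by
    rw [e3]
    calc _ = σ * (φ r0 * (σ⁻¹ * (σ * φ z1 * σ⁻¹) * σ) * (φ r0)⁻¹) * σ⁻¹ := by rw [e1]; group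
      _ = σ * (φ r0 * φ z1 * (φ r0)⁻¹) * σ⁻¹ := by group
      _ = _ := by rw [b', e1]
  refine ⟨h1, ?_, ?_⟩
  · rw [e3]
    calc _ = σ * (φ r0 * (σ⁻¹ * (σ * φ z0 * σ⁻¹) * σ) * (φ r0)⁻¹) * σ⁻¹ := by rw [e2]; group
      _ = σ * (φ r0 * φ z0 * (φ r0)⁻¹) * σ⁻¹ := by group
      _ = _ := by rw [a', ← e2]; group
  · have h2 := mul_inv_eq_iff_eq_mul.1 h1
    obtain ⟨q, hq⟩ := cz h h2
    have := F5 q.1 q.2 (h.inj (by rw [map_mul, map_mul]; exact hq ▸ h2)) (h.inj (by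
      rw [map_mul, map_one]
      change φ q * φ q = 1
      rw [hq, e3, conj_mul, ← map_mul, rr, map_one, mul_one, mul_inv_cancel]))
    rw [← hq, ← map_mul, ← map_mul]
    exact congrArg φ this

theorem genG {K : Subgroup G} (rK : φ r0 ∈ K) (sK : σ ∈ K) {g : G} (gt : g * φ t0 = φ t0 * g)
    (e : g * φ z0 * g⁻¹ ∈ D0.map φ) : ∃ w ∈ K, w * g ∈ centralizer (D0.map φ : Set G) := by
  obtain ⟨s1, s2, -⟩ := rs h
  obtain ⟨a, b, -⟩ := F7
  have a' : φ r0 * φ z0 * (φ r0)⁻¹ = (φ z0)⁻¹ := by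
    rw [← map_inv, ← map_mul, ← map_mul, a, map_inv]
  have b' : φ r0 * φ z1 * (φ r0)⁻¹ = φ z1 := by rw [← map_inv, ← map_mul, ← map_mul, b]
  have qK : σ * φ r0 * σ ∈ K := mul_mem (mul_mem sK rK) sK
  generalize σ * φ r0 * σ = q at s1 s2 qK
  have iv : ∀ u x : G, u * x⁻¹ * u⁻¹ = (u * x * u⁻¹)⁻¹ := fun u x => by group
  have cj : ∀ u v x : G, u * v * x * (u * v)⁻¹ = u * (v * x * v⁻¹) * u⁻¹ := fun u v x => by group
  have key : ∀ p : P, p * t0 = t0 * p → ∃ w ∈ K, w * φ p ∈ centralizer (D0.map φ : Set G) :=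
    fun p hp => by
    obtain ⟨h1, h2⟩ := F2 p.1 p.2 hp
    have m : ∀ x y : P, p * x * p⁻¹ = y → φ p * φ x * (φ p)⁻¹ = φ y := fun x y e => by
      rw [← e, map_mul, map_mul, map_inv]
    rcases h1 with h1 | h1 <;> rcases h2 with h2 | h2 <;> replace h1 := m _ _ h1 <;>
      replace h2 := m _ _ h2
    · exact ⟨1, one_mem _, cD (by rw [one_mul, ← mul_inv_eq_iff_eq_mul, h1])
        (by rw [one_mul, ← mul_inv_eq_iff_eq_mul, h2])⟩
    · exact ⟨q, qK, cD (by rw [← mul_inv_eq_iff_eq_mul, cj, h1, s1])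
        (by rw [← mul_inv_eq_iff_eq_mul, cj, h2, map_inv, iv, s2, inv_inv])⟩
    · exact ⟨φ r0, rK, cD (by rw [← mul_inv_eq_iff_eq_mul, cj, h1, map_inv, iv, a', inv_inv])
        (by rw [← mul_inv_eq_iff_eq_mul, cj, h2, b'])⟩
    · exact ⟨φ r0 * q, mul_mem rK qK,
        cD (by rw [← mul_inv_eq_iff_eq_mul, cj, cj, h1, map_inv, iv, s1, iv, a', inv_inv])
        (by rw [← mul_inv_eq_iff_eq_mul, cj, cj, h2, map_inv, iv, s2, inv_inv, b'])⟩
  rcases K1 h e with ⟨p, rfl⟩ | ⟨p, hp⟩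
  · exact key p (tL h gt)
  · obtain ⟨w, hw, f⟩ := key p (tL h (by rw [hp, mul_assoc, gt, ← mul_assoc, st' h, mul_assoc]))
    exact ⟨w * σ, mul_mem hw sK, by rwa [mul_assoc, ← hp]⟩

end

theorem ct1 (h : Hy φ σ) : (∀ g, g * φ t0 = φ t0 * g → g ∈ φ.range ∨ σ * g ∈ φ.range) ∨ ∃ π : centralizer ({φ t0} : Set G) →* Perm (Fin 6), Function.Surjective π ∧ ∀ x, π x = 1 ↔ x.1 = 1 ∨ x.1 = φ t0 := by
  obtain ⟨a, -, -, -, rt, -, rr, tt, t1, zt, zt', zi, -⟩ := F7
  have mc : ∀ {p : P}, p * t0 = t0 * p → φ p ∈ centralizer ({φ t0} : Set G) := fun e =>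
    mem_centralizer_singleton_iff.2 (by rw [← map_mul, e, map_mul])
  have DC : D0.map φ ≤ centralizer ({φ t0} : Set G) := D_le (mc zt) (mc zt')
  have nn : ∀ g : centralizer ({φ t0} : Set G),
      g ∈ normalizer (((D0.map φ).subgroupOf (centralizer {φ t0}) : Subgroup _) : Set _) ↔
        g.1 ∈ normalizer (D0.map φ : Set G) := fun g => by
    rw [← subgroupOf_normalizer_eq DC, mem_subgroupOf]
  have cc : ∀ g : centralizer ({φ t0} : Set G),
      g ∈ centralizer (((D0.map φ).subgroupOf (centralizer {φ t0}) : Subgroup _) : Set _) ↔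
        g.1 ∈ centralizer (D0.map φ : Set G) := fun g => by
    rw [mem_centralizer_iff, mem_centralizer_iff]
    exact ⟨fun e d hd => congrArg Subtype.val (e ⟨d, DC hd⟩ hd), fun e d hd => Subtype.ext (e d hd)⟩
  obtain ⟨s1, -, s3⟩ := rs h
  have a' : φ r0 * φ z0 * (φ r0)⁻¹ = (φ z0)⁻¹ := by
    rw [← map_inv, ← map_mul, ← map_mul, a, map_inv]
  have rr' : φ r0 * φ r0 = 1 := by rw [← map_mul, rr, map_one]
  have ri : (φ r0)⁻¹ = φ r0 := inv_eq_of_mul_eq_one_right rr'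
  have sq2 : (σ * φ r0) ^ 2 = σ * φ r0 * σ * φ r0 := by rw [sq, ← mul_assoc]
  let r : centralizer ({φ t0} : Set G) := ⟨φ r0, mc rt⟩
  let s : centralizer ({φ t0} : Set G) := ⟨σ, mem_centralizer_singleton_iff.2 (st' h)⟩
  rcases absA (t := (⟨φ t0, mc rfl⟩ : centralizer ({φ t0} : Set G))) (a := s * r) (b := r)
    (fun e => t1 (h.inj ((congrArg Subtype.val e).trans (map_one φ).symm)))
    (Subtype.ext (by change φ t0 * φ t0 = 1; rw [← map_mul, tt, map_one]))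
    (fun g => Subtype.ext (mem_centralizer_singleton_iff.1 g.2))
    ((D0.map φ).subgroupOf _)
    ((Nat.card_congr (subgroupOfEquivOfLe DC).toEquiv).trans (cardD h))
    (by
      rintro ⟨_, hx⟩ ⟨d, hd, rfl⟩
      exact Subtype.ext (by change φ d ^ 3 = 1; rw [← map_pow, (DL_f hd hd).2.2.2, map_one]))
    (fun e => h.n27 (e.trans (card_subgroup_dvd_card _)))
    (by
      rintro ⟨_, hx⟩ ⟨d, hd, rfl⟩
      refine (cc _).2 (cD ?_ ?_) <;> simp only [← map_mul]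
      exacts [congrArg φ (DL_f hd z0D).2.1, congrArg φ (DL_f hd z1D).2.1])
    (fun g hg => by
      have e := mem_centralizer_iff.1 ((cc g).1 hg)
      have e0 := (e _ (mem_map_of_mem φ z0D)).symm
      have e1 := (e _ (mem_map_of_mem φ z1D)).symm
      obtain ⟨p, hp⟩ := cz h e0
      rcases F1 p.1 p.2 (h.inj (by rw [map_mul, map_mul]; exact hp ▸ e0))
        (h.inj (by rw [map_mul, map_mul]; exact hp ▸ e1)) with f | f
      · exact .inl ⟨p, f, hp⟩
      · exact .inr ⟨p * t0, f, by rw [map_mul, hp]; rfl⟩)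
    ((nn _).2 (mul_mem (nS h) (nL rt))) ((nn _).2 (nL rt))
    (Subtype.ext (by
      change (σ * φ r0) ^ (2 * 2) = 1
      rw [pow_mul, sq2, sq]
      calc _ = σ * φ r0 * σ * (φ r0 * (σ * φ r0 * σ)) * φ r0 := by group
        _ = σ * (φ r0 * (σ * σ) * φ r0) * σ * (φ r0 * φ r0) := by rw [← s3]; group
        _ = 1 := by rw [h.ss, mul_one, rr', mul_one, mul_one, h.ss]))
    (Subtype.ext rr')
    (Subtype.ext (by
      change φ r0 * (σ * φ r0) * (φ r0)⁻¹ = (σ * φ r0)⁻¹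
      rw [mul_inv_rev, si h, ← mul_assoc, mul_inv_cancel_right, ri]))
    (fun e => by
      have e0 := mem_centralizer_iff.1 ((cc _).1 e) _ (mem_map_of_mem φ z0D)
      change φ z0 * (σ * φ r0) ^ 2 = (σ * φ r0) ^ 2 * φ z0 at e0
      rw [sq2, eq_comm, ← mul_inv_eq_iff_eq_mul] at e0
      have : σ * φ r0 * σ * (φ r0 * φ z0 * (φ r0)⁻¹) * (σ * φ r0 * σ)⁻¹ = φ z0 := by
        refine Eq.trans ?_ e0
        group
      rw [a', show ∀ u x : G, u * x⁻¹ * u⁻¹ = (u * x * u⁻¹)⁻¹ from fun u x => by group, s1,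
        ← map_inv] at this
      exact zi (h.inj this).symm)
    (fun g hg => by
      have rK : r ∈ closure ({s * r, r} : Set _) := subset_closure (Or.inr rfl)
      have sK : s ∈ closure ({s * r, r} : Set _) :=
        (mul_mem_cancel_right rK).1 (subset_closure (Or.inl rfl))
      obtain ⟨_, ⟨w, hw, rfl⟩, f⟩ := genG h (K := (closure ({s * r, r} : Set _)).map
        (centralizer ({φ t0} : Set G)).subtype) ⟨r, rK, rfl⟩ ⟨s, sK, rfl⟩
        (mem_centralizer_singleton_iff.1 g.2)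
        ((mem_normalizer_iff.1 ((nn g).1 hg) _).1 (mem_map_of_mem φ z0D))
      exact ⟨w, hw, (cc _).2 f⟩)
    (by
      rintro ⟨_, hx⟩ ⟨d, hd, rfl⟩ x1 g hg
      exact (nn g).2 (hcG h hd (fun e => x1 (Subtype.ext ((congrArg φ e).trans (map_one φ))))
        (mem_centralizer_singleton_iff.1 g.2)
        (congrArg Subtype.val (mem_centralizer_singleton_iff.1 hg)))) with hn | ⟨π, h1, h2⟩
  · refine .inl fun g hg => K1 h ?_
    exact hn.conj_mem ⟨φ z0, mc zt⟩ (mem_map_of_mem φ z0D) ⟨g, mem_centralizer_singleton_iff.2 hg⟩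
  · exact .inr ⟨π, h1, fun x => by rw [h2, Subtype.ext_iff, Subtype.ext_iff]; rfl⟩

end H9.Ct1
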