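import Cfsg.Agent.H6.Dihedral
import Cfsg.Agent.S3333

set_option autoImplicit false
open Subgroup Equiv

namespace H9.Ct1

theorem absA {C : Type*} [Group C] [Finite C] {t a b : C} (t1 : t ≠ 1) (tt : t * t = 1)
    (tc : ∀ g, g * t = t * g) (D : Subgroup C) (h9 : Nat.card D = 9) (h3 : ∀ d ∈ D, d ^ 3 = 1)
    (n27 : ¬ 27 ∣ Nat.card C) (cm : D ≤ centralizer (D : Set C))
    (hC : ∀ g ∈ centralizer (D : Set C), g ∈ D ∨ g * t ∈ D)
    (ha : a ∈ normalizer (D : Set C)) (hb : b ∈ normalizer (D : Set C)) (a4 : a ^ 4 = 1)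
    (b2 : b * b = 1) (ab : b * a * b⁻¹ = a⁻¹) (a2 : a ^ 2 ∉ centralizer (D : Set C))
    (gen : ∀ g ∈ normalizer (D : Set C), ∃ w ∈ closure ({a, b} : Set C),
      w * g ∈ centralizer (D : Set C))
    (hc : ∀ x ∈ D, x ≠ 1 → centralizer ({x} : Set C) ≤ normalizer (D : Set C)) :
    D.Normal ∨ ∃ π : C →* Perm (Fin 6), Function.Surjective π ∧ ∀ x, π x = 1 ↔ x = 1 ∨ x = t := by
  classical
  haveI : Fact (Nat.Prime 3) := ⟨Nat.prime_three⟩
  haveI : Fact (Nat.Prime 2) := ⟨Nat.prime_two⟩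
  have ot : orderOf t = 2 := orderOf_eq_prime (by rw [sq, tt]) t1
  have mz : ∀ g, g ∈ zpowers t ↔ g = 1 ∨ g = t := fun g => by
    refine ⟨fun h1 => ?_, by rintro (rfl | rfl); exacts [one_mem _, mem_zpowers _]⟩
    rw [mem_zpowers_iff_mem_range_orderOf, ot] at h1
    simp only [Finset.mem_image, Finset.mem_range] at h1
    obtain ⟨n, hn, rfl⟩ := h1
    interval_cases n <;> simp
  haveI nZ : (zpowers t).Normal := ⟨fun n hn g => by
    rcases (mz n).1 hn with rfl | rfl
    · simp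
    · rw [tc g, mul_inv_cancel_right]; exact mem_zpowers _⟩
  let p := QuotientGroup.mk' (zpowers t)
  have ps : Function.Surjective p := QuotientGroup.mk'_surjective _
  have pt : p t = 1 := (QuotientGroup.eq_one_iff t).2 (mem_zpowers t)
  have lf : ∀ x y : C, x ^ 3 = 1 → y ^ 3 = 1 → p x = p y → x = y := fun x y hx hy e => by
    rcases (mz _).1 (QuotientGroup.eq.1 e) with f | f
    · exact inv_mul_eq_one.1 f
    · rw [inv_mul_eq_iff_eq_mul] at f
      rw [f, (show Commute x t from tc x).mul_pow, hx, one_mul, pow_succ, sq, tt, one_mul] at hy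
      exact absurd hy t1
  have cj3 : ∀ g, ∀ d ∈ D, (g * d * g⁻¹) ^ 3 = 1 := fun g d hd => by
    rw [conj_pow, h3 d hd]; simp
  have cen : ∀ g, ∀ d ∈ D, p d * p g = p g * p d → d * g = g * d := fun g d hd e => by
    have := lf _ _ (cj3 g d hd) (h3 d hd) (by
      rw [map_mul, map_mul, map_inv, ← e, mul_inv_cancel_right])
    rw [mul_inv_eq_iff_eq_mul] at this
    exact this.symm
  have nr : ∀ g, p g ∈ normalizer (D.map p : Set (C ⧸ zpowers t)) ↔ g ∈ normalizer (D : Set C) :=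
    fun g => by
    refine ⟨fun h => mem_normalizer_fintype fun d hd => ?_, fun h => le_normalizer_map p ⟨g, h, rfl⟩⟩
    obtain ⟨d', hd', e⟩ := (mem_normalizer_iff.1 h (p d)).1 ⟨d, hd, rfl⟩
    rw [lf _ _ (cj3 g d hd) (h3 d' hd') (by rw [e, map_mul, map_mul, map_inv])]
    exact hd'
  have ms : ∀ g, p g ∈ D.map p ↔ g ∈ centralizer (D : Set C) := fun g => by
    refine ⟨?_, fun h => ?_⟩
    · rintro ⟨d, hd, e⟩
      refine mem_centralizer_iff.2 fun d' hd' => cen g d' hd' ?_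
      rw [← e, ← map_mul, ← map_mul, mem_centralizer_iff.1 (cm hd) d' hd']
    · rcases hC g h with f | f
      · exact ⟨g, f, rfl⟩
      · exact ⟨_, f, by rw [map_mul, pt, mul_one]⟩
  have cS : Nat.card (D.map p) = 9 := by
    rw [← h9]
    refine (Nat.card_congr (Equiv.ofBijective (p.subgroupMap D) ⟨fun x y e => Subtype.ext ?_,
      p.subgroupMap_surjective D⟩)).symm
    exact lf _ _ (h3 _ x.2) (h3 _ y.2) (congrArg Subtype.val e)
  have pS : IsPGroup 3 (D.map p) := IsPGroup.of_card (n := 2) cS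
  have iS : ¬ 3 ∣ (D.map p).index := fun h => n27 (by
    refine Dvd.dvd.trans ?_ (card_quotient_dvd_card (zpowers t))
    rw [← (D.map p).card_mul_index, cS]
    exact Nat.mul_dvd_mul_left 9 h)
  let κ : normalizer (D : Set C) →* normalizer (D.map p : Set (C ⧸ zpowers t)) ⧸
      (D.map p).subgroupOf (normalizer (D.map p : Set (C ⧸ zpowers t))) :=
    (QuotientGroup.mk' _).comp ((p.comp (normalizer (D : Set C)).subtype).codRestrict _
      fun g => (nr g).2 g.2)
  have kk : ∀ g, κ g = 1 ↔ g.1 ∈ centralizer (D : Set C) := fun g =>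
    (QuotientGroup.eq_one_iff _).trans (ms g)
  have ks : Function.Surjective κ := fun q => by
    obtain ⟨⟨x, hx⟩, rfl⟩ := QuotientGroup.mk_surjective q
    obtain ⟨g, rfl⟩ := ps x
    exact ⟨⟨g, (nr g).1 hx⟩, rfl⟩
  obtain ⟨eN⟩ := H6.equiv_dihedral_of_top (n := 4) (a := κ ⟨a, ha⟩) (b := κ ⟨b, hb⟩)
    (orderOf_eq_prime_pow (p := 2) (n := 1) (by rw [← map_pow, kk]; exact a2)
      (by rw [← map_pow, show (⟨a, ha⟩ : normalizer (D : Set C)) ^ 2 ^ (1 + 1) = 1 from
        Subtype.ext a4, map_one]))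
    (by rw [← map_mul, show (⟨b, hb⟩ : normalizer (D : Set C)) * ⟨b, hb⟩ = 1 from
      Subtype.ext b2, map_one])
    (by rw [← map_inv, ← map_inv, ← map_mul, ← map_mul]; exact congrArg κ (Subtype.ext ab))
    (by
      rintro ⟨k, e⟩
      refine a2 ((kk ((⟨a, ha⟩ : normalizer (D : Set C)) ^ 2)).1 ?_)
      have h1 : κ ⟨b, hb⟩ * κ ⟨a, ha⟩ * (κ ⟨b, hb⟩)⁻¹ = (κ ⟨a, ha⟩)⁻¹ := by
        rw [← map_inv, ← map_inv, ← map_mul, ← map_mul]; exact congrArg κ (Subtype.ext ab)
      simp only at e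
      rw [← e, ((Commute.refl _).zpow_left k).eq, mul_inv_cancel_right] at h1
      rw [map_pow, sq]
      exact mul_eq_one_iff_eq_inv.2 h1)
    (by
      rw [eq_top_iff]
      intro q _
      obtain ⟨g, rfl⟩ := ks q
      obtain ⟨w, hw, e⟩ := gen g g.2
      have key : ∀ w ∈ closure ({a, b} : Set C), ∃ h : w ∈ normalizer (D : Set C),
          κ ⟨w, h⟩ ∈ closure ({κ ⟨a, ha⟩, κ ⟨b, hb⟩} : Set _) := fun w hw => by
        induction hw using closure_induction with
        | mem x hx =>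
          rcases hx with rfl | rfl
          · exact ⟨ha, subset_closure (Or.inl rfl)⟩
          · exact ⟨hb, subset_closure (Or.inr rfl)⟩
        | one => exact ⟨one_mem _, by
            rw [show (⟨1, one_mem _⟩ : normalizer (D : Set C)) = 1 from rfl, map_one]
            exact one_mem _⟩
        | mul x y _ _ hx hy =>
          obtain ⟨h1, h2⟩ := hx
          obtain ⟨h3, h4⟩ := hy
          exact ⟨mul_mem h1 h3, by have := mul_mem h2 h4; rwa [← map_mul] at this⟩
        | inv x _ hx =>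
          obtain ⟨h1, h2⟩ := hx
          exact ⟨inv_mem h1, by have := inv_mem h2; rwa [← map_inv] at this⟩
      obtain ⟨h1, h2⟩ := key w hw
      have := (kk (⟨w, h1⟩ * g)).2 e
      rw [map_mul, mul_eq_one_iff_inv_eq] at this
      rw [← this]
      exact inv_mem h2)
  rcases Cfsg.Agent.S3333.result (pS.toSylow iS) (D.map p) rfl cS (by
      ext x
      obtain ⟨g, rfl⟩ := ps x
      rw [ms, mem_centralizer_iff, mem_centralizer_iff]
      refine ⟨fun h d hd => cen g d hd (h _ ⟨d, hd, rfl⟩), ?_⟩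
      rintro h _ ⟨d, hd, rfl⟩
      rw [← map_mul, ← map_mul, h d hd]) eN (by
      rintro _ ⟨d, hd, rfl⟩ h1 x hx
      obtain ⟨g, rfl⟩ := ps x
      refine (nr g).2 (hc d hd (fun e => h1 (by rw [e, map_one])) ?_)
      exact mem_centralizer_singleton_iff.2
        (cen g d hd (mem_centralizer_singleton_iff.1 hx).symm).symm) with h | ⟨⟨e⟩⟩
  · refine Or.inl (normalizer_eq_top_iff.1 (eq_top_iff.2 fun g _ => (nr g).1 ?_))
    rw [normalizer_eq_top_iff.2 h]
    exact mem_top _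
  · refine Or.inr ⟨e.toMonoidHom.comp p, e.surjective.comp ps, fun x => ?_⟩
    rw [← mz, ← QuotientGroup.eq_one_iff]
    exact e.map_eq_one_iff

end H9.Ct1
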