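import Cfsg.Agent.H9.Dg12a
import Cfsg.Agent.H17.Square
import Cfsg.Agent.H17.Central
import Cfsg.Prelude.Def_DegreeGraph

set_option autoImplicit false

/-! The Mathieu group of degree twelve has character degrees divisible by 55 and by 33. -/

namespace H9.Dg12
open Cfsg H17 H27 MulAction
open scoped ComplexConjugate
section
variable {G : Type*} [Group G]

/-- integer valued generalized characters -/
def IG (f : G → ℤ) : Prop := IsGeneralizedCharacter G fun g => (f g : ℂ)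
theorem IG.add {f h : G → ℤ} (a : IG f) (b : IG h) : IG fun g => f g + h g := by
  simp only [IG, Int.cast_add] at *; exact a.add b
theorem IG.sub {f h : G → ℤ} (a : IG f) (b : IG h) : IG fun g => f g - h g := by
  simp only [IG, Int.cast_sub] at *; exact a.sub b
theorem IG.mul {f h : G → ℤ} (a : IG f) (b : IG h) : IG fun g => f g * h g := by
  simp only [IG, Int.cast_mul] at *; exact a.mul b
theorem IG.cmp {H : Type*} [Group H] {f : G → ℤ} (a : IG f) (φ : H →* G) : IG fun g => f (φ g) := by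
  simp only [IG] at *; exact a.comp φ
theorem ig_one : IG fun _ : G => 1 := by simp only [IG, Int.cast_one]; exact isGen_one
theorem IG.alt {f : G → ℤ} (a : IG f) : IsGeneralizedCharacter G fun g => ((f g : ℂ) ^ 2 - f (g * g)) / 2 := by
  obtain ⟨χ, ψ, hχ, hψ, e⟩ := a
  obtain ⟨S, A, -, hA, e1, e2⟩ := hχ.exists_sym_alt
  obtain ⟨T, B, hT, -, e3, e4⟩ := hψ.exists_sym_alt
  refine ⟨A + T, χ * ψ, hA.add hT, hχ.mul hψ, funext fun g => ?_⟩
  have e5 : (f g : ℂ) = χ g - ψ g := congrFun e g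
  have e6 : (f (g * g) : ℂ) = χ (g * g) - ψ (g * g) := congrFun e (g * g)
  simp only [Pi.sub_apply, Pi.add_apply, Pi.mul_apply, e5, e6]
  linear_combination (e1 g - e2 g + e3 g + e4 g) / 2
theorem IG.half [Finite G] {f : G → ℤ} (a : IG f) : IG fun g => (f g ^ 2 - f (g * g)) / 2 := by
  have h := a.alt
  refine Eq.subst (motive := IsGeneralizedCharacter G) (funext fun g => ?_) h
  obtain ⟨n, hn⟩ := IsIntegrallyClosed.isIntegral_iff.1 ((isIntegral_algebraMap_iff (algebraMap ℚ ℂ).injective).1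
    (show IsIntegral ℤ (algebraMap ℚ ℂ (((f g ^ 2 - f (g * g) : ℤ) : ℚ) / 2)) by simpa using h.isIntegral g))
  have : f g ^ 2 - f (g * g) = n * 2 := by
    have : (n : ℚ) = _ := hn
    exact_mod_cast ((eq_div_iff two_ne_zero).1 this).symm
  beta_reduce
  rw [this, Int.mul_ediv_cancel _ two_ne_zero, div_eq_iff two_ne_zero]; exact_mod_cast this
variable [Fintype G]
theorem inn (hN : Nat.card G = 95040) {f h : G → ℤ} {m : ℤ} (e : ∑ g, f g * h g = 95040 * m) :
    classInner (fun g => (f g : ℂ)) (fun g => (h g : ℂ)) = m := by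
  have : ∑ g, (f g : ℂ) * h g = 95040 * m := by exact_mod_cast e
  simp only [classInner, map_intCast, this, hN]; push_cast; ring
theorem deg1 {θ : G → ℂ} (h : IsGeneralizedCharacter G θ) (h1 : classInner θ θ = 1) {z : ℤ} (e : θ 1 = z) :
    z.natAbs ∈ charDegrees G ∧ z.natAbs ∣ Nat.card G := by
  have k : ∀ {φ : G → ℂ} {z : ℤ}, IsIrrCharacter G φ → φ 1 = z → z.natAbs ∈ charDegrees G ∧ z.natAbs ∣ Nat.card G := fun a b => by
    obtain ⟨n, hn⟩ := a.isCharacter.exists_nat_one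
    obtain rfl : _ = (n : ℤ) := by exact_mod_cast b.symm.trans hn
    exact ⟨⟨⟨_, a⟩, by simp [charDegree, hn]⟩, a.degree_dvd_card hn⟩
  rcases h.irr_or_neg_irr h1 with a | a
  exacts [k a e, Int.natAbs_neg z ▸ k a (by simp [e])]
theorem deg33 (hN : Nat.card G = 95040) {u w : G → ℂ} (hu : IsGeneralizedCharacter G u) (hw : IsGeneralizedCharacter G w)
    (uu : classInner u u = (2 : ℤ)) (ww : classInner w w = (2 : ℤ)) (uw : classInner u w = (1 : ℤ)) (u1 : u 1 = 121)
    (w1 : w 1 = 242) : ∃ d ∈ charDegrees G, 33 ∣ d := by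
  obtain ⟨m, hm, -⟩ := hu.exists_coeff
  obtain ⟨k, hk, -⟩ := hw.exists_coeff
  have a := Int.cast_injective ((inner_eq_sum_coeff hu.isClassFunction hm hm).symm.trans uu)
  have b := Int.cast_injective ((inner_eq_sum_coeff hw.isClassFunction hk hk).symm.trans ww)
  have c := Int.cast_injective ((inner_eq_sum_coeff hu.isClassFunction hm hk).symm.trans uw)
  obtain ⟨χ, -, p⟩ := Finset.exists_lt_of_sum_lt (s := Finset.univ) (f := fun _ => (0 : ℤ)) (g := fun χ => m χ * k χ) (by simp [c])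
  have a' := (Finset.single_le_sum (fun χ _ => mul_self_nonneg (m χ)) (Finset.mem_univ χ)).trans_eq a
  have b' := (Finset.single_le_sum (fun χ _ => mul_self_nonneg (k χ)) (Finset.mem_univ χ)).trans_eq b
  obtain ⟨d, hd⟩ := χ.2.isCharacter.exists_nat_one
  have g0 := deg1 χ.2.isGen χ.2.inner_self (z := d) (by simp [hd])
  have e : k χ = m χ ∧ (m χ = 1 ∨ m χ = -1) := by
    have : -2 < m χ ∧ m χ < 2 ∧ -2 < k χ ∧ k χ < 2 := ⟨by nlinarith, by nlinarith, by nlinarith, by nlinarith⟩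
    generalize m χ = x at *; generalize k χ = y at *
    obtain ⟨_, _, _, _⟩ := this
    interval_cases x <;> omega
  have key : ∀ {v : G → ℂ} {n : ℤ}, IsGeneralizedCharacter G v → classInner v v = (2 : ℤ) → classInner v χ = m χ → v 1 = n →
      (n - m χ * d).natAbs ∈ charDegrees G ∧ (n - m χ * d).natAbs ∣ Nat.card G := fun hv vv vχ v1 =>
    deg1 (hv.sub (χ.2.isGen.intCast_smul (m χ))) (by
      rw [classInner_sub_left, classInner_sub_right, classInner_sub_right, classInner_smul_left, classInner_smul_left,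
        classInner_smul_right, classInner_smul_right, ← hv.inner_comm χ.2.isGen, vv, vχ, χ.2.inner_self]
      rcases e.2 with e | e <;> simp [e] <;> norm_num) (by simp [v1, hd])
  have g1 := key (n := 121) hu uu (hm χ) (by simp [u1])
  have g2 := key (n := 242) hw ww (e.1 ▸ hk χ) (by simp [w1])
  rw [hN] at g0 g1 g2
  rcases of_decide_eq_true ((allN_iff _ _).1 (by decide +kernel : allN 95041 (fun d => decide (d ∣ 95040 → ∀ x ∈ [(1 : ℤ), -1],
    (121 - x * d).natAbs ∣ 95040 → (242 - x * d).natAbs ∣ 95040 → 33 ∣ d ∨ 33 ∣ (121 - x * d).natAbs ∨ 33 ∣ (242 - x * d).natAbs)) = true) d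
    (Nat.lt_succ_of_le (Nat.le_of_dvd (by norm_num) g0.2))) g0.2 (m χ) (by simpa using e.2) g1.2 g2.2 with h | h | h
  exacts [⟨_, g0.1, h⟩, ⟨_, g1.1, h⟩, ⟨_, g2.1, h⟩]
end

noncomputable local instance (K : Subgroup MM) : Fintype K := Fintype.ofFinite _
theorem ig_fc {S : Finset GolayPt} (h : ∀ k ∈ H12, ∀ p, k • p ∈ S ↔ p ∈ S) : IG fun g : H12 => (fc S g : ℤ) := by
  let X : SubMulAction H12 GolayPt := ⟨S, fun k p hp => (h k k.2 p).2 hp⟩
  refine Eq.subst (motive := IsGeneralizedCharacter H12) (funext fun g => ?_) (isCharacter_perm X).isGen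
  rw [Int.cast_natCast, fc, ← Nat.subtype_card _ (p := fun p => p ∈ S ∧ g.1 • p = p) (by simp)]
  exact congrArg _ (Nat.card_congr ((Equiv.subtypeEquivRight fun p : X => Subtype.ext_iff).trans
    (Equiv.subtypeSubtypeEquivSubtypeInter (· ∈ S) fun p => g.1 • p = p)))

def vA (x y : ℤ) : ℤ := (x ^ 2 - y) / 2
def vf (x y : ℤ) : ℤ := x * x - 1 - x - vA x y
def vw (x y z s t : ℤ) : ℤ := vA (vf x y) (vf y z) + vA (vf x y) (vf y z) - vA (vA x y) (vA y z) - vA s t + vA x y + vA x y -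
  x * vA x y - x * vf x y + x + x + vf x y + vf x y - x * s
def ev (P : ℤ → ℤ → ℤ → ℤ → ℤ → ℤ) (l : List ℕ) : ℤ :=
  P (l.getD 0 0 - 1) (l.getD 2 0 - 1) (l.getD 4 0 - 1) (l.getD 1 0 - 1) (l.getD 3 0 - 1)
def PA (x y _ _ _ : ℤ) : ℤ := vA x y
def Pu (x _ _ s _ : ℤ) : ℤ := x * s
theorem igs {G : Type*} [Group G] [Finite G] {a b : G → ℤ} (ha : IG a) (hb : IG b) :
    (IG fun g => vA (a g) (a (g * g))) ∧ (IG fun g => a g * b g) ∧
      IG fun g => vw (a g) (a (g * g)) (a (g * g * (g * g))) (b g) (b (g * g)) :=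
  have A : IG fun g => vA (a g) (a (g * g)) := ha.half
  have f : IG fun g => vf (a g) (a (g * g)) := (((ha.mul ha).sub ig_one).sub ha).sub A
  ⟨A, ha.mul hb, (((((((((((f.half.add f.half).sub A.half).sub hb.half).add A).add A).sub (ha.mul A)).sub
    (ha.mul f)).add ha).add ha).add f).add f).sub (ha.mul hb)⟩
theorem sums : (∑ g : H12, ev PA (ky g) * ev PA (ky g) = 95040 * 1) ∧ (∑ g : H12, ev Pu (ky g) * ev Pu (ky g) = 95040 * 2) ∧
    (∑ g : H12, ev vw (ky g) * ev vw (ky g) = 95040 * 2) ∧ ∑ g : H12, ev Pu (ky g) * ev vw (ky g) = 95040 * 1 :=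
  ⟨(sum_ky fun l => ev PA l * ev PA l).trans (by decide +kernel), (sum_ky fun l => ev Pu l * ev Pu l).trans (by decide +kernel),
    (sum_ky fun l => ev vw l * ev vw l).trans (by decide +kernel), (sum_ky fun l => ev Pu l * ev vw l).trans (by decide +kernel)⟩
theorem ky_one : ky 1 = [12, 12, 12, 12, 12] := by
  simp only [ky, fc, mul_one, one_smul, Finset.filter_true, eD_zero]; decide +kernel
attribute [local irreducible] fc eD
theorem igk : (IG fun g : H12 => ev PA (ky g)) ∧ (IG fun g : H12 => ev Pu (ky g)) ∧ IG fun g : H12 => ev vw (ky g) :=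
  igs ((ig_fc fun _ => mD).sub ig_one) ((ig_fc (S := (eD 0)ᶜ) fun _ hk p => by simp [mD hk]).sub ig_one)
attribute [local irreducible] ky
theorem m12_degs : (∃ d ∈ Cfsg.charDegrees ↥Cfsg.Spor.M12, 55 ∣ d) ∧ ∃ d ∈ Cfsg.charDegrees ↥Cfsg.Spor.M12, 33 ∣ d := by
  let _ := Fintype.ofFinite Spor.M12
  have hN : Nat.card Spor.M12 = 95040 := (Nat.card_congr m12Equiv.toEquiv).symm.trans card_stab_eD
  obtain ⟨A, u, w⟩ := igk
  obtain ⟨s1, s2, s3, s4⟩ := sums
  have s := fun (F : H12 → ℤ) => m12Equiv.symm.toEquiv.sum_comp F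
  refine ⟨⟨_, (deg1 (A.cmp m12Equiv.symm.toMonoidHom) ((inn hN ((s _).trans s1)).trans Int.cast_one) (z := 55) ?_).1, dvd_rfl⟩,
    deg33 hN (u.cmp m12Equiv.symm.toMonoidHom) (w.cmp m12Equiv.symm.toMonoidHom) (inn hN ((s _).trans s2))
      (inn hN ((s _).trans s3)) (inn hN ((s _).trans s4)) ?_ ?_⟩
  all_goals
    simp only [map_one, OneMemClass.coe_one, ky_one]
    norm_cast
end H9.Dg12
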