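import Cfsg.Agent.H9.Nse

set_option autoImplicit false

/-! Joint distribution of fixed point numbers in the Mathieu group of degree twelve. -/

namespace H9.Dg12
open H27 Subgroup MulAction Cfsg H9.Nse
set_option maxRecDepth 100000
noncomputable section

local instance (K : Subgroup MM) : Fintype K := Fintype.ofFinite _
def sg (lf : ℕ → ℕ) (ls : List (List ℕ)) : ℕ → ℕ :=
  List.rec (motive := fun _ => ℕ → ℕ) lf (fun l _ ih x => sumL l fun u => force (tm x u) ih) ls
structure PQ (lf : ℕ → ℕ) (Φ : MM → ℕ) (F : ℕ) (ls : List (List ℕ)) : Prop where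
  eq : ∀ a ∈ H12, ∀ x, AT a x → sg lf ls x = ∑ g : ↥(H12 ⊓ fixM F), Φ (a * g)
variable {lf : ℕ → ℕ} {Φ : MM → ℕ}
theorem stp {F F' j : ℕ} {ls : List (List ℕ)} (h : PQ lf Φ F' ls) {Ns : List Net} {l : List ℕ} (e : F' = F ||| 2 ^ j)
    (c : ck F j Ns l) (hc : Nat.card ↥(H12 ⊓ fixM F) = Ns.length * Nat.card ↥(H12 ⊓ fixM F')) : PQ lf Φ F (l :: ls) :=
  ⟨fun a ha x hx => by
  obtain ⟨A, B⟩ := c.ok
  rw [lvl (sub e c.1) (fun u hu => by
    obtain ⟨i, hi, rfl⟩ := List.getElem_of_mem hu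
    exact (A.get hi (A.length_eq ▸ hi)).1) B (by rwa [List.length_map]) fun g => Φ (a * g)]
  refine (sumL_map _).trans (congrArg List.sum (List.forall₂_eq_eq_eq.le _ _ ?_)).symm
  rw [List.forall₂_map_left_iff, List.forall₂_map_right_iff]
  exact A.imp fun u t k => by
    rw [force_eq]; refine Eq.trans ?_ (h.eq _ (mul_mem ha k.1.1) _ (at_mul hx k.2)).symm; simp only [mul_assoc]⟩
theorem pq (h : ∀ a x, AT a x → lf x = Φ a) : PQ lf Φ 1 [t1, t2, t3, t4] :=
  have p0 : PQ lf Φ 0x1f [] := ⟨fun a _ x hx => by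
    have := (Nat.card_eq_one_iff_unique.1 card_D5).1
    rw [Fintype.sum_subsingleton _ 1, coe_one, mul_one]; exact h a x hx⟩
  stp (stp (F := 3) (j := 2) (Ns := n2) (stp (F := 7) (j := 3) (Ns := n3) (stp (F := 15) (j := 4) (Ns := n4) p0
    (by decide) (by decide +kernel) (by rw [card_D4, card_D5]; rfl)) (by decide) (by decide +kernel) (by rw [card_D3, card_D4]; rfl))
    (by decide) (by decide +kernel) (by rw [card_D2, card_D3]; rfl)) (by decide) c1 (by rw [card_D1, card_D2]; rfl)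
attribute [local irreducible] sg
theorem totg (h : ∀ a x, AT a x → lf x = Φ a) (hF : ∀ k ∈ H12, ∀ g, Φ (k * g * k⁻¹) = Φ g) :
    ∑ g : H12, Φ g = sg lf [t1, t2, t3, t4] tI + 11 * sg lf [t1, t2, t3, t4] t0 := by
  obtain ⟨A, B⟩ := c1.ok
  obtain ⟨C, -⟩ := (by decide +kernel : ck 0 0 [n0] [t0]).ok
  obtain ⟨⟨u1, -⟩, u2⟩ := (List.forall₂_cons.1 C).1
  have u3 : mm n0 • GE.e 0 = GE.e 1 := (u2 0 (by norm_num)).2
  have k1 : ∀ k ∈ n1.map mm, k ∈ H12 ⊓ fixM 1 := fun u hu => by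
    obtain ⟨i, hi, rfl⟩ := List.getElem_of_mem hu
    exact (A.get hi (A.length_eq ▸ hi)).1
  have s := sub (F := 0) (F' := 1) (j := 0) (by decide) (by decide)
  have l1 : (n1.map mm).length = 11 := rfl
  clear A C
  generalize n1.map mm = ks at k1 B l1
  generalize mm n0 = u at u1 u2 u3
  have k2 : ∀ k ∈ ks, (k * u * k⁻¹) • GE.e 0 = k • GE.e 1 := fun k hk => by
    rw [mul_smul, mul_smul, (s _ (inv_mem (k1 k hk))).2, u3]
  have cj : ∀ k ∈ ks, ∑ h : ↥(H12 ⊓ fixM 1), Φ (k * u * k⁻¹ * h) = ∑ h : ↥(H12 ⊓ fixM 1), Φ (u * h) := fun k hk =>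
    Fintype.sum_equiv (MulAut.conj (⟨k, k1 k hk⟩ : ↥(H12 ⊓ fixM 1))⁻¹).toEquiv _ _ fun h => by
      rw [← hF k (k1 k hk).1 (u * _)]; congr 1; simp [mul_assoc]
  rw [lvl (K := H12) (H := H12 ⊓ fixM 1) (x := GE.e 0) (fun g h => ⟨h.1, (s g h).2⟩)
    (us := 1 :: ks.map fun k => k * u * k⁻¹) (List.forall_mem_cons.2 ⟨one_mem _, List.forall_mem_map.2 fun k hk =>
      mul_mem (mul_mem (k1 k hk).1 u1) (inv_mem (k1 k hk).1)⟩) (by
      rw [List.map_cons, List.map_map, Function.comp_def, List.map_congr_left k2, List.nodup_cons]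
      refine ⟨fun c => ?_, B⟩
      obtain ⟨k, hk, e⟩ := List.mem_map.1 c
      rw [one_smul, ← (s _ (k1 k hk)).2, smul_left_cancel_iff] at e
      exact absurd (GE.injOn (by simp) (by simp) e) (by norm_num))
    (by rw [card_D1, List.length_cons, List.length_map, l1]; exact card_stab_eD), List.map_cons, List.sum_cons, List.map_map,
    Function.comp_def, List.map_congr_left (g := fun _ => sg lf [t1, t2, t3, t4] t0) fun k hk =>
      (cj k hk).trans ((pq h).eq _ u1 _ u2).symm,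
    ← (pq h).eq 1 (one_mem _) tI fun i hi => by rw [(by decide +kernel : ∀ i < 24, ent 16 tI i = i) i hi]; exact ⟨hi, one_smul _ _⟩,
    List.map_const', List.sum_replicate, l1, smul_eq_mul]

def fc (S : Finset GolayPt) (g : MM) : ℕ := (S.filter fun p => g • p = p).card
def fp (l : List ℕ) (f : ℕ → ℕ) : ℕ := sumL l fun i => ite' (Nat.beq (f i) i) 1 0
def AF (g : MM) (f : ℕ → ℕ) : Prop := ∀ i < 24, f i < 24 ∧ g • GE.e i = GE.e (f i)
theorem AF.mul {g h : MM} {f f' : ℕ → ℕ} (a : AF g f) (b : AF h f') : AF (g * h) fun i => f (f' i) := fun i hi => by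
  rw [mul_smul, (b i hi).2]; exact a _ (b i hi).1
theorem fp_eq {l : List ℕ} {M : ℕ} (h : l = (List.range 24).filter M.testBit) {g : MM} {f : ℕ → ℕ} (a : AF g f) :
    fp l f = fc (GE.fs M) g := by
  have m : ∀ i, i ∈ l ↔ i < 24 ∧ M.testBit i = true := by simp [h]
  rw [fp, sumL_eq (h ▸ List.nodup_range.filter _)]
  simp only [ite'_eq, Nat.beq_eq]
  rw [← Finset.card_filter, fc]
  refine Finset.card_nbij' GE.e GE.ix (fun i hi => ?_) (fun p hp => ?_) (fun i hi => ?_) fun p _ => GE.e_ix p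
  all_goals simp only [Finset.coe_filter, List.mem_toFinset, m, Set.mem_setOf_eq] at *
  · exact ⟨(GE.e_mem_fs hi.1.1).2 hi.1.2, by rw [(a i hi.1.1).2, hi.2]⟩
  · exact ⟨⟨GE.ix_lt p, GE.mem_fs.1 hp.1⟩, GE.injOn (a _ (GE.ix_lt p)).1 (GE.ix_lt p) (by rw [← (a _ (GE.ix_lt p)).2, GE.e_ix, hp.2])⟩
  · exact GE.ix_e i hi.1.1
theorem fc_conj {S : Finset GolayPt} {k : MM} (h : ∀ p, k • p ∈ S ↔ p ∈ S) (g : MM) : fc S (k * g * k⁻¹) = fc S g :=
  (Finset.card_bijective _ (MulAction.bijective k) fun p => by simp [h, mul_smul]).symm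
def ix (ks : List (List ℕ)) (l : List ℕ) : ℕ := List.rec 0 (fun k _ ih => ite' (leq k l) 0 (Nat.succ ih)) ks
theorem ix_spec (ks : List (List ℕ)) (l : List ℕ) : ix ks l ≤ ks.length ∧ (ix ks l < ks.length → ks.getD (ix ks l) [] = l) := by
  induction ks with
  | nil => simp [ix]
  | cons k ks ih =>
    rw [show ix (k :: ks) l = ite' (leq k l) 0 (ix ks l + 1) from rfl, ite'_eq]
    split_ifs with c
    · simp [leq_iff.1 c]
    · simpa using ih
def ks : List (List ℕ) := [[2, 0, 4, 0, 4], [1, 1, 1, 1, 1], [1, 1, 3, 3, 3], [2, 2, 2, 2, 2], [4, 0, 4, 4, 12], [0, 2, 0, 4, 4],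
  [0, 0, 0, 0, 0], [0, 0, 2, 2, 2], [3, 3, 3, 3, 3], [0, 4, 4, 4, 12], [4, 4, 12, 12, 12], [0, 0, 12, 12, 12], [12, 12, 12, 12, 12]]
def lD : List ℕ := [0, 1, 2, 3, 4, 6, 8, 9, 12, 13, 16, 18]
def lE : List ℕ := [5, 7, 10, 11, 14, 15, 17, 19, 20, 21, 22, 23]
def lfk (x : ℕ) : ℕ := Nat.shiftLeft 1 (Nat.mul 17 (forceL [fp lD (ent 16 x), fp lE (ent 16 x), fp lD fun i => ent 16 x (ent 16 x i),
  fp lE fun i => ent 16 x (ent 16 x i), fp lD fun i => ent 16 x (ent 16 x (ent 16 x (ent 16 x i)))] (ix ks)))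
def ky (g : MM) : List ℕ := [fc (eD 0) g, fc (eD 0)ᶜ g, fc (eD 0) (g * g), fc (eD 0)ᶜ (g * g), fc (eD 0) (g * g * (g * g))]
theorem q0 : sg lfk [t1, t2, t3, t4] tI = 25711008955079161090430156347127699500905142675706560955549628 := by decide +kernel
theorem q1 : sg lfk [t1, t2, t3, t4] t0 = 7061784352723180134946326834621350114157835736262188729220 := by decide +kernel
open scoped Pointwise in
theorem mD {k : MM} (hk : k ∈ H12) (p : GolayPt) : k • p ∈ eD 0 ↔ p ∈ eD 0 := by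
  conv_lhs => rw [← mem_stabilizer_iff.1 hk]
  exact Finset.smul_mem_smul_finset_iff k
theorem tot : ∑ g : H12, 131072 ^ ix ks (ky g) = 25788688582959116071914565942308534352160878868805445031571048 := by
  rw [totg (lf := lfk) (Φ := fun g => 131072 ^ ix ks (ky g)) (fun a x h => ?_) fun k hk g => ?_, q0, q1]
  · have h : AF a (ent 16 x) := h
    have d := fun {g f} => fp_eq (l := lD) (M := dod0) (by decide +kernel) (g := g) (f := f)
    have e := fun {g f} => fp_eq (l := lE) (M := dod0 ^^^ (2 ^ 24 - 1)) (by decide +kernel) (g := g) (f := f)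
    rw [lfk, forceL_eq, d h, e h, d (h.mul h), e (h.mul h), d ((h.mul h).mul (h.mul h)), GE.fs_compl, ← eD_zero,
      show 131072 = 2 ^ 17 from rfl, ← pow_mul, ← Nat.one_shiftLeft]; rfl
  · simp only [ky, conj_mul, fc_conj (mD hk), fc_conj (S := (eD 0)ᶜ) (k := k) fun p => by simp [mD hk]]
theorem sum_ky (P : List ℕ → ℤ) : ∑ g : H12, P (ky g) = (List.zipWith (fun (c : ℕ) k => c * P k)
    [11880, 17280, 15840, 9504, 2970, 11880, 10560, 9504, 1760, 2970, 495, 396, 1] ks).sum := by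
  classical
  let c : ℕ → ℕ := fun n => (Finset.univ.filter fun g : H12 => ix ks (ky g) = n).card
  have h0 : ∀ g : H12, g ∈ Finset.univ → ix ks (ky g) ∈ Finset.range 14 := fun g _ =>
    Finset.mem_range.2 (Nat.lt_succ_of_le (ix_spec ks _).1)
  have h1 : ∀ n, c n ≤ 95040 := fun n => (Finset.card_le_univ _).trans (Nat.card_eq_fintype_card.symm.trans card_stab_eD).le
  have h2 : ∑ n ∈ Finset.range 14, c n * 131072 ^ n = _ := Eq.trans (Finset.sum_congr rfl fun n _ => by
    rw [← smul_eq_mul, ← Finset.sum_const]; exact Finset.sum_congr rfl fun g hg => by rw [(Finset.mem_filter.1 hg).2])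
    ((Finset.sum_fiberwise_of_maps_to h0 _).trans tot)
  have h4 : List.map c (List.range 14) = [11880, 17280, 15840, 9504, 2970, 11880, 10560, 9504, 1760, 2970, 495, 396, 1, 0] := by
    refine Nat.ofDigits_inj_of_len_eq (b := 131072) (by norm_num) rfl (List.forall_mem_map.2 fun n _ => (h1 n).trans_lt (by norm_num))
      (by decide) (Eq.trans ?_ (h2.trans (by decide +kernel)))
    simp only [Finset.sum_range_succ, Finset.sum_range_zero, List.range_succ, List.range_zero, List.map, List.cons_append,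
      List.nil_append, Nat.ofDigits_cons, Nat.ofDigits_nil]
    ring
  simp only [List.range_succ, List.range_zero, List.map, List.cons_append, List.nil_append, List.cons.injEq] at h4
  rw [← Finset.sum_fiberwise_of_maps_to h0, Finset.sum_range_succ, Finset.card_eq_zero.1 h4.2.2.2.2.2.2.2.2.2.2.2.2.2.1,
    Finset.sum_empty, Finset.sum_congr rfl (g := fun n => c n * P (ks.getD n [])) fun n hn => by
      rw [← nsmul_eq_mul, ← Finset.sum_const]
      refine Finset.sum_congr rfl fun g hg => ?_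
      have e := (Finset.mem_filter.1 hg).2
      rw [← e, (ix_spec ks _).2 (e ▸ Finset.mem_range.1 hn)]]
  simp only [Finset.sum_range_succ, h4]
  simp [ks, add_assoc]
end
end H9.Dg12
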