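import Cfsg.Agent.H24.OT4

/-! Three classes of subgroups of the twisted group of type `E₆` over the field with four elements. -/

set_option autoImplicit false
set_option linter.unusedSectionVars false

namespace H9Ef

open Subgroup

theorem three_abs {Γ : Type*} [Group Γ] {G : Subgroup Γ} {D : Γ} (hD : ∀ g ∈ G, D * g * D⁻¹ ∈ G) (h3 : D ^ 3 = 1)
    (hn : ∀ n : ℕ, ∀ g ∈ G, (∀ y, g * D ^ n * y = y * (g * D ^ n)) → 3 ∣ n) (H0 : Subgroup G)
    (hout : ∀ α : MulAut H0, ∃ s : H0, α ^ 2 = MulAut.conj s)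
    (hc : ∀ m : Γ, (∀ x ∈ H0, m * x = x * m) → ∀ y, m * y = y * m) :
    ∃ H : Fin 3 → Subgroup G, (∀ i, Nonempty (H i ≃* H0)) ∧
      ∀ i j, i ≠ j → ∀ g, (H i).map (MulAut.conj g).toMonoidHom ≠ H j := by
  have hDn : ∀ n : ℕ, ∀ g ∈ G, D ^ n * g * (D ^ n)⁻¹ ∈ G := fun n => by
    induction n with
    | zero => intro g hg; simpa using hg
    | succ n ih =>
      intro g hg
      have := hD _ (ih g hg)
      rwa [show D * (D ^ n * g * (D ^ n)⁻¹) * D⁻¹ = D ^ (n + 1) * g * (D ^ (n + 1))⁻¹ by group] at this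
  have hN : D ∈ normalizer (G : Set Γ) := mem_normalizer_iff.2 fun g => ⟨hD g, fun h => by
    have := hDn 2 _ h
    rwa [show D ^ 2 * (D * g * D⁻¹) * (D ^ 2)⁻¹ = D ^ 3 * g * (D ^ 3)⁻¹ by group, h3, one_mul, inv_one, mul_one] at this⟩
  let δ : MulAut G := G.normalizerMonoidHom ⟨D, hN⟩
  have hδ : ∀ (n : ℕ) (x : G), ((δ ^ n) x : Γ) = D ^ n * x * (D ^ n)⁻¹ := fun n x => by
    rw [← map_pow]; rfl
  refine ⟨fun i => H0.map (δ ^ (i : ℕ)).toMonoidHom, fun i => ⟨((δ ^ (i : ℕ)).subgroupMap H0).symm⟩,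
    fun i j hij g h => hij ?_⟩
  let β : MulAut G := δ ^ (3 - (j : ℕ)) * (MulAut.conj g * δ ^ (i : ℕ))
  have hj : δ ^ (3 - (j : ℕ)) * δ ^ (j : ℕ) = 1 := by
    rw [← pow_add, Nat.sub_add_cancel j.2.le]
    ext x
    rw [hδ, h3]; simp
  have hβ : H0.map β.toMonoidHom = H0 := by
    beta_reduce at h
    calc H0.map β.toMonoidHom = ((H0.map (δ ^ (i : ℕ)).toMonoidHom).map (MulAut.conj g).toMonoidHom).map
          (δ ^ (3 - (j : ℕ))).toMonoidHom := by rw [map_map, map_map]; rfl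
      _ = H0.map (δ ^ (3 - (j : ℕ)) * δ ^ (j : ℕ)).toMonoidHom := by rw [h, map_map]; rfl
      _ = H0 := by rw [hj]; exact map_id _
  let α : MulAut H0 := (β.subgroupMap H0).trans (MulEquiv.subgroupCongr hβ)
  obtain ⟨u, hu⟩ : ∃ u : Γ, u = D ^ (3 - (j : ℕ)) * g * D ^ (i : ℕ) := ⟨_, rfl⟩
  have hα : ∀ x : H0, ((α x : G) : Γ) = u * x * u⁻¹ := fun x => by
    change ((δ ^ (3 - (j : ℕ))) (g * (δ ^ (i : ℕ)) x * g⁻¹) : Γ) = _
    rw [hδ, coe_mul, coe_mul, hδ, hu, coe_inv]; group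
  obtain ⟨s, hs⟩ := hout α
  have h1 := hc (((s : G) : Γ)⁻¹ * (u * u)) fun x hx => by
    have e := congrArg (fun a : MulAut H0 => ((a ⟨x, hx⟩ : G) : Γ)) hs
    simp only [sq, MulAut.mul_apply, hα, MulAut.conj_apply, coe_mul, coe_inv] at e
    calc ((s : G) : Γ)⁻¹ * (u * u) * x = ((s : G) : Γ)⁻¹ * (u * (u * x * u⁻¹) * u⁻¹) * (u * u) := by group
      _ = _ := by rw [e]; group
  obtain ⟨n, hn'⟩ : ∃ n, n = 3 - (j : ℕ) + i := ⟨_, rfl⟩
  obtain ⟨a, ha, e⟩ : ∃ a ∈ G, u = a * D ^ n :=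
    ⟨_, hDn (3 - (j : ℕ)) _ g.2, by rw [hu, hn', pow_add]; group⟩
  have h2 := hn (n + n) (((s : G) : Γ)⁻¹ * (a * (D ^ n * a * (D ^ n)⁻¹)))
    (mul_mem (inv_mem (s : G).2) (mul_mem ha (hDn _ _ ha))) (by
      rwa [show ((s : G) : Γ)⁻¹ * (a * (D ^ n * a * (D ^ n)⁻¹)) * D ^ (n + n) = ((s : G) : Γ)⁻¹ * (u * u) by
        rw [e, pow_add]; group])
  have := i.2
  have := j.2
  exact Fin.ext (by omega)

open Cfsg.Lie H24 H24.E6 H24.St0

theorem three {K : Type*} [Field K] [Fintype K] (hK : Fintype.card K = 4) (H0 : Subgroup (twistedE6 K 2))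
    (hout : ∀ α : MulAut H0, ∃ s : H0, α ^ 2 = MulAut.conj s)
    (hc : ∀ m : GL chevE6.Idx K, (∀ x ∈ H0, m * x = x * m) → ∀ y, m * y = y * m) :
    ∃ H : Fin 3 → Subgroup (twistedE6 K 2), (∀ i, Nonempty (H i ≃* H0)) ∧
      ∀ i j, i ≠ j → ∀ g, (H i).map (MulAut.conj g).toMonoidHom ≠ H j := by
  obtain ⟨f, hf, hq⟩ := exists_f (K := K) (q := 2) Nat.prime_two.isPrimePow hK
  have := tabE6_chk.finite_grp K
  have : CharP K 2 := (CharP.charP_iff_prime_eq_zero Nat.prime_two).2 (exists_frob K Nat.prime_two (show Fintype.card K = 2 ^ 2 from hK) 0).1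
  have hfix : ∀ t : ZMod 2, f (ZMod.castHom (dvd_refl 2) K t) = ZMod.castHom (dvd_refl 2) K t := fun t =>
    RingHom.congr_fun (Subsingleton.elim (f.comp _) _) t
  obtain ⟨ψ, E⟩ := exists_F4 f hf (ZMod.castHom (dvd_refl 2) K) hfix
  have h3 : ∀ t : Kˣ, t ^ 3 = 1 := fun t => by
    have := pow_card_eq_one' (x := t)
    rwa [Nat.card_units, Nat.card_eq_fintype_card, hK] at this
  obtain ⟨ω, hω⟩ := IsCyclic.exists_generator (α := Kˣ)
  replace hω : orderOf ω = 3 := by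
    rw [orderOf_eq_card_of_forall_mem_zpowers hω, Nat.card_units, Nat.card_eq_fintype_card, hK]
  obtain ⟨c, hc', c0, c2⟩ : ∃ c : Fin chevE6.rank → Kˣ, c ∈ (td f hf).T ∧ c (0 : Fin 6) = ω ∧ c (2 : Fin 6) = 1 :=
    ⟨(![ω, 1, 1, 1, 1, Units.map f.toMonoidHom ω] : Fin 6 → Kˣ),
      (mem_T f hf).2 ⟨map_one f, map_one f, (map_one f).symm, rfl⟩, rfl, rfl⟩
  have hd : ∀ (c : Fin chevE6.rank → Kˣ) (g : chevE6.group K), (tabE6_chk.df c 1 g : GL chevE6.Idx K) =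
      tabE6_chk.dg K c * g * (tabE6_chk.dg K c)⁻¹ := fun c g =>
    eq_of_mem_Gr (S := (tabE6_chk.grp K).toSt0) (θ := (chevE6.group K).subtype.comp (tabE6_chk.df c 1).toMonoidHom)
      (θ' := (MulAut.conj (tabE6_chk.dg K c)).toMonoidHom.comp (chevE6.group K).subtype)
      (fun r t => (congrArg Subtype.val (tabE6_chk.df_x c 1 r t)).trans (tabE6_chk.dg_acts c r t).symm)
      (tabE6_chk.grp_Gr K ▸ Subgroup.mem_top g)
  refine three_abs (D := tabE6_chk.dg K c) (fun g hg => ?_) ?_ (fun n g hg h => ?_) H0 hout hc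
  · rw [gen_eq f hf hq] at hg ⊢
    obtain ⟨x, hx, rfl⟩ := hg
    exact ⟨_, Tw.Gd_G1 _ ((td f hf).mem_Gd (tabE6_chk.grp_Gr K) (tabE6_chk.grp_adj K) hc' (φ := 1) fun _ => rfl) x hx,
      hd c x⟩
  · rw [← map_pow, show c ^ 3 = 1 from funext fun i => h3 _, map_one]
  · rw [gen_eq f hf hq] at hg
    obtain ⟨x, hx, rfl⟩ := hg
    have h1 := E.diag f hf hK hq hfix (pow_mem hc' n) hx (by
      rw [show MulAut.conj x * tabE6_chk.df (c ^ n) 1 = 1 from MulEquiv.ext fun y => Subtype.ext (by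
        have := h y
        rw [MulAut.mul_apply, MulAut.conj_apply, coe_mul, coe_mul, hd, coe_inv, map_pow]
        calc _ = (x : GL chevE6.Idx K) * tabE6_chk.dg K c ^ n * y * ((x : GL chevE6.Idx K) * tabE6_chk.dg K c ^ n)⁻¹ := by
              group
          _ = _ := by erw [this]; exact mul_inv_cancel_right _ _)]
      exact map_id _)
    change c (0 : Fin 6) ^ n = c (2 : Fin 6) ^ n at h1
    rwa [c0, c2, one_pow, ← orderOf_dvd_iff_pow_eq_one, hω] at h1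

end H9Ef
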