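import Cfsg.Agent.H9.Ef2

/-! Root elements of type `E₆`. -/

set_option autoImplicit false
set_option maxRecDepth 100000
set_option linter.style.longLine false
set_option Elab.async false

namespace H9Ef
open H29 Cfsg.Lie

theorem c56_1 : chevOK (n := 78) (k := 2) (D := chevE6) (blk2 2 1 1) eI ar x56_1 (56 : Fin 72) 1 = true := by decide +kernel
theorem c36_1 : chevOK (n := 78) (k := 2) (D := chevE6) (blk2 2 1 1) eI ar x36_1 (36 : Fin 72) 1 = true := by decide +kernel
theorem c15_1 : chevOK (n := 78) (k := 2) (D := chevE6) (blk2 2 1 1) eI ar x15_1 (15 : Fin 72) 1 = true := by decide +kernel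
theorem c35_1 : chevOK (n := 78) (k := 2) (D := chevE6) (blk2 2 1 1) eI ar x35_1 (35 : Fin 72) 1 = true := by decide +kernel

end H9Ef
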