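import Cfsg.Agent.H29.LM4
import Cfsg.Agent.H29.Wd

/-! A certificate that the matrices commuting with a group of matrices in characteristic two are scalar. -/

set_option autoImplicit false
set_option linter.unusedSectionVars false

namespace H9Ef
open H29 Matrix

theorem code_xor {N : ℕ} (hN : 0 < N) (A B : Matrix (Fin N) (Fin N) (ZMod 2)) :
    Nat.xor (code 1 A) (code 1 B) = code 1 (A + B) := by
  rw [code, code, matN_xor one_pos hN (fun i _ k _ => ent_lt A i k) (fun i _ k _ => ent_lt B i k)]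
  refine matN_congr fun i hi k hk => ?_
  rw [show ent A i k = _ from ent_fin A ⟨i, hi⟩ ⟨k, hk⟩, show ent B i k = _ from ent_fin B ⟨i, hi⟩ ⟨k, hk⟩,
    show ent (A + B) i k = _ from ent_fin (A + B) ⟨i, hi⟩ ⟨k, hk⟩, Matrix.add_apply]
  generalize A _ _ = x
  generalize B _ _ = y
  revert x y
  decide

theorem exists_code {N c : ℕ} (h : Nat.blt c (2 ^ (N * N)) = true) :
    ∃ B : Matrix (Fin N) (Fin N) (ZMod 2), c = code 1 B := by
  have hb' : c < 2 ^ (1 * (N * N)) := by rw [one_mul]; exact Nat.blt_eq ▸ h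
  refine ⟨decode 2 N 1 c, ?_⟩
  conv_lhs => rw [← pk_pget one_pos hb']
  rw [code, matN_flat]
  refine pk_congr fun t ht => ?_
  have hn : 0 < N := Nat.pos_of_ne_zero (by rintro rfl; simp at ht)
  rw [show ent (decode 2 N 1 c) (t % N) (t / N) = _ from
    ent_fin _ ⟨t % N, Nat.mod_lt _ hn⟩ ⟨t / N, Nat.div_lt_of_lt_mul ht⟩]
  simp only [decode, Matrix.of_apply, Nat.div_add_mod]
  exact (ZMod.val_cast_of_lt (Nat.and_le_right.trans_lt (by norm_num))).symm

/-- One adds translates of the columns found so far. -/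
noncomputable def spin (mul : ℕ → ℕ → ℕ) (one b : ℕ) (L : List ℕ) (k : ℕ → Bool) (l : List (ℕ × ℕ × ℕ)) : ℕ → Bool :=
  List.rec (motive := fun _ => ℕ → Bool) k
    (fun s _ ih X => band (Nat.blt s.2.2 b) (force (evW mul one L s.1 s.2.1) fun g => force (mul g X) fun Y =>
      force (mul Y s.2.2) fun Z => force (Nat.xor X Z) ih)) l

noncomputable def certOK (mul : ℕ → ℕ → ℕ) (one b : ℕ) (L is : List ℕ) (E Y : ℕ) (l : List (ℕ × ℕ × ℕ)) : Bool :=
  force (prodL mul one (fun i => Nat.xor (lgetD one L i) one) is) fun θ =>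
    band (band (Nat.beq (mul (mul θ E) θ) θ) (Nat.blt Y b)) (spin mul one b L (fun X => Nat.beq (mul X Y) one) l θ)

variable {F : Type*} [Field F] {k n : ℕ} [NeZero k] {blk : ℕ → ℕ → ℕ → ℕ} {fm : FM F 2 k blk}
  {ι : Type} [Fintype ι] [DecidableEq ι] {e : Fin n ≃ ι} {a : Ar 2 (n * k)}

theorem C_xor (hw : a.w = 1) (hN : 0 < n * k) {X Y : ℕ} {A B : Matrix ι ι F} (h1 : fm.C e a X A) (h2 : fm.C e a Y B) :
    fm.C e a (Nat.xor X Y) (A + B) := by
  rw [FM.C, map_add, h1, h2, hw, code_xor hN]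

theorem scalar_of_cert (hw : a.w = 1) (hN : 0 < n * k) {m : Matrix ι ι F} {L is : List ℕ}
    (hL : ∀ c ∈ L, ∃ A, fm.C e a c A ∧ m * A = A * m) {E Y : ℕ} {j : ι} (hE : fm.C e a E (single j j 1))
    {l : List (ℕ × ℕ × ℕ)} (h : certOK a.mul a.one (2 ^ (n * k * (n * k))) L is E Y l = true) :
    ∃ c : F, m = scalar ι c := by
  have p1 : ∃ A, fm.C e a a.one A ∧ m * A = A * m := ⟨1, FM.C.one, by simp⟩
  have pm : ∀ {X Y}, (∃ A, fm.C e a X A ∧ m * A = A * m) → (∃ A, fm.C e a Y A ∧ m * A = A * m) →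
      ∃ A, fm.C e a (a.mul X Y) A ∧ m * A = A * m := by
    rintro X Y ⟨A, h1, h2⟩ ⟨B, h3, h4⟩
    exact ⟨A * B, h1.mul h3, by rw [← mul_assoc, h2, mul_assoc, h4, mul_assoc]⟩
  have pg : ∀ i, ∃ A, fm.C e a (lgetD a.one L i) A ∧ m * A = A * m := fun i => by
    rcases lgetD_mem_or a.one L i with h | h
    · exact hL _ h
    · exact h.symm ▸ p1
  have pw : ∀ r w, ∃ A, fm.C e a (evW a.mul a.one L r w) A ∧ m * A = A * m := fun r => by
    induction r with
    | zero => exact fun _ => p1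
    | succ r ih =>
      intro w
      cases r with
      | zero => exact pg _
      | succ r => exact pm (pg _) (ih _)
  have pp : ∀ is, ∃ A, fm.C e a (prodL a.mul a.one (fun i => Nat.xor (lgetD a.one L i) a.one) is) A ∧
      m * A = A * m := fun is => by
    induction is with
    | nil => exact p1
    | cons i is ih =>
      obtain ⟨A, h1, h2⟩ := pg i
      exact pm ⟨A + 1, C_xor hw hN h1 FM.C.one, by rw [mul_add, add_mul, h2, mul_one, one_mul]⟩ ih
  simp only [certOK, force_eq, band_iff] at h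
  obtain ⟨⟨h1, h2⟩, h3⟩ := h
  obtain ⟨T, t1, t2⟩ := pp is
  have t3 := ((t1.mul hE).mul t1).eq t1 h1
  refine ⟨(T * m) j j, sub_eq_zero.1 (fm.bl_inj e ?_)⟩
  have hm : ∀ A, m * A = A * m → (m - scalar ι ((T * m) j j)) * A = A * (m - scalar ι ((T * m) j j)) := fun A hA => by
    rw [sub_mul, mul_sub, hA, (scalar_commute _ (fun _ => Commute.all _ _) A).eq]
  have t4 : (m - scalar ι ((T * m) j j)) * T = 0 := by
    have e1 : single j j (1 : F) * (T * m) * single j j 1 = scalar ι ((T * m) j j) * single j j 1 := by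
      rw [single_mul_mul_single, scalar_apply, ← smul_eq_diagonal_mul]; simp
    rw [sub_mul, sub_eq_zero]
    calc m * T = m * (T * single j j 1 * T) := by rw [t3]
      _ = T * m * single j j 1 * T := by rw [← t2]; simp only [mul_assoc]
      _ = (T * single j j 1 * T) * m * single j j 1 * T := by rw [t3]
      _ = T * (single j j (1 : F) * (T * m) * single j j 1) * T := by simp only [mul_assoc]
      _ = scalar ι ((T * m) j j) * (T * single j j 1 * T) := by
        rw [e1, ← mul_assoc, ← (scalar_commute _ (fun _ => Commute.all _ _) T).eq]; simp only [mul_assoc]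
      _ = _ := by rw [t3]
  generalize m - scalar ι ((T * m) j j) = z at hm t4
  have q : ∀ l X, spin a.mul a.one (2 ^ (n * k * (n * k))) L (fun X => Nat.beq (a.mul X Y) a.one) l X = true →
      (∃ B, X = code a.w B ∧ fm.bl e z * B = 0) → fm.bl e z = 0 := fun l => by
    induction l with
    | nil =>
      rintro _ h ⟨B, rfl, hB⟩
      obtain ⟨C, rfl⟩ := exists_code h2
      have h' : a.mul (code a.w B) (code 1 C) = a.one := Nat.eq_of_beq_eq_true h
      rw [← hw, a.mul_eq, a.one_eq] at h'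
      rw [← mul_one (fm.bl e z), ← a.inj h', ← mul_assoc, hB, zero_mul]
    | cons s l ih =>
      rintro _ h ⟨B, rfl, hB⟩
      have h' : band (Nat.blt s.2.2 (2 ^ (n * k * (n * k)))) (spin a.mul a.one (2 ^ (n * k * (n * k))) L
        (fun X => Nat.beq (a.mul X Y) a.one) l (Nat.xor (code a.w B)
          (a.mul (a.mul (evW a.mul a.one L s.1 s.2.1) (code a.w B)) s.2.2))) = true := by
        simpa only [spin, force_eq] using h
      rw [band_iff] at h'
      obtain ⟨C, hC⟩ := exists_code h'.1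
      obtain ⟨A, h4, h5⟩ := pw s.1 s.2.1
      refine ih _ h'.2 ⟨B + fm.bl e A * B * C, ?_, ?_⟩
      · rw [h4, hC, ← hw, a.mul_eq, a.mul_eq, hw, code_xor hN]
      · rw [mul_add, hB, ← mul_assoc, ← mul_assoc, ← map_mul, hm A h5, map_mul, mul_assoc (fm.bl e A), hB]; simp
  rw [map_zero]
  exact q l _ h3 ⟨_, t1, by rw [← map_mul, t4, map_zero]⟩

end H9Ef
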