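import Cfsg.Agent.H9.Ef1
import Cfsg.Agent.H9.Ef3a
import Cfsg.Agent.H9.Ef3b
import Cfsg.Agent.H9.Ef3c
import Cfsg.Agent.H9.Ef3d
import Cfsg.Agent.H9.Ef5

/-! `Fi₂₂` in the twisted group of type `E₆` over the field with four elements. -/

set_option autoImplicit false
set_option maxRecDepth 100000

namespace H9Ef
open H29 Cfsg.Lie Matrix

section
variable {F : Type*} [Field F] {p k n : ℕ} [hp : Fact p.Prime] [NeZero k] {blk : ℕ → ℕ → ℕ → ℕ} {fm : FM F p k blk}
  {D : ChevalleyDatum} {e : Fin n ≃ D.Idx} {a : Ar p (n * k)}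

theorem in1 {S : Set (List (ℕ × F))} {r : Fin D.nroots} {t X : ℕ} (h : chevOK blk e a X r t = true)
    (hw : [(r.1, fm.el t)] ∈ S) (h2 : band (Nat.beq (a.mul X a.one) X) (Nat.beq (pw a.mul a.one X (Nat.pow p 6)) a.one) = true)
    (hp6 : p ^ 6 < 2 ^ 64) : (fm.model e a (glM (D.genSubgroup F S)) glM_inj).In ⊤ X :=
  FM.in_word [(r, t, X)] hw (band_iff.2 ⟨by simp [h], h2⟩) hp6

theorem in2 {S : Set (List (ℕ × F))} {r r' : Fin D.nroots} {t t' X X' Y : ℕ} (h : chevOK blk e a X r t = true)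
    (h' : chevOK blk e a X' r' t' = true) (hw : [(r.1, fm.el t), (r'.1, fm.el t')] ∈ S)
    (h2 : band (Nat.beq (a.mul X (a.mul X' a.one)) Y) (Nat.beq (pw a.mul a.one Y (Nat.pow p 6)) a.one) = true)
    (hp6 : p ^ 6 < 2 ^ 64) : (fm.model e a (glM (D.genSubgroup F S)) glM_inj).In ⊤ Y :=
  FM.in_word [(r, t, X), (r', t', X')] hw (band_iff.2 ⟨by simp [h, h'], h2⟩) hp6

end

theorem fi22_emb {K : Type*} [Field K] [Fintype K] (hK : Fintype.card K = 4) :
    ∃ φ : Cfsg.Spor.Fi22 →* twistedE6 K 2, Function.Injective φ ∧ ∀ m : GL chevE6.Idx K,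
      (∀ x ∈ (H27.cl (H28.f2_Sb.map (H28.ev H28.fi22X))).map φ, m * x = x * m) → ∀ y, m * y = y * m := by
  obtain ⟨fm⟩ := exists_fm4 hK
  have e0 : fm.el 0 = 0 := FM.el_zero (by decide +kernel)
  have e1 : fm.el 1 = 1 := FM.el_one (by decide +kernel)
  have e2 : fm.el 2 ^ 2 = fm.el 3 := fm.φ.injective (by rw [map_pow, fm.phi', fm.phi']; decide +kernel)
  have hg : ∀ c ∈ gs, (fm.model (n := 78) (ι := chevE6.Idx) eI ar (glM (twistedE6 K 2)) glM_inj).In ⊤ c :=
    List.forall_mem_cons.2 ⟨in1 c46_1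
      (Or.inl ⟨1, one_pow _, 46, by decide, by show [(46, fm.el 1)] = _; rw [e1]⟩) p0 (by norm_num),
    List.forall_mem_cons.2 ⟨in1 c25_1
      (Or.inl ⟨1, one_pow _, 25, by decide, by show [(25, fm.el 1)] = _; rw [e1]⟩) p1 (by norm_num),
    List.forall_mem_cons.2 ⟨in1 c39_1
      (Or.inl ⟨1, one_pow _, 39, by decide, by show [(39, fm.el 1)] = _; rw [e1]⟩) p2 (by norm_num),
    List.forall_mem_cons.2 ⟨in1 c32_1
      (Or.inl ⟨1, one_pow _, 32, by decide, by show [(32, fm.el 1)] = _; rw [e1]⟩) p3 (by norm_num),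
    List.forall_mem_cons.2 ⟨in2 c56_1 c36_1 (Or.inr ⟨1, (56, 36), by decide,
      by show [(56, fm.el 1), (36, fm.el 1)] = _; simp only [e1, one_pow]⟩) p4 (by norm_num),
    List.forall_mem_cons.2 ⟨in2 c15_1 c35_1 (Or.inr ⟨1, (15, 35), by decide,
      by show [(15, fm.el 1), (35, fm.el 1)] = _; simp only [e1, one_pow]⟩) p5 (by norm_num),
    List.forall_mem_cons.2 ⟨in2 c42_1 c37_1 (Or.inr ⟨1, (42, 37), by decide,
      by show [(42, fm.el 1), (37, fm.el 1)] = _; simp only [e1, one_pow]⟩) p6 (by norm_num),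
    List.forall_mem_cons.2 ⟨in2 c29_1 c34_1 (Or.inr ⟨1, (29, 34), by decide,
      by show [(29, fm.el 1), (34, fm.el 1)] = _; simp only [e1, one_pow]⟩) p7 (by norm_num),
    List.forall_mem_cons.2 ⟨in2 c56_2 c36_3 (Or.inr ⟨fm.el 2, (56, 36), by decide,
      by show [(56, fm.el 2), (36, fm.el 3)] = _; rw [e2]⟩) p8 (by norm_num),
    List.forall_mem_nil _⟩⟩⟩⟩⟩⟩⟩⟩⟩
  have hv := in_of_slpW (t := ys) (ws := ws) 0 (ab := 0) hg ys_wds
  obtain ⟨zs, l1, l2⟩ := exists_list_R hv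
  have e := fun w => Model.R_prodL _ (l := w) (φ := fun i => zs.getD i 1) fun i _ => l2 i
  obtain ⟨φ, hφ⟩ := H28.fi22B.hom (ys := zs) l1 fun w hw => Model.unique (e w) (by
    erw [List.mem_singleton.1 (relsZ_spec ys_rels w hw)]; exact Model.R_one _)
  have hφ' : ∀ i, φ (H28.fi22X.getD i 1) = zs.getD i 1 := fun i => by
    rw [← hφ, ← map_one φ, List.getD_map]; rfl
  refine ⟨φ, ?_, fun m hm y => ?_⟩
  · haveI := H28.fi22_simple
    rw [← MonoidHom.ker_eq_bot_iff]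
    refine (inferInstance : φ.ker.Normal).eq_bot_or_eq_top.resolve_right fun h => ?_
    have e3 : zs.getD 0 1 = 1 := hφ' 0 ▸ (h ▸ Subgroup.mem_top _ : H28.fi22X.getD 0 1 ∈ φ.ker)
    have e4 : ∀ z, fm.C eI ar y0 (glM _ z) → z ≠ (1 : twistedE6 K 2) := by
      rintro _ h rfl
      rw [map_one] at h
      have := ys_ne
      rw [h, ← show ar.one = _ from FM.C.one (fm := fm) (e := eI), Nat.beq_refl] at this
      exact absurd this (by simp)
    exact e4 _ (l2 0) e3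
  · have hE : fm.C eI ar eE (single (eI 33) (eI 33) 1) := by
      have := (FM.C.mk (fm := fm) (e := eI) (a := ar) fun x y => if x = 33 ∧ y = 33 then 1 else 0).of_beq eE_eq
      convert this using 1
      ext x y
      obtain ⟨x, rfl⟩ := eI.surjective x
      obtain ⟨y, rfl⟩ := eI.surjective y
      simp only [FM.mkM, of_apply, Equiv.symm_apply_apply, single_apply, eI.injective.eq_iff, apply_ite fm.el, e0, e1,
        Fin.ext_iff, eq_comm]
      rfl
    obtain ⟨c, hc⟩ := scalar_of_cert (m := (m : Matrix chevE6.Idx chevE6.Idx K)) rfl (by norm_num) (fun c hc => by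
      obtain ⟨i, hi, rfl⟩ := exists_lgetD ar.one hc
      refine ⟨_, l2 (i + 1), congrArg Units.val (hm _ ⟨_, H27.mem_cl (List.mem_map.2 ⟨[i + 1], ?_, H28.ev_single _ _⟩),
        hφ' _⟩)⟩
      revert i
      decide) hE yt_cert
    refine Units.ext ?_
    rw [Units.val_mul, Units.val_mul, hc]
    exact (scalar_commute _ (fun _ => Commute.all _ _) _).eq

end H9Ef
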