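import Cfsg.Agent.H9.Ef6
import Cfsg.Agent.H27.Out

/-! Three classes of subgroups with outer automorphism group of order two. -/

set_option autoImplicit false

namespace H9Ef
open Cfsg.Lie

theorem three' {K : Type*} [Field K] [Fintype K] (hK : Fintype.card K = 4) (H0 : Subgroup (twistedE6 K 2))
    {X : Type*} [Group X] (e : H0 ≃* X) (hout : Nat.card (Cfsg.Out X) = 2)
    (hc : ∀ m : GL chevE6.Idx K, (∀ x ∈ H0, m * x = x * m) → ∀ y, m * y = y * m) :
    ∃ H : Fin 3 → Subgroup (twistedE6 K 2), (∀ i, Nonempty (H i ≃* X)) ∧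
      ∀ i j, i ≠ j → ∀ g, (H i).map (MulAut.conj g).toMonoidHom ≠ H j := by
  obtain ⟨H, h1, h2⟩ := three hK H0 (fun α => by
    have := pow_card_eq_one' (x := (α : Cfsg.Out H0))
    rw [H27.card_out_congr e, hout, ← QuotientGroup.mk_pow, QuotientGroup.eq_one_iff] at this
    exact this.imp fun _ h => h.symm) hc
  exact ⟨H, fun i => ⟨(h1 i).some.trans e⟩, h2⟩

end H9Ef
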