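import Cfsg.Agent.H3.R7d
import Cfsg.Agent.H3.R4h
import Cfsg.Agent.S0243
import Cfsg.Agent.S0249

set_option autoImplicit false

/-! Final step for extensions of 2-groups by the simple group of order 168. -/

namespace H9.Fin
open Subgroup Cfsg Cfsg.Agent.H3.R4
open scoped IsMulCommutative

theorem z4 {Q : Type*} [CommGroup Q] [Finite Q] (c32 : Nat.card Q = 32) {f y : Q} (hf : ∀ x : Q, x * x = 1 ∨ x * x = f)
    (hy : y * y ≠ 1) {α : MulAut Q} (h7 : α ^ 7 = 1) (h : α ≠ 1) : Nonempty (Q ≃* Multiplicative (ZMod 4) × C3) := by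
  have yf := (hf y).resolve_left hy
  have af : α f = f := by
    rw [← yf, map_mul]
    exact ((hf _).resolve_left fun e => hy (α.injective (by rw [map_mul, e, map_one]))).trans yf.symm
  have ff : f * f = 1 := (hf f).resolve_right fun e => hy (yf.trans (mul_eq_left.1 e))
  let δ : Q →* Q := MonoidHom.mk' (fun x => α x * x⁻¹) fun a b => by rw [map_mul, mul_inv, mul_mul_mul_comm]
  have hk : δ.ker = Fx α := Subgroup.ext fun x => mul_inv_eq_one
  have r2 : ∀ r : δ.range, r * r = 1 := by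
    rintro ⟨_, x, rfl⟩
    refine Subtype.ext ((map_mul δ x x).symm.trans (mul_inv_eq_one.2 ?_))
    rcases hf x with e | e <;> rw [e]
    exacts [map_one α, af]
  have c4 : Nat.card (Fx α) = 4 := by
    have h1 := modEq_Fx (by norm_num) h7 ⊤ fun _ _ => trivial
    have h2 := card_lt_of_ne h
    have h3 := card_subgroup_dvd_card (Fx α)
    rw [top_inf_eq, card_top, c32] at h1
    rw [c32] at h2 h3
    generalize Nat.card (Fx α) = n at *
    unfold Nat.ModEq at h1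
    interval_cases n <;> omega
  have c8 : Nat.card δ.range = 8 := by
    have := δ.ker.card_mul_index
    rw [index_ker, hk, c4, c32] at this; omega
  have dj : δ.range ⊓ Fx α = ⊥ := by
    have h1 := modEq_Fx (by norm_num) h7 δ.range (by
      rintro _ ⟨x, rfl⟩; exact ⟨α x, ((map_mul α _ _).trans (by rw [map_inv]; rfl)).symm⟩)
    have h2 := card_le_of_le (inf_le_right : δ.range ⊓ Fx α ≤ _)
    rw [c8] at h1
    unfold Nat.ModEq at h1
    rw [← card_eq_one]; omega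
  have bij : Function.Bijective ((Fx α).subtype.coprod δ.range.subtype) :=
    Function.Injective.bijective_of_nat_card_le ((injective_iff_map_eq_one _).2 fun ⟨a, b⟩ e => by
      have e : a.1 * b.1 = 1 := e
      have : b.1 = 1 := mem_bot.1 (dj ▸ mem_inf.2 ⟨b.2, eq_inv_of_mul_eq_one_right e ▸ inv_mem a.2⟩)
      exact Prod.ext (Subtype.ext (by rwa [this, mul_one] at e)) (Subtype.ext this)) (by rw [Nat.card_prod, c4, c8, c32])
  obtain ⟨⟨a, b⟩, e⟩ := bij.2 y
  have e : a.1 * b.1 = y := e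
  have aa : a.1 * a.1 = f := by
    rw [← yf, ← e, mul_mul_mul_comm, show b.1 * b.1 = 1 from congrArg Subtype.val (r2 b), mul_one]
  have : IsCyclic (Fx α) := isCyclic_of_orderOf_eq_card a (by
    rw [c4]
    refine orderOf_eq_prime_pow (p := 2) (n := 1) (fun k => hy ?_) (Subtype.ext ?_)
    · rw [yf, ← aa, ← sq]; exact congrArg Subtype.val k
    · rw [pow_succ, pow_mul, coe_pow, coe_pow, pow_one, sq, sq, aa, ff]; rfl)
  obtain ⟨k⟩ := coord3 r2 c8
  exact ⟨(MulEquiv.ofBijective _ bij).symm.trans (MulEquiv.prodCongr (mulEquivOfCyclicCardEq (by rw [c4]; simp)) k)⟩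

def Cl {Y K : Type*} [Group Y] [Group K] (π : Y →* K) : Prop := (∀ x ∈ π.ker, ∀ y ∈ π.ker, x * y = y * x) ∧
  Nat.card (Sq π.ker) ≤ 2 ∧ (Sq π.ker ≠ ⊥ → (Sq π.ker).relIndex π.ker = 16)

theorem fin.{u, v} (main : ∀ (K : Type v) [Group K] [IsSimpleGroup K], Nat.card K = 168 →
      ∀ (Y : Type u) [Group Y] [Finite Y] (π : Y →* K), Hy π → Cl π)
    {X : Type u} [Group X] [Finite X] (hc : Cfsg.IsPConstrained 2 X) (hO : Cfsg.oddCore X = ⊥) (h4 : Cfsg.SectionalPRankLE 2 4 X)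
    {F : Type v} [Field F] [Fintype F] (hF : Fintype.card F = 2)
    (hQ : Nonempty (X ⧸ Cfsg.pCore 2 X ≃* Matrix.ProjectiveSpecialLinearGroup (Fin 3) F)) :
    (Cfsg.IsElementaryAbelian 2 (Cfsg.pCore 2 X) ∧ (Nat.card ↥(Cfsg.pCore 2 X) = 8 ∨ Nat.card ↥(Cfsg.pCore 2 X) = 16)) ∨
      Nonempty (↥(Cfsg.pCore 2 X) ≃* Multiplicative (ZMod 4) × (Fin 3 → Multiplicative (ZMod 2))) := by
  obtain ⟨e⟩ := hQ
  have := Cfsg.Agent.S0249.result (F := F) 3 le_rfl
  have cK : Nat.card (Matrix.ProjectiveSpecialLinearGroup (Fin 3) F) = 168 := by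
    have := Cfsg.Agent.S0243.result hF 3 (by norm_num)
    simpa [Fin.prod_univ_three] using this
  obtain ⟨π, H, ⟨φ⟩⟩ := hy_of ((H4.isPConstrained_iff_of_eq_bot hO).1 hc) (sc_of h4) ⊤ (topEquiv.trans e)
  obtain ⟨ab, c2, ix⟩ := main _ cK _ π H
  have : IsMulCommutative π.ker := ⟨⟨fun a b => Subtype.ext (ab _ a.2 _ b.2)⟩⟩
  obtain ⟨g0, g1, g2⟩ := exists_seven H.surj cK
  obtain ⟨g, g7, g1⟩ := H.exists_ord (by norm_num) g1 g2
  have a7 : MulAut.conjNormal (H := π.ker) g ^ 7 = 1 := by rw [← map_pow, g7, map_one]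
  have a1 : MulAut.conjNormal (H := π.ker) g ≠ 1 := fun k => by
    obtain ⟨V, _, _, ψ, ρ, s, -, -, -, q, r⟩ := H.frame
    refine g1 ((r g).1 (MulEquiv.ext fun v => ?_))
    obtain ⟨x, rfl⟩ := s v
    rw [← q, k]; rfl
  by_cases b : Sq π.ker = ⊥
  · have h2 : ∀ x : π.ker, x * x = 1 := fun x => Subtype.ext (by rw [coe_mul, ← sq, coe_one, ← mem_bot, ← b]; exact sq_mem x.2)
    refine .inl ⟨⟨⟨⟨fun x y => φ.symm.injective (by rw [map_mul, map_mul, mul_comm])⟩⟩, fun a ha => ?_⟩, ?_⟩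
    · exact congrArg Subtype.val (φ.symm.injective (by rw [map_pow, sq, h2, map_one]) : (⟨a, ha⟩ : pCore 2 X) ^ 2 = 1)
    · have := H.sc.card_le π.ker ⊥ fun y hy => b ▸ sq_mem hy
      rw [← Nat.card_congr φ.toEquiv]
      exact (seven h2 (by simpa using this) a7 a1).imp (·.1) (·.1)
  · have c : Nat.card (Sq π.ker) = 2 := by
      have := (one_lt_card_iff_ne_bot _).2 b
      omega
    obtain ⟨f, f1, hf⟩ := (Nat.card_eq_two_iff' (1 : Sq π.ker)).1 c
    obtain ⟨y, hy⟩ : ∃ y : π.ker, y * y ≠ 1 := by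
      by_contra! n
      exact b (le_bot_iff.1 (Sq_le_iff.2 fun x hx => by rw [sq]; exact congrArg Subtype.val (n ⟨x, hx⟩)))
    obtain ⟨k⟩ := z4 (Q := π.ker) (f := ⟨f.1, Sq_le _ f.2⟩) (by
      rw [← ((Sq π.ker).subgroupOf π.ker).card_mul_index, Nat.card_congr (subgroupOfEquivOfLe (Sq_le _)).toEquiv, c]
      exact congrArg (2 * ·) (ix b)) (fun x => (eq_or_ne _ _).imp_right fun n => Subtype.ext ((sq x.1).symm.trans
        (congrArg Subtype.val (hf ⟨_, sq_mem x.2⟩ fun k => n (Subtype.ext ((sq x.1).symm.trans (congrArg Subtype.val k))))))) hy a7 a1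
    exact .inr ⟨φ.symm.trans k⟩
end H9.Fin
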