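/-
Minimal simple groups in which every two elements lie in a proper subgroup: local structure.
-/
import Cfsg.Agent.H5.SigFac
import Cfsg.Agent.H5.PLocal
import Cfsg.Agent.H5.SigEq
import Cfsg.Agent.H10.SCN
import Cfsg.Agent.H2.FPFNil
import Cfsg.Agent.H8.Cls
import Cfsg.Agent.S0658
import Cfsg.Agent.S2910

set_option autoImplicit false
set_option linter.unusedSectionVars false

namespace H9.Fl

open Subgroup Cfsg H5
open scoped Pointwise

local notation "𝒩(" X ")" => Subgroup.normalizer (SetLike.coe X)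
local notation "𝒞₁(" a ")" => Subgroup.centralizer (Singleton.singleton a : Set _)

variable {G : Type*} [Group G] [Finite G] {p : ℕ} [hp : Fact p.Prime]

theorem cop_mul {H : Subgroup G} {d x : G} (hd : d ∈ oppOf p H) (hx : x ∈ H) (h : (orderOf x).Coprime p) :
    (orderOf (d * x)).Coprime p :=
  (coprime_card_sup ((zpowers_le_of_mem hx).trans (self_le_normalizer_oppOf p H)) (by rwa [Nat.card_zpowers])
    (coprime_card_oppOf p H)).coprime_dvd_left
    (Subgroup.orderOf_dvd_natCard _ (mul_mem (mem_sup_right hd) (mem_sup_left (mem_zpowers x))))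

theorem cop_of_mem {H : Subgroup G} {d : G} (hd : d ∈ oppOf p H) : (orderOf d).Coprime p :=
  (coprime_card_oppOf p H).coprime_dvd_left (Subgroup.orderOf_dvd_natCard _ hd)

theorem mem_stab {X : Set G} {w : G} : w ∈ MulAction.stabilizer G X ↔ ∀ x ∈ X, w * x ∈ X := by
  rw [MulAction.mem_stabilizer_set_iff_smul_set_subset (Set.toFinite X), Set.smul_set_subset_iff_subset_inv_smul_set]
  simp [Set.subset_def, Set.mem_inv_smul_set_iff]

theorem stab_norm {X : Set G} {M : Subgroup G} (h : ∀ m ∈ M, ∀ x ∈ X, m * x * m⁻¹ ∈ X) :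
    M ≤ 𝒩(MulAction.stabilizer G X) := fun m hm =>
  mem_normalizer_fintype fun w hw => mem_stab.2 fun x hx => by
    have := h m hm _ (mem_stab.1 hw _ (h _ (inv_mem hm) x hx))
    simpa [mul_assoc] using this

theorem ord_conj (g x : G) : orderOf (g * x * g⁻¹) = orderOf x := (MulAut.conj g).orderOf_eq x

theorem cen_zp (u : G) : centralizer (zpowers u : Set G) = 𝒞₁(u) := by
  rw [zpowers_eq_closure, centralizer_closure]

theorem pg {u : G} (hu : orderOf u = p) : IsPGroup p (zpowers u) :=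
  IsPGroup.of_card (n := 1) (by rw [Nat.card_zpowers, hu, pow_one])

theorem ne1 {u : G} (hu : orderOf u = p) : u ≠ 1 := fun e => hp.out.ne_one (by rw [← hu, e, orderOf_one])

theorem cen_ord {D : Subgroup G} (hD : IsPGroup p D) (h0 : D ≠ ⊥) : ∃ z ∈ D, orderOf z = p ∧ D ≤ 𝒞₁(z) := by
  have := (nontrivial_iff_ne_bot D).2 h0
  have := hD.center_nontrivial
  obtain ⟨k, e⟩ := (hD.to_subgroup (center D)).exists_card_eq
  obtain ⟨z, hz⟩ := exists_prime_orderOf_dvd_card' (G := center D) p (e ▸ dvd_pow_self p (by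
    rintro rfl; exact (Finite.one_lt_card (α := center D)).ne' e))
  exact ⟨z.1.1, z.1.2, by rw [orderOf_coe, orderOf_coe, hz], fun d hd => mem_centralizer_singleton_iff.2
    (congrArg Subtype.val (mem_center_iff.1 z.2 ⟨d, hd⟩))⟩

theorem zp_norm {u n : G} (h : n * u * n⁻¹ ∈ zpowers u) : n ∈ 𝒩(zpowers u) :=
  mem_normalizer_fintype fun x ⟨k, e⟩ => by
    rw [← e, ← conj_zpow]; exact zpow_mem h k

/-- In a `p`-group whose only subgroup of order `p` is `⟨u⟩`. -/
theorem uniq {T W : Subgroup G} {u : G} (hT : IsPGroup p T) (uT : u ∈ T) (hu : orderOf u = p)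
    (h : ∀ v ∈ T, orderOf v = p → Commute u v → v ∈ zpowers u) (hW : W ≤ T) (h0 : W ≠ ⊥) :
    𝒩(W) ≤ 𝒩(zpowers u) := by
  have gen : ∀ v ∈ zpowers u, orderOf v = p → u ∈ zpowers v := fun v a b => by
    rw [eq_of_le_of_card_ge (zpowers_le_of_mem a) (by rw [Nat.card_zpowers, Nat.card_zpowers, b, hu])]
    exact mem_zpowers u
  obtain ⟨z, zT, oz, cz⟩ := cen_ord hT fun e => ne1 hu (by rwa [e] at uT)
  have all : ∀ v ∈ T, orderOf v = p → v ∈ zpowers u := fun v a b => h v a b <| by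
    obtain ⟨k, e⟩ := gen z (h z zT oz (mem_centralizer_singleton_iff.1 (cz uT))) oz
    exact e ▸ Commute.zpow_left (mem_centralizer_singleton_iff.1 (cz a)).symm k
  obtain ⟨v, vW, ov, -⟩ := cen_ord (hT.to_le hW) h0
  have uW := zpowers_le_of_mem vW (gen v (all v (hW vW) ov) ov)
  exact fun n hn => zp_norm (all _ (hW ((mem_normalizer_iff.1 hn u).1 uW)) ((ord_conj _ _).trans hu))

theorem lemL (hp2 : p ≠ 2) {H : Subgroup G} (hs : Group.IsSolvable H) {u c : G} (uH : u ∈ H) (hu : orderOf u = p)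
    (h : ∀ v ∈ H, orderOf v = p → Commute u v → v ∈ zpowers u) (cH : c ∈ H) (hc : (orderOf c).Coprime p)
    (e : c ∈ 𝒞₁(u)) : c ∈ oppOf p H := by
  refine oppOf_inf_centralizer_le_of_solvable (pg hu) ((zpowers_le_of_mem uH).trans le_normalizer) hs ?_
  rw [cen_zp]
  set C := H ⊓ 𝒞₁(u)
  obtain ⟨P⟩ : Nonempty (Sylow p C) := inferInstance
  obtain ⟨⟨Q, N, hN, hQ⟩, -⟩ := Cfsg.Agent.S2910.result hp2
    (hu ▸ Subgroup.orderOf_dvd_natCard C ⟨uH, mem_centralizer_singleton_iff.2 rfl⟩) P <|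
    (closure_le _).2 fun x ⟨_, b⟩ => mem_center_iff.2 fun y => by
      by_cases x1 : x = 1
      · simp [x1]
      obtain ⟨k, e⟩ := h x x.2.1 (by simpa using orderOf_eq_prime b x1) (mem_centralizer_singleton_iff.1 x.2.2).symm
      ext
      simpa [← e] using (Commute.zpow_right (mem_centralizer_singleton_iff.1 y.2.2) k).eq
  obtain ⟨k, e'⟩ := Q.2.exists_card_eq
  refine ⟨⟨c, cH, e⟩, le_sSup (s := {N : Subgroup C | N.Normal ∧ (Nat.card N).Coprime p}) ⟨hN, ?_⟩ ?_, rfl⟩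
  · exact ((Nat.Prime.coprime_iff_not_dvd hp.out).2 (hQ.index_eq_card ▸ Q.not_dvd_index)).symm
  · refine H4.mem_of_pow_mem_of_coprime_orderOf (pow_index_mem _ _) ?_
    rw [hQ.symm.index_eq_card, e']
    exact Nat.Coprime.pow_right _ (by rwa [← orderOf_coe])

/-- A minimal non-solvable simple group in which any two elements lie in a maximal subgroup. -/
structure Min (G : Type*) [Group G] : Prop where
  simple : IsSimpleGroup G
  ns : ¬ Group.IsSolvable G
  sol : ∀ H : Subgroup G, H ≠ ⊤ → Group.IsSolvable H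
  two : ∀ a b : G, ∃ H : Subgroup G, IsCoatom H ∧ a ∈ H ∧ b ∈ H

namespace Min

variable (h : Min G)
include h

theorem nt {X : Subgroup G} (s : Group.IsSolvable X) : X ≠ ⊤ := by
  rintro rfl
  exact h.ns (solvable_of_surjective (f := (⊤ : Subgroup G).subtype) fun x => ⟨⟨x, trivial⟩, rfl⟩)

theorem nn {X : Subgroup G} (s : X ≠ ⊤) (h0 : X ≠ ⊥) : 𝒩(X) ≠ ⊤ := fun e =>
  (h.simple.eq_bot_or_eq_top_of_normal X (normalizer_eq_top_iff.1 e)).elim h0 s

theorem np {X : Subgroup G} (s : IsPGroup p X) (h0 : X ≠ ⊥) : 𝒩(X) ≠ ⊤ :=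
  h.nn (h.nt (have := s.isNilpotent; inferInstance)) h0

theorem nc {u : G} (hu : orderOf u = p) : 𝒞₁(u) ≠ ⊤ := fun e =>
  h.np (pg hu) (by simpa using ne1 hu) (top_le_iff.1 (e ▸ cen_zp u ▸ centralizer_le_normalizer _))

theorem three {u c : G} (hu : orderOf u = p) (hc : (orderOf c).Coprime p) (e : c ∈ 𝒞₁(u)) (g : G) :
    ∃ H : Subgroup G, IsCoatom H ∧ u ∈ H ∧ c ∈ H ∧ g ∈ H := by
  obtain ⟨H, a, b, d⟩ := h.two (c * u) g
  have e' : Commute c u := mem_centralizer_singleton_iff.1 e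
  have := zpowers_le_of_mem b (H8.mem_zpowers_mul_of_coprime e' (hu ▸ hc))
  exact ⟨H, a, by simpa using mul_mem (inv_mem this) b, this, d⟩

theorem s1 {u : G} (hu : orderOf u = p) : oppOf p 𝒞₁(u) = ⊥ := by
  set X := {x : G | (orderOf x).Coprime p}
  rcases h.simple.eq_bot_or_eq_top_of_normal _ (normalizer_eq_top_iff.1 (top_le_iff.1 (stab_norm (X := X)
    fun m _ x hx => by simpa [X, ord_conj] using hx))) with e | e
  · refine eq_bot_iff.2 fun d hd => e ▸ mem_stab.2 fun x hx => ?_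
    obtain ⟨H, a, b, c, f⟩ := h.three hu (cop_of_mem hd) (oppOf_le _ _ hd) x
    refine cop_mul (oppOf_inf_centralizer_le_of_solvable (pg hu) ((zpowers_le_of_mem b).trans le_normalizer)
      (h.sol H a.1) ?_) f hx
    rw [cen_zp]
    exact oppOf_inf_le p inf_le_right ⟨hd, c, oppOf_le _ _ hd⟩
  · have := mem_stab.1 (e ▸ mem_top u : u ∈ MulAction.stabilizer G X) 1 (by simp [X])
    simp [X, hu, hp.out.ne_one] at this

theorem loc {Q : Subgroup G} (hQ : IsPGroup p Q) (h0 : Q ≠ ⊥) : oppOf p 𝒩(Q) = ⊥ := by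
  obtain ⟨u, uQ, hu, c⟩ := cen_ord hQ h0
  refine eq_bot_iff.2 fun d hd => h.s1 hu ▸ oppOf_inf_normalizer_le (h.sol _ (h.nc hu)) hQ c
    (oppOf_inf_le p inf_le_right ⟨hd, ?_, oppOf_le _ _ hd⟩)
  exact mem_centralizer_singleton_iff.2 (commutator_eq_bot_iff_le_centralizer.1 (commutator_opOf_oppOf p 𝒩(Q))
    (le_opOf le_normalizer le_rfl hQ uQ) d hd)

end Min

/-- `M` contains the normalizer of each of its nontrivial `p`-subgroups. -/
def SE (p : ℕ) (M : Subgroup G) : Prop := ∀ Q : Subgroup G, IsPGroup p Q → Q ≠ ⊥ → Q ≤ M → 𝒩(Q) ≤ M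

theorem Min.se (h : Min G) (h5 : 5 ≤ p) (S : Sylow p G) : SE p 𝒩(centerThompsonAOf (S : Subgroup G)) := by
  intro Q hQ h0 hM n hn
  have sm : (S : Subgroup G) ≤ 𝒩(centerThompsonAOf (S : Subgroup G)) := by
    rw [H4.centerThompsonAOf_eq]
    exact le_normalizer.trans (H4.normalizer_le_normalizer_centerThompsonOf _)
  obtain ⟨k, hk, e⟩ := H1.exists_conj_le_sylowOf hM hQ
    (H1.isPiHallOf_singleton_iff.2 ⟨sm, S.2, H3.sylow_not_dvd_relIndex S sm⟩)
  have := Cfsg.Agent.S0658.result (by omega) (fun Q hQ h0 => ?_) S _ e (fun e => h0 (by simpa using congrArg ((MulAut.conj k)⁻¹ • ·) e))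
    (show k * n * k⁻¹ ∈ _ from mem_normalizer_fintype fun x hx => by
      simp only [SetLike.mem_coe, mem_pointwise_smul_iff_inv_smul_mem] at hx ⊢
      simpa [mul_assoc] using (mem_normalizer_iff.1 hn _).1 hx)
  · simpa [mul_assoc] using mul_mem (mul_mem (inv_mem hk) this) hk
  have s := h.sol _ (h.np hQ h0)
  have o : pPrimeCore p 𝒩(Q) = ⊥ := (map_eq_bot_iff_of_injective _ (Subgroup.subtype_injective _)).1 (h.loc hQ h0)
  refine ⟨o, H1.IsPSolvable.isPConstrained (H1.isPSolvable_of_isSolvable p s), H4.isPStable_of_isPStableOn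
    (hp.out.odd_of_ne_two (by omega)) o (fun e => h0 ?_) fun B _ hB => H10.pStableOn_of_solvable h5 B hB⟩
  exact eq_bot_iff.2 ((le_opOf le_normalizer le_rfl hQ).trans (by rw [opOf, e, Subgroup.map_bot]))

namespace SE

variable {M : Subgroup G} (s : SE p M)
include s

theorem le {T : Subgroup G} (hT : IsPGroup p T) {u : G} (u1 : u ≠ 1) (a : u ∈ T) (b : u ∈ M) : T ≤ M := by
  by_contra c
  have := lt_inf_normalizer_of_lt hT (show T ⊓ M < T from inf_lt_left.2 c)
  exact this.not_ge (inf_le_inf_left _ (s _ (hT.to_le inf_le_left)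
    (fun e => u1 (mem_bot.1 (e ▸ (⟨a, b⟩ : u ∈ T ⊓ M)))) inf_le_right))

theorem mem {u g : G} (hu : orderOf u = p) (a : u ∈ M) (b : g * u * g⁻¹ ∈ M) : g ∈ M := by
  obtain ⟨T, hT⟩ := (pg hu).exists_le_sylow
  have uT := hT (mem_zpowers u)
  have c := s.le T.2 (ne1 hu) uT a
  have d := s.le (g • T).2 (ne1 ((ord_conj g u).trans hu)) (smul_mem_pointwise_smul u (MulAut.conj g) _ uT) b
  obtain ⟨k, hk, e⟩ := H1.sylowOf_conj (H1.isPiHallOf_singleton_iff.2 ⟨d, (g • T).2, H3.sylow_not_dvd_relIndex _ d⟩)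
    (H1.isPiHallOf_singleton_iff.2 ⟨c, T.2, H3.sylow_not_dvd_relIndex _ c⟩)
  have := s _ T.2 (fun e => ne1 hu (by rwa [e] at uT)) c (Sylow.smul_eq_iff_mem_normalizer.1
    (show (k * g) • T = T from Sylow.ext (by rw [mul_smul, Sylow.coe_subgroup_smul, e])))
  simpa using mul_mem (inv_mem hk) this

theorem cen {u : G} (hu : orderOf u = p) (a : u ∈ M) : 𝒞₁(u) ≤ M := fun g hg =>
  s.mem hu a (by rwa [mem_centralizer_singleton_iff.1 hg, mul_inv_cancel_right])

theorem nor {u : G} (hu : orderOf u = p) (a : u ∈ M) : 𝒩(zpowers u) ≤ M :=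
  s _ (pg hu) (by simpa using ne1 hu) (zpowers_le_of_mem a)

variable (h5 : 5 ≤ p) {H : Subgroup G} (hs : Group.IsSolvable H) {u : G} (hu : orderOf u = p) (uM : u ∈ M)
  (uH : u ∈ H) (hH : ¬ H ≤ M)
include h5 hs hu uM uH hH

theorem nle : ¬ oppOf p H ≤ M := fun c => by
  obtain ⟨T, hT, a⟩ := H1.exists_sylowOf_ge (zpowers_le_of_mem uH) (pg hu)
  have b := H1.IsPiHallOf.isPGroup hT
  have uT := a (mem_zpowers u)
  exact hH ((wf h5 hs hT).trans (sup_le c (inf_le_right.trans (s _ (b.to_le (H4.wsOf_le T))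
    (H4.wsOf_ne_bot b fun e => ne1 hu (by rwa [e] at uT)) ((H4.wsOf_le T).trans (s.le b (ne1 hu) uT uM))))))

theorem rk1 : ∀ v ∈ H, orderOf v = p → Commute u v → v ∈ zpowers u := fun v vH hv e => by
  by_contra c
  obtain ⟨a, b⟩ := sq_le_card_sup_zpowers hv hu e.symm.eq c
  have AM := s.le (H4.elemAb_isPGroup a) (ne1 hu) (mem_sup_right (mem_zpowers u)) uM
  exact s.nle h5 hs hu uM uH hH (le_of_forall_point a b ((sup_le (zpowers_le_of_mem vH)
    (zpowers_le_of_mem uH)).trans (self_le_normalizer_oppOf p H)) (coprime_card_oppOf p H) fun x hx x1 =>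
    inf_le_right.trans (s.cen (orderOf_eq_prime (a.2 x hx) x1) (AM hx)))

theorem fac : H ≤ oppOf p H ⊔ (H ⊓ 𝒩(zpowers u)) := by
  obtain ⟨T, hT, a⟩ := H1.exists_sylowOf_ge (zpowers_le_of_mem uH) (pg hu)
  have b := H1.IsPiHallOf.isPGroup hT
  have uT := a (mem_zpowers u)
  exact (wf h5 hs hT).trans (sup_le_sup_left (inf_le_inf_left _ (uniq b uT hu (fun v hv =>
    s.rk1 h5 hs hu uM uH hH v (hT.1 hv)) (H4.wsOf_le T)
    (H4.wsOf_ne_bot b fun e => ne1 hu (by rwa [e] at uT)))) _)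

end SE

/-- The centralizer of an element of order `p` is a `p`-group. -/
theorem Min.s4 (h : Min G) (h5 : 5 ≤ p) {M : Subgroup G} (s : SE p M) (hM : M ≠ ⊤) (o : oppOf p M = ⊥) {u c : G}
    (hu : orderOf u = p) (uM : u ∈ M) (hc : (orderOf c).Coprime p) (e : c ∈ 𝒞₁(u)) : c = 1 := by
  by_contra c1
  set X := {x : G | (orderOf x).Coprime p ∧ x ∉ M}
  set W := MulAction.stabilizer G X
  have n : M ≤ 𝒩(W) := stab_norm fun m hm x hx => ⟨by simpa [ord_conj] using hx.1, fun e => hx.2 (by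
    simpa [mul_assoc] using mul_mem (mul_mem (inv_mem hm) e) hm)⟩
  have cW : c ∈ W := mem_stab.2 fun x hx => by
    obtain ⟨H, a, b, d, f⟩ := h.three hu hc e x
    exact ⟨cop_mul (lemL (by omega) (h.sol H a.1) b hu (s.rk1 h5 (h.sol H a.1) hu uM b fun e => hx.2 (e f)) d hc e)
      f hx.1, fun e' => hx.2 ((mul_mem_cancel_left (s.cen hu uM e)).1 e')⟩
  obtain ⟨g, hg⟩ : ∃ g, g ∉ M := by simpa [eq_top_iff'] using hM
  have k : ∀ w ∈ M, orderOf w = p → w ∉ W := fun w wM hw wW => by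
    obtain ⟨H, a, b, d⟩ := h.two w g
    obtain ⟨k, i, j⟩ := SetLike.not_le_iff_exists.1 (s.nle h5 (h.sol H a.1) hw wM b fun e => hg (e d))
    have := cop_mul (inv_mem i) (mul_mem (oppOf_le _ _ i) b)
      (by simpa [← ord_conj k (w * k), ← mul_assoc] using (mem_stab.1 wW k ⟨cop_of_mem i, j⟩).1)
    simp [hw, hp.out.ne_one] at this
  have W0 : W ≠ ⊥ := fun e => c1 (by rwa [e] at cW)
  have N := h.nn (fun e : W = ⊤ => k u uM hu (e ▸ mem_top u)) W0
  by_cases l : 𝒩(W) ≤ M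
  · have : ¬ (Nat.card W).Coprime p := fun e => W0 (eq_bot_iff.2 (o ▸ le_oppOf (le_normalizer.trans l) n e))
    obtain ⟨w, hw⟩ := exists_prime_orderOf_dvd_card' (G := W) p (by
      by_contra q; exact this ((Nat.Prime.coprime_iff_not_dvd hp.out).2 q).symm)
    exact k w (l (le_normalizer w.2)) (by simpa using hw) w.2
  · have := oppOf_inf_le p ((s.cen hu uM).trans n) ⟨lemL (by omega) (h.sol _ N) (n uM) hu
      (s.rk1 h5 (h.sol _ N) hu uM (n uM) l) (le_normalizer cW) hc e, e⟩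
    exact c1 (by rwa [h.s1 hu] at this)

end H9.Fl
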