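/-
A finite group in which every two elements generate a solvable subgroup is solvable.
-/
import Cfsg.Agent.H9.Fl1
import Cfsg.Agent.S0035

set_option autoImplicit false
set_option linter.unusedSectionVars false

namespace H9.Fl

open Subgroup Cfsg H5
open scoped Pointwise

local notation "𝒩(" X ")" => Subgroup.normalizer (SetLike.coe X)
local notation "𝒞₁(" a ")" => Subgroup.centralizer (Singleton.singleton a : Set _)

variable {G : Type*} [Group G] [Finite G] {p : ℕ} [hp : Fact p.Prime]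

namespace Min

section
variable (h : Min G) (h5 : 5 ≤ p) {M : Subgroup G} (s : SE p M) (hM : M ≠ ⊤) (o : oppOf p M = ⊥) {u : G}
  (hu : orderOf u = p) (uM : u ∈ M)
include h h5 s hM o hu uM

theorem nil {H : Subgroup G} (t : H ≠ ⊤) (uH : u ∈ H) : Group.IsNilpotent (oppOf p H) :=
  H2.nilpotent_of_fpf_conj (h.sol _ fun e => t (top_le_iff.1 (e ▸ oppOf_le p H))) (self_le_normalizer_oppOf p H uH)
    hp.out (hu ▸ pow_orderOf_eq_one u) (eq_bot_iff.2 fun _ e => h.s4 h5 s hM o hu uM (cop_of_mem e.1) e.2)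

theorem inv {H Y : Subgroup G} (t : H ≠ ⊤) (uH : u ∈ H) (hH : ¬ H ≤ M) (a : Y ≤ H) (b : (Nat.card Y).Coprime p)
    (c : u ∈ 𝒩(Y)) : Y ≤ oppOf p H := fun z hz => by
  have cp : ∀ y ∈ Y, (orderOf y).Coprime p := fun y e => b.coprime_dvd_left (Subgroup.orderOf_dvd_natCard _ e)
  let f : Y → Y := fun y => ⟨y * (u * y⁻¹ * u⁻¹), mul_mem y.2 ((mem_normalizer_iff.1 c _).1 (inv_mem y.2))⟩
  obtain ⟨y, e⟩ := Finite.surjective_of_injective (f := f) (fun y y' e => by
    have := h.s4 h5 s hM o hu uM (cp _ (mul_mem (inv_mem y'.2) y.2)) (mem_centralizer_singleton_iff.2 (by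
      have e := congrArg Subtype.val e
      simp only [f, ← mul_assoc, mul_left_inj, InvMemClass.coe_inv] at e
      calc _ = y'.1⁻¹ * (y * u * y.1⁻¹) * y := by group
        _ = _ := by rw [e]; group))
    exact Subtype.ext (inv_mul_eq_one.1 this).symm) ⟨z, hz⟩
  have n := (zpowers_le_of_mem uH).trans (self_le_normalizer_oppOf p H)
  have l : H ≤ 𝒩((oppOf p H ⊔ zpowers u : Subgroup G)) := (s.fac h5 (h.sol H t) hu uM uH hH).trans
    (sup_le (le_sup_left.trans le_normalizer) (le_normalizer_sup (inf_le_left.trans (self_le_normalizer_oppOf p H))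
      inf_le_right))
  have m : z ∈ oppOf p H ⊔ zpowers u := by
    have := mul_mem ((mem_normalizer_iff.1 (l (a y.2)) u).1 (mem_sup_right (mem_zpowers u)))
      (inv_mem (mem_sup_right (mem_zpowers u)))
    rwa [show y * u * y.1⁻¹ * u⁻¹ = z by simpa [f, mul_assoc] using congrArg Subtype.val e] at this
  obtain ⟨k, hk, w, hw, rfl⟩ := (coe_mul_of_right_le_normalizer_left _ _ n ▸ m : z ∈ (oppOf p H : Set G) * zpowers u)
  have := cop_mul (inv_mem hk) (a hz) (cp _ hz)
  rw [inv_mul_cancel_left] at this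
  simpa [H11.eq_one_of_mem_of_coprime (pg hu) hw this] using hk

theorem U (D : Subgroup G) : ∀ H K : Subgroup G, IsCoatom H → IsCoatom K → u ∈ H → u ∈ K → ¬ H ⊓ K ≤ M →
    oppOf p H ⊓ oppOf p K = D → H = K := by
  induction D using WellFoundedGT.induction with | _ D ih => ?_
  intro H K a b c d e f
  have t : H ⊓ K ≠ ⊤ := fun e => a.1 (top_le_iff.1 (e ▸ inf_le_left))
  have n := self_le_normalizer_oppOf p (H ⊓ K) ⟨c, d⟩
  have DM : ¬ D ≤ M := fun q => s.nle h5 (h.sol _ t) hu uM ⟨c, d⟩ e (le_trans (f ▸ le_inf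
    (h.inv h5 s hM o hu uM a.1 c (fun q => e (inf_le_left.trans q)) ((oppOf_le _ _).trans inf_le_left)
      (coprime_card_oppOf _ _) n)
    (h.inv h5 s hM o hu uM b.1 d (fun q => e (inf_le_right.trans q)) ((oppOf_le _ _).trans inf_le_right)
      (coprime_card_oppOf _ _) n)) q)
  obtain ⟨L, hL, l⟩ := (eq_top_or_exists_le_coatom 𝒩(D)).resolve_left (h.nn (fun q => a.1 (top_le_iff.1
    (q ▸ f ▸ inf_le_left.trans (oppOf_le p H)))) fun q => DM (q ▸ bot_le))
  have uD : u ∈ 𝒩(D) := f ▸ inf_normalizer_le_normalizer_inf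
    ⟨self_le_normalizer_oppOf p H c, self_le_normalizer_oppOf p K d⟩
  have k : ∀ X : Subgroup G, IsCoatom X → u ∈ X → D ≤ oppOf p X → X = L := fun X x y z => by
    rcases z.lt_or_eq with z' | z'
    · refine ih _ ((H1.lt_inf_normalizer_of_isNilpotent (h.nil h5 s hM o hu uM x.1 y) z').trans_le (le_inf inf_le_left
        (h.inv h5 s hM o hu uM hL.1 (l uD) (fun q => DM ((le_normalizer.trans l).trans q)) (inf_le_right.trans l)
        (coprime_of_le (coprime_card_oppOf _ _) inf_le_left) (inf_normalizer_le_normalizer_inf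
        ⟨self_le_normalizer_oppOf p X y, le_normalizer uD⟩)))) X L x hL y (l uD)
        (fun q => DM ((le_inf (z.trans (oppOf_le _ _)) (le_normalizer.trans l)).trans q)) rfl
    · exact (x.le_iff_eq hL.1).1 ((z' ▸ self_le_normalizer_oppOf p X).trans l) |>.symm
  exact (k H a c (f ▸ inf_le_left)).trans (k K b d (f ▸ inf_le_right)).symm

theorem V {H : Subgroup G} (a : IsCoatom H) (c : u ∈ H) (e : ¬ H ≤ M) : 𝒩(zpowers u) ≤ H := fun n hn => by
  obtain ⟨r, i, j⟩ := SetLike.not_le_iff_exists.1 (s.nle h5 (h.sol H a.1) hu uM c e)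
  have i := oppOf_le _ _ i
  obtain ⟨K, b, d, f⟩ := h.two u (r * n)
  have := h.U h5 s hM o hu uM _ H K a b c d (fun q => j ((mul_mem_cancel_right (s.nor hu uM hn)).1
    (s.mem hu uM (q ⟨?_, K.mul_mem (K.mul_mem f d) (K.inv_mem f)⟩)))) rfl
  · exact (mul_mem_cancel_left i).1 (this ▸ f)
  simpa [mul_assoc] using mul_mem (mul_mem i (zpowers_le_of_mem c ((mem_normalizer_iff.1 hn u).1 (mem_zpowers u))))
    (inv_mem i)

end

/-- A central element of order `p` of a Sylow `p`-subgroup. -/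
def Pt (p : ℕ) (a : G) : Prop := orderOf a = p ∧ ∃ S : Sylow p G, a ∈ S ∧ (S : Subgroup G) ≤ 𝒞₁(a)

theorem Pt.conj {a : G} (h : Pt p a) (g : G) : Pt p (g * a * g⁻¹) := by
  obtain ⟨a, S, b, c⟩ := h
  refine ⟨(ord_conj _ _).trans a, g • S, smul_mem_pointwise_smul _ (MulAut.conj g) _ b, ?_⟩
  rintro _ ⟨x, hx, rfl⟩
  have := mem_centralizer_singleton_iff.1 (c hx)
  simp [mem_centralizer_singleton_iff, ← mul_assoc]
  simp [mul_assoc, this]

variable (h : Min G) (h5 : 5 ≤ p)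
include h h5

theorem pt {a : G} (t : Pt p a) : SE p 𝒩(zpowers a) ∧ 𝒩(zpowers a) ≠ ⊤ ∧ oppOf p 𝒩(zpowers a) = ⊥ := by
  have z : zpowers a ≠ ⊥ := by simpa using ne1 t.1
  refine ⟨?_, h.np (pg t.1) z, h.loc (pg t.1) z⟩
  obtain ⟨hu, S, b, c⟩ := t
  have s := h.se h5 S
  rw [H4.centerThompsonAOf_eq] at s
  have q := S.2.to_le (H4.centerThompsonOf_le (n := 0) (S : Subgroup G))
  have z0 := H4.centerThompsonOf_zero_ne_bot S.2 fun e => ne1 hu (mem_bot.1 (e ▸ b))
  have aM := H4.normalizer_le_normalizer_centerThompsonOf (n := 0) _ (le_normalizer b)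
  obtain ⟨g, hg⟩ : ∃ g, g ∉ 𝒩(centerThompsonOf 0 (S : Subgroup G)) := by simpa [eq_top_iff'] using h.np q z0
  obtain ⟨H, d, e, f⟩ := h.two a g
  have := c.trans ((cen_zp a ▸ centralizer_le_normalizer _).trans
    (h.V h5 s (h.np q z0) (h.loc q z0) hu aM d e fun q => hg (q f)))
  rwa [(uniq S.2 b hu (fun v hv => s.rk1 h5 (h.sol H d.1) hu aM e (fun q => hg (q f)) v (this hv))
    (H4.centerThompsonOf_le _) z0).antisymm (s.nor hu aM)] at s

theorem U' {a b : G} (t : Pt p a) {H K : Subgroup G} (c : IsCoatom H) (d : IsCoatom K) (e : a ∈ H) (f : a ∈ K)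
    (i : b ∈ H) (j : b ∈ K) (k : b ∉ 𝒩(zpowers a)) : H = K :=
  h.U h5 (h.pt h5 t).1 (h.pt h5 t).2.1 (h.pt h5 t).2.2 t.1 (le_normalizer (mem_zpowers a)) _ H K c d e f
    (fun q => k (q ⟨i, j⟩)) rfl

theorem V' {a : G} (t : Pt p a) {H : Subgroup G} (c : IsCoatom H) (e : a ∈ H) : 𝒩(zpowers a) ≤ H := by
  by_cases q : H ≤ 𝒩(zpowers a)
  · exact ((c.le_iff_eq (h.pt h5 t).2.1).1 q).le
  · exact h.V h5 (h.pt h5 t).1 (h.pt h5 t).2.1 (h.pt h5 t).2.2 t.1 (le_normalizer (mem_zpowers a)) c e q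

theorem M' {a g : G} (t : Pt p a) (e : g * a * g⁻¹ ∈ 𝒩(zpowers a)) : g ∈ 𝒩(zpowers a) :=
  (h.pt h5 t).1.mem t.1 (le_normalizer (mem_zpowers a)) e

theorem C {a x g y : G} (t : Pt p a) {H : Subgroup G} (c : IsCoatom H) (e : a ∈ H) (f : g ∈ H)
    (i : g ∉ 𝒩(zpowers a)) (j : x ∈ 𝒩(zpowers a)) (k : x ∈ 𝒩(zpowers (g * a * g⁻¹))) (l : y ∉ H) :
    x ∈ 𝒩(zpowers (y * a * y⁻¹)) := by
  by_contra q
  obtain ⟨K, b, d, m⟩ := h.two a y
  obtain ⟨L, n, r, w⟩ := h.two (g * a * g⁻¹) (y * a * y⁻¹)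
  have v := mul_mem (mul_mem m d) (inv_mem m)
  have j := h.V' h5 t b d j
  have k := h.V' h5 (t.conj g) n r k
  obtain rfl := h.U' h5 (t.conj y) b n v w (mul_mem (mul_mem j v) (inv_mem j)) (mul_mem (mul_mem k w) (inv_mem k))
    fun z => q (h.M' h5 (t.conj y) z)
  exact l (h.U' h5 t b c d e r (mul_mem (mul_mem f e) (inv_mem f)) (fun z => i (h.M' h5 t z)) ▸ m)

omit h h5 in
theorem nconj {a x y : G} : x ∈ 𝒩(zpowers (y * a * y⁻¹)) ↔ y⁻¹ * x * y ∈ 𝒩(zpowers a) := by
  have k : ∀ a x y : G, x ∈ 𝒩(zpowers (y * a * y⁻¹)) → y⁻¹ * x * y ∈ 𝒩(zpowers a) := fun a x y e => by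
    obtain ⟨i, e⟩ := (mem_normalizer_iff.1 e _).1 (mem_zpowers _)
    refine zp_norm ⟨i, ?_⟩
    simp only [conj_zpow] at e
    calc a ^ i = y⁻¹ * (y * a ^ i * y⁻¹) * y := by group
      _ = _ := by rw [e]; group
  exact ⟨k a x y, fun e => by simpa [mul_assoc] using k (y * a * y⁻¹) (y⁻¹ * x * y) y⁻¹ (by simpa [mul_assoc] using e)⟩

theorem fin (d : p ∣ Nat.card G) : False := by
  obtain ⟨S⟩ : Nonempty (Sylow p G) := inferInstance
  obtain ⟨a, b, c, e⟩ := cen_ord S.2 (S.ne_bot_of_dvd_card d)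
  have t : Pt p a := ⟨c, S, b, e⟩
  have aN : a ∈ 𝒩(zpowers a) := le_normalizer (mem_zpowers a)
  obtain ⟨N, -, hN, f⟩ := Cfsg.Agent.S0035.result 𝒩(zpowers a) ⟨fun e => ne1 c (mem_bot.1 (e ▸ aN)),
    (h.pt h5 t).2.1, fun g hg => eq_bot_iff.2 fun x ⟨j, k⟩ => by
      have k : x ∈ 𝒩(zpowers (g * a * g⁻¹)) := nconj.2 (by
        simpa [mul_assoc] using mem_pointwise_smul_iff_inv_smul_mem.1 k)
      obtain ⟨H, i, l, m⟩ := h.two a g
      obtain ⟨z, hz⟩ : ∃ z, z ∉ H := by simpa [eq_top_iff'] using i.1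
      obtain ⟨K, n, r, w⟩ := h.two a z
      have all : ∀ y, y⁻¹ * x * y ∈ 𝒩(zpowers a) := fun y => by
        by_cases q : y ∈ 𝒩(zpowers a)
        · exact mul_mem (mul_mem (inv_mem q) j) q
        refine nconj.1 ?_
        by_cases q1 : y ∈ H
        · exact h.C h5 t n r w (fun v => hz (h.V' h5 t i l v)) j (h.C h5 t i l m hg j k hz)
            fun v => hz (h.U' h5 t n i r l v q1 q ▸ w)
        · exact h.C h5 t i l m hg j k q1
      rcases h.simple.eq_bot_or_eq_top_of_normal _ (normalCore_normal 𝒩(zpowers a)) with v | v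
      · exact v ▸ fun y => by simpa using all y⁻¹
      · exact absurd (top_le_iff.1 (v ▸ normalCore_le _)) (h.pt h5 t).2.1⟩
  rcases h.simple.eq_bot_or_eq_top_of_normal N hN with rfl | rfl
  · exact (h.pt h5 t).2.1 (isComplement'_bot_left.1 f)
  · exact ne1 c (mem_bot.1 (isComplement'_top_left.1 f ▸ aN))

end Min

theorem Min.false (h : Min G) : False := h.ns <| H17.isSolvable_of_two_primes Nat.prime_two Nat.prime_three
  fun r a b => by
    by_contra c
    have := Fact.mk a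
    exact h.fin (a.five_le_of_ne_two_of_ne_three (fun e => c (.inl e)) fun e => c (.inr e)) b

/-- Induction for hypotheses inherited by subgroups and by quotients by solvable normal subgroups. -/
theorem ind.{u} (P : ∀ (G : Type u) [Group G], Prop)
    (hs : ∀ (G : Type u) [Group G] (H : Subgroup G), P G → P H)
    (hq : ∀ (G : Type u) [Group G] (N : Subgroup G) [N.Normal], Group.IsSolvable N → P G → P (G ⧸ N))
    (h : ∀ (G : Type u) [Group G] [Finite G], P G → IsSimpleGroup G → (∀ H : Subgroup G, H ≠ ⊤ → Group.IsSolvable H) →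
      Group.IsSolvable G) (n : ℕ) :
    ∀ (G : Type u) [Group G] [Finite G], Nat.card G = n → P G → Group.IsSolvable G := by
  induction n using Nat.strong_induction_on with | _ n ih => ?_
  intro G _ _ e a
  subst e
  have s : ∀ H : Subgroup G, H ≠ ⊤ → Group.IsSolvable H := fun H t =>
    ih _ (card_top (G := G) ▸ H1.card_lt_of_lt (lt_top_iff_ne_top.2 t)) H rfl (hs G H a)
  rcases subsingleton_or_nontrivial G with t | t
  · infer_instance
  by_cases b : IsSimpleGroup G
  · exact h G a b s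
  obtain ⟨N, hN, c, d⟩ : ∃ N : Subgroup G, N.Normal ∧ N ≠ ⊥ ∧ N ≠ ⊤ := by
    by_contra! q
    exact b ⟨fun N hN => or_iff_not_imp_left.2 (q N hN)⟩
  have := s N d
  have := ih _ (by
    rw [card_eq_card_quotient_mul_card_subgroup N]
    exact lt_mul_of_one_lt_right Nat.card_pos (one_lt_card_iff_ne_bot _ |>.2 c)) (G ⧸ N) rfl (hq G N this a)
  exact solvable_of_ker_le_range N.subtype (QuotientGroup.mk' N) (by simp)

theorem main (h : ∀ a b : G, Group.IsSolvable (closure ({a, b} : Set G))) : Group.IsSolvable G := by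
  refine ind (fun G _ => ∀ a b : G, Group.IsSolvable (closure ({a, b} : Set G))) (fun G _ H h a b => ?_)
    (fun G _ N _ _ h a b => ?_) (fun G _ _ h s t => ?_) _ G rfl h
  · have := h (H.subtype a) (H.subtype b)
    rw [← Set.image_pair H.subtype, ← MonoidHom.map_closure] at this
    exact solvable_of_solvable_injective (f := (equivMapOfInjective _ _ H.subtype_injective).toMonoidHom)
      (MulEquiv.injective _)
  · obtain ⟨a, rfl⟩ := QuotientGroup.mk'_surjective N a
    obtain ⟨b, rfl⟩ := QuotientGroup.mk'_surjective N b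
    have := h a b
    rw [← Set.image_pair, ← MonoidHom.map_closure]
    exact solvable_of_surjective (MonoidHom.subgroupMap_surjective _ _)
  · by_contra n
    refine Min.false ⟨s, n, t, fun a b => ?_⟩
    obtain ⟨H, c, d⟩ := (eq_top_or_exists_le_coatom (closure {a, b})).resolve_left fun e => n (by
      have : Group.IsSolvable (⊤ : Subgroup G) := e ▸ h a b
      exact solvable_of_surjective (f := (⊤ : Subgroup G).subtype) fun x => ⟨⟨x, trivial⟩, rfl⟩)
    exact ⟨H, c, d (subset_closure (by simp)), d (subset_closure (by simp))⟩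

end H9.Fl
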