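import Cfsg.Agent.H9.Mz3
/-! Overgroups of a Sylow 2-subgroup and Sylow normalisers in the Mathieu groups. -/
set_option autoImplicit false
namespace H9
open Cfsg H27 MulAction Subgroup
open scoped Pointwise
noncomputable section
theorem cjc {G : Type*} [Group G] {a b : G} {A B C : Subgroup G} (h : CjRel a A B) (k : CjRel b B C) : CjRel (b * a) A C :=
  fun x => (h x).trans ((k _).trans (by simp [mul_assoc]))
theorem low {gs : List MM} {Ns : List Net} (h : ActsL 24 GE.e gs Ns) {H : Subgroup MM} (hH : ∀ g ∈ gs, g ∈ H) {c : Nat}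
    (S : List (List Nat × Net)) (sel : List Nat) (L : List (Nat × Nat × Nat))
    (hc : and' (slpChk 5 24 S Ns) (Nat.beq (chain 5 24 L (wordN (slpN S Ns) sel)) c) = true) : c ≤ Nat.card H := by
  rw [and'_eq, Bool.and_eq_true, beq_iff] at hc
  exact h.le_card_slp GE.injOn (by norm_num) S sel L hH hc.1 hc.2
theorem actsL_app {G Ω : Type*} [Group G] [MulAction G Ω] {n : Nat} {e : Nat → Ω} {a b : List G} {A B : List Net}
    (h : ActsL n e a A) (k : ActsL n e b B) : ActsL n e (a ++ b) (A ++ B) := List.rel_append h k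
theorem mem_app {G : Type*} [Group G] {H : Subgroup G} {a b : List G} (h : ∀ g ∈ a, g ∈ H) (k : ∀ g ∈ b, g ∈ H) :
    ∀ g ∈ a ++ b, g ∈ H := fun g c => (List.mem_append.1 c).elim (h g) (k g)
def alN : Net := (.cons 1 0x555555 (.cons 2 0x222222 (.cons 4 0x80808 (.cons 16 0x80 (.cons 8 0x80 (.cons 1 0x400000 .nil))))))
def beN : Net := (.cons 1 0x444444 (.cons 2 0x121212 (.cons 4 0xc030c (.cons 8 0xff (.cons 16 0xf (.cons 8 0xf (.cons 2 0x333000 (.cons 1 0x555000 .nil))))))))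
def gaN : Net := (.cons 1 0x411441 (.cons 2 0x301033 (.cons 4 0xf0b04 (.cons 8 0x93 (.cons 16 0xff (.cons 8 0x6c (.cons 4 0xa0a00 (.cons 2 0x32300 (.cons 1 0x11440 .nil)))))))))
def deN : Net := (.cons 1 0x50410 (.cons 2 0x220120 (.cons 4 0x10706 (.cons 8 0x1e (.cons 16 0x9e (.cons 8 0x1c (.cons 4 0xd0000 (.cons 2 0x201230 (.cons 1 0x150540 .nil)))))))))
def n4N : Net := (.cons 1 0x445110 (.cons 2 0x332302 (.cons 4 0x80404 (.cons 8 0xfb (.cons 16 0x6f (.cons 8 0x6d (.cons 4 0x80b00 (.cons 2 0x323200 (.cons 1 0x400014 .nil)))))))))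
def x7N : Net := (.cons 1 0x401010 (.cons 2 0x10302 (.cons 4 0x20900 (.cons 8 0x9f (.cons 16 0x3f (.cons 8 0x29 (.cons 4 0x80100 (.cons 2 0x213200 (.cons 1 0x514110 .nil)))))))))
theorem al_a : Acts 24 GE.e (mm alN) alN := acts_mm (by decide +kernel)
theorem be_a : Acts 24 GE.e (mm beN) beN := acts_mm (by decide +kernel)
theorem ga_a : Acts 24 GE.e (mm gaN) gaN := acts_mm (by decide +kernel)
theorem de_a : Acts 24 GE.e (mm deN) deN := acts_mm (by decide +kernel)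
theorem n4_a : Acts 24 GE.e (mm n4N) n4N := acts_mm (by decide +kernel)
theorem x7_a : Acts 24 GE.e (mm x7N) x7N := acts_mm (by decide +kernel)
theorem al_o : orderOf (mm alN) = 23 := al_a.orderOf_eq (K := 5) (fun _ => MM_faithful) GE.injOn (by norm_num) (by decide +kernel)
theorem be_o : orderOf (mm beN) = 11 := be_a.orderOf_eq (K := 5) (fun _ => MM_faithful) GE.injOn (by norm_num) (by decide +kernel)
theorem de_o : orderOf (mm deN) = 5 := de_a.orderOf_eq (K := 5) (fun _ => MM_faithful) GE.injOn (by norm_num) (by decide +kernel)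
theorem x7_o : orderOf (mm x7N) = 7 := x7_a.orderOf_eq (K := 5) (fun _ => MM_faithful) GE.injOn (by norm_num) (by decide +kernel)
theorem mem22 {g : MM} {N : Net} (a : Acts 24 GE.e g N) (h : N.fn 23 = 23 ∧ N.fn 0 = 0) : g ∈ H22 :=
  ⟨(a.act 23 (by norm_num)).trans (congrArg _ h.1), (a.act 0 (by norm_num)).trans (congrArg _ h.2)⟩
theorem al_m : mm alN ∈ H23 := (al_a.act 23 (by norm_num)).trans (congrArg _ (by decide +kernel))
theorem be_m : mm beN ∈ H22 := mem22 be_a (by decide +kernel)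
theorem de_m : mm deN ∈ H22 := mem22 de_a (by decide +kernel)
theorem n4_m : mm n4N ∈ H22 := mem22 n4_a (by decide +kernel)
theorem x7_m : mm x7N ∈ H22 := mem22 x7_a (by decide +kernel)
theorem al_d (A : Subgroup MM) : Nat.card ↥(A ⊓ NZ (mm alN)) ∣ 506 :=
  card_NZ_dvd (p := 23) (by norm_num) al_o fun σ _ => cent_fix al_a (F := 0) (r := 23) (q := 0) (F1 := 0xffffff) (Ps := [0x149f]) (Os := []) (Os1 := []) (fixM_zero ▸ trivial)
    (by decide +kernel) σ (fixM_zero ▸ trivial)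
theorem be_d (A : Subgroup MM) : Nat.card ↥(A ⊓ NZ (mm beN)) ∣ 110 :=
  card_NZ_dvd (p := 11) (by norm_num) be_o fun σ _ => cent_fix be_a (F := 0) (r := 11) (q := 1) (F1 := 0xffffff) (Ps := [0x149f]) (Os := [0x843039, 0x846245, 0x84805e, 0x85028b, 0x851614, 0x87210c, 0x8d0151, 0x942312, 0xa53042, 0xc41348]) (Os1 := []) (fixM_zero ▸ trivial)
    (by decide +kernel) σ (fixM_zero ▸ trivial)
theorem de_d : Nat.card ↥(H22 ⊓ NZ (mm deN)) ∣ 20 :=
  card_NZ_dvd (p := 5) (by norm_num) de_o fun σ h => cent_fix de_a (F := 0x800001) (r := 5) (q := 1) (F1 := 0xff7ff7) (Ps := [0x428d3]) (Os := [0x821253, 0x846245, 0x84805e, 0x8d0151, 0x960095, 0xa44413, 0xa800c7, 0xc12017, 0xd40063]) (Os1 := [0xf50018]) (H22_eq ▸ de_m)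
    (by decide +kernel) σ (H22_eq ▸ h)
theorem x7_c : Nat.card ↥(H22 ⊓ NZ (mm x7N)) = 21 :=
  NZ_cases (P := (· = 21)) (by norm_num) x7_o x7_m card_H22 (card_NZ_dvd (p := 7) (by norm_num) x7_o fun σ h =>
    cent_fix x7_a (F := 0x800001) (r := 7) (q := 1) (F1 := 0xffffff) (Ps := [0x70447]) (Os := [0xa800c7, 0xa88d01, 0xa96009, 0xc12017, 0xc20c83, 0xcc040d, 0xe0900b, 0xe10641, 0xf04805]) (Os1 := []) (H22_eq ▸ x7_m) (by decide +kernel) σ (H22_eq ▸ h)) (by norm_num) (by norm_num)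
    (by decide +kernel)
theorem al_c : Nat.card ↥(H23 ⊓ NZ (mm alN)) = 253 :=
  NZ_cases (P := (· = 253)) (by norm_num) al_o al_m card_H23 (al_d _) (by norm_num) (by norm_num) (by decide +kernel)
theorem be_c23 : Nat.card ↥(H23 ⊓ NZ (mm beN)) = 55 :=
  NZ_cases (P := (· = 55)) (by norm_num) be_o be_m.1 card_H23 (be_d _) (by norm_num) (by norm_num) (by decide +kernel)

def tN : List Net := [(.cons 1 0x550004 (.cons 2 0x2013 (.cons 4 0x10d06 (.cons 8 0x53 (.cons 16 0xe7 (.cons 8 0xe7 (.cons 4 0xe0800 (.cons 2 0x310010 (.cons 1 0x440450 .nil))))))))),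
  (.cons 1 0x514404 (.cons 2 0x113102 (.cons 4 0x90500 (.cons 8 0x30 (.cons 16 0xd5 (.cons 8 0x10 (.cons 4 0x90100 (.cons 2 0x113100 (.cons 1 0x514404 .nil))))))))),
  (.cons 1 0x510544 (.cons 2 0x12320 (.cons 4 0xd090c (.cons 8 0x17 (.cons 16 0xa7 (.cons 8 0xa3 (.cons 4 0x40000 (.cons 2 0x10010 (.cons 1 0x150110 .nil))))))))),
  (.cons 1 0x105000 (.cons 2 0x100300 (.cons 4 0xb0a00 (.cons 8 0x1c (.cons 16 0xe4 (.cons 8 0x4 (.cons 4 0xa0800 (.cons 2 0x100300 (.cons 1 0x105000 .nil))))))))),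
  (.cons 1 0x1000 (.cons 2 0x30 (.cons 4 0x60f08 (.cons 8 0x5e (.cons 16 0x2e (.cons 8 0x2e (.cons 4 0x400 (.cons 2 0x13220 (.cons 1 0x114440 .nil))))))))),
  (.cons 1 0x515001 (.cons 2 0x3110 (.cons 4 0x50700 (.cons 8 0xcb (.cons 16 0x5b (.cons 8 0x1b (.cons 4 0xc0800 (.cons 2 0x201000 (.cons 1 0x440500 .nil))))))))),
  (.cons 1 0x400501 (.cons 2 0x113310 (.cons 4 0x60700 (.cons 8 0xa5 (.cons 16 0xe5 (.cons 8 0x25 (.cons 4 0x80400 (.cons 2 0x102000 (.cons 1 0x514000 .nil))))))))),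
  (.cons 1 0x144041 (.cons 2 0x112010 (.cons 4 0x20200 (.cons 8 0xaa (.cons 16 0x2a (.cons 8 0x2a (.cons 2 0x2000 (.cons 1 0x144040 .nil)))))))),
  (.cons 1 0x151000 (.cons 2 0x333100 (.cons 4 0x90000 (.cons 8 0x4a (.cons 16 0x9a (.cons 8 0xa (.cons 4 0x90000 (.cons 2 0x231000 (.cons 1 0x151000 .nil))))))))),
  (.cons 1 0x544001 (.cons 2 0x323300 (.cons 4 0x80700 (.cons 8 0xaa (.cons 16 0xea (.cons 8 0xaa (.cons 2 0x100000 (.cons 1 0x544000 .nil))))))))]
theorem t_a : ActsL 24 GE.e (tN.map mm) tN := actsL_mm (by decide +kernel)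
theorem tx_a : ActsL 24 GE.e ((tN.drop 3).map mm) (tN.drop 3) := actsL_mm (by decide +kernel)
theorem card_t : Nat.card (cl (tN.map mm)) = 2 ^ 10 :=
  t_a.pc_card (K := 5) (fun _ => MM_faithful) GE.injOn (by norm_num) (C := [(2, [7, 6, 5, 4, 1], [[0], [7, 6, 5, 4], [8, 7, 6, 5, 3, 2, 1, 0], [8, 7, 5, 4, 3, 1], [8, 5, 1], [8, 7, 6, 5, 4, 1], [6, 4, 1], [7], [8, 4, 1]]),  (2, [], [[7, 6, 5, 3], [1], [7, 6, 5, 2], [7, 6, 5, 0], [7, 5, 4, 3, 0], [7, 3, 0], [7, 5], [7, 6, 3, 0]]),  (2, [5], [[5, 4, 2, 1, 0], [6, 3, 1], [6, 5, 4, 2], [5, 3], [6], [5], [4]]),  (2, [], [[5, 4, 3, 0], [4, 2, 0], [5, 3, 1, 0], [4, 3, 2, 1, 0], [5, 2], [1, 0]]),  (2, [2, 1], [[3, 2, 1, 0], [3, 1], [3, 2], [4, 2], [2]]),  (2, [3, 1], [[2, 0], [3], [2], [1]]),  (2, [2, 1, 0], [[2, 1], [1], [1, 0]]),  (2, [], [[0], [1]]),  (2, [], [[0]]),  (2, [], [])]) (by decide +kernel) [(23, 1, 3), (3, 1, 2), (4, 1, 4), (0, 1, 1)] (by decide +kernel)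
theorem card_tx : Nat.card (cl ((tN.drop 3).map mm)) = 2 ^ 7 :=
  tx_a.pc_card (K := 5) (fun _ => MM_faithful) GE.injOn (by norm_num) (C := [(2, [], [[5, 4, 3, 0], [4, 2, 0], [5, 3, 1, 0], [4, 3, 2, 1, 0], [5, 2], [1, 0]]),  (2, [2, 1], [[3, 2, 1, 0], [3, 1], [3, 2], [4, 2], [2]]),  (2, [3, 1], [[2, 0], [3], [2], [1]]),  (2, [2, 1, 0], [[2, 1], [1], [1, 0]]),  (2, [], [[0], [1]]),  (2, [], [[0]]),  (2, [], [])]) (by decide +kernel) [(3, 1, 2), (4, 1, 4), (0, 1, 1)] (by decide +kernel)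
theorem tx_m : ∀ g ∈ (tN.drop 3).map mm, g ∈ H23 := tx_a.stab_pt (by norm_num) (by decide +kernel)
theorem tx_sub : ∀ g ∈ (tN.drop 3).map mm, g ∈ tN.map mm := fun _ h => by
  obtain ⟨N, a, rfl⟩ := List.mem_map.1 h; exact List.mem_map_of_mem (List.mem_of_mem_drop a)
abbrev HP : Subgroup MM := stabilizer MM (eP3 0)
theorem HO_eq : HO = stabilizer MM (GE.fs oct0) := congrArg _ eO_zero
theorem HP_eq : HP = stabilizer MM (GE.fs 0x800003) := congrArg _ eP3_zero
theorem H12_eq : H12 = stabilizer MM (GE.fs dod0) := congrArg _ eD_zero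
theorem kx {K : Subgroup MM} (hK : K ≤ H23) (hT : ∀ g ∈ (tN.drop 3).map mm, g ∈ K) {c : Nat} (hc : Nat.card K = c)
    (h : ∀ d ∈ [17, 19, 22, 23], ¬ d ∣ c) : K ≤ HO ∨ K ≤ HP ∨ K ≤ HSx := by
  obtain ⟨y, a, -, b, d, e⟩ := orb_sub tx_a hT (k := 1) (R := [0, 2, 3, 4, 23]) (b := 4) (P := fun y => or' (or' (tb y 23)
    (elemL (pop24 y) [17, 19, 22, 23])) (elemL (y ^^^ (2 ^ 24 - 1)) [oct0, 0x82402c, 0x800003, 0x800007])) (by norm_num) (by decide +kernel)
  simp only [or'_eq, Bool.or_eq_true, elemL_iff, e 23 (by norm_num) (by norm_num) hK, Bool.false_eq_true, false_or] at a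
  rcases a with a | a
  · exact absurd (hc ▸ Dvd.intro _ d.symm) (h _ a)
  simp only [List.mem_cons, List.not_mem_nil, or_false] at a
  rcases a with a | a | a | a <;> rw [a] at b
  · exact .inl (HO_eq ▸ b)
  · exact .inl fun g hg => HO_eq ▸ stab_oct oct0_mem (by decide +kernel) (by decide +kernel) (b hg)
  · exact .inr (.inl (HP_eq ▸ b))
  · refine .inr (.inr fun g hg => sextet_eq_of_mem0 (smul_mem_sextets g eS_zero_mem) ?_)
    rw [← b hg, eS_zero]
    exact Finset.smul_mem_smul_finset (GE.mem_fam.2 ⟨_, by decide +kernel, rfl⟩)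
theorem hx {H : Subgroup MM} (hT : ∀ g ∈ tN.map mm, g ∈ H) : H ≤ HO ∨ Nat.card H = 24 * Nat.card ↥(H ⊓ H23) := by
  obtain ⟨y, a, b, -, d, -⟩ := orb_sub t_a hT (k := 1) (R := [0, 4]) (b := 23) (P := fun y => elemL y [oct0, 16777215])
    (by norm_num) (by decide +kernel)
  simp only [elemL_iff, List.mem_cons, List.not_mem_nil, or_false] at a
  rcases a with rfl | rfl
  exacts [.inl (HO_eq ▸ b), .inr d]
theorem card_A1 : Nat.card ↥(HO ⊓ H23) = 40320 :=
  gO_acts.card_inf_stab (k := 4) (b := 23) (X := oct0) (d := 5) (m := 8) cl_gO GE.injOn (by norm_num) (by norm_num)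
    (by decide +kernel) (by norm_num) card_stab_eO
theorem card_A2 : Nat.card ↥(HP ⊓ H23) = 40320 :=
  gP3_acts.card_inf_stab (k := 2) (b := 23) (X := 0x800003) (d := 5) (m := 3) cl_gP3 GE.injOn (by norm_num) (by norm_num)
    (by decide +kernel) (by norm_num) card_stab_eP3
theorem card_A3 : Nat.card ↥(HSx ⊓ H23) = 5760 :=
  gS_acts.card_inf_stab (k := 4) (b := 23) (X := 16777215) (d := 5) (m := 24) cl_gS GE.injOn (by norm_num) (by norm_num)
    (by decide +kernel) (by norm_num) card_stab_eS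
def a1N : List Net := [(.cons 1 0x505110 (.cons 2 0x222123 (.cons 4 0x40b02 (.cons 8 0xf2 (.cons 16 0xe8 (.cons 8 0xe0 (.cons 4 0x40000 (.cons 2 0x31200 (.cons 1 0x541004 .nil))))))))),
  (.cons 1 0x150541 (.cons 2 0x130132 (.cons 4 0x80604 (.cons 8 0x11 (.cons 16 0xb5 (.cons 8 0x85 (.cons 4 0xc0500 (.cons 2 0x22010 (.cons 1 0x141454 .nil)))))))))]
def a2N : List Net := [(.cons 1 0x440514 (.cons 2 0x212300 (.cons 4 0x70f0c (.cons 8 0x83 (.cons 16 0x5b (.cons 8 0x4b (.cons 4 0xf0500 (.cons 2 0x32020 (.cons 1 0x514140 .nil))))))))),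
  (.cons 1 0x145110 (.cons 2 0x222200 (.cons 4 0x20604 (.cons 8 0x2c (.cons 16 0xfc (.cons 8 0xc0 (.cons 4 0xa0e00 (.cons 2 0x233100 (.cons 1 0x151140 .nil)))))))))]
def a3N : List Net := [(.cons 1 0x145000 (.cons 2 0x131021 (.cons 4 0xf0e08 (.cons 8 0x38 (.cons 16 0xd0 (.cons 8 0x40 (.cons 4 0xc0d00 (.cons 2 0x31020 (.cons 1 0x104440 .nil))))))))),
  (.cons 1 0x555414 (.cons 2 0x2332 (.cons 4 0x400 (.cons 8 0x39 (.cons 16 0xad (.cons 8 0xd (.cons 4 0x700 (.cons 2 0x232110 (.cons 1 0x405044 .nil)))))))))]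
def a4N : List Net := [(.cons 1 0x501040 (.cons 2 0x13320 (.cons 4 0x4070a (.cons 8 0x9 (.cons 16 0xda (.cons 8 0xc8 (.cons 4 0xf0100 (.cons 2 0x223200 (.cons 1 0x401500 .nil))))))))),
  (.cons 1 0x110454 (.cons 2 0x30011 (.cons 4 0xc0a04 (.cons 8 0x95 (.cons 16 0xf5 (.cons 8 0x65 (.cons 4 0xc0200 (.cons 2 0x110010 (.cons 1 0x110554 .nil)))))))))]
theorem a1_a : ActsL 24 GE.e (a1N.map mm) a1N := actsL_mm (by decide +kernel)
theorem a2_a : ActsL 24 GE.e (a2N.map mm) a2N := actsL_mm (by decide +kernel)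
theorem a3_a : ActsL 24 GE.e (a3N.map mm) a3N := actsL_mm (by decide +kernel)
theorem a4_a : ActsL 24 GE.e (a4N.map mm) a4N := actsL_mm (by decide +kernel)
theorem a1_m : ∀ g ∈ a1N.map mm, g ∈ HO ⊓ H23 :=
  mem_inf_of (a1_a.stab_eO (by decide +kernel)) (a1_a.stab_pt (by norm_num) (by decide +kernel))
theorem a2_m : ∀ g ∈ a2N.map mm, g ∈ HP ⊓ H23 :=
  mem_inf_of (HP_eq ▸ a2_a.stab_gfs (by decide +kernel)) (a2_a.stab_pt (by norm_num) (by decide +kernel))
theorem a3_m : ∀ g ∈ a3N.map mm, g ∈ HSx ⊓ H23 :=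
  mem_inf_of (a3_a.stab_eS (by decide +kernel)) (a3_a.stab_pt (by norm_num) (by decide +kernel))
theorem cl_a1 : cl (a1N.map mm) = HO ⊓ H23 := a1_a.mm_cl_eq a1_m card_A1.le [([3, 3, 1], (.cons 1 0x44550 (.cons 2 0x1212 (.cons 4 0x4080c (.cons 8 0x7d (.cons 16 0x25 (.cons 8 0x25 (.cons 4 0x900 (.cons 2 0x2120 (.cons 1 0x40 .nil)))))))))),
      ([2, 4, 3, 4, 3], (.cons 1 0x105044 (.cons 2 0x131020 (.cons 4 0x10e08 (.cons 8 0x10 (.cons 16 0x28 (.cons 8 0x28 (.cons 4 0xa00 (.cons 2 0x20020 (.cons 1 0x144100 .nil)))))))))),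
      ([1, 3, 3, 3, 0, 3, 1, 2], (.cons 1 0x144400 (.cons 2 0x313300 (.cons 4 0xd0e02 (.cons 8 0x9f (.cons 16 0x1d (.cons 8 0xd (.cons 4 0xa00 (.cons 2 0x312000 (.cons 1 0x5400 .nil)))))))))),
      ([4, 3, 5, 5, 2, 4, 2], (.cons 1 0x400140 (.cons 2 0x21002 (.cons 4 0x50708 (.cons 8 0x4a (.cons 16 0xda (.cons 8 0xd2 (.cons 4 0xd0900 (.cons 2 0x221000 (.cons 1 0x400100 .nil)))))))))),
      ([3, 0, 2, 0, 2, 0, 3, 1, 1], (.cons 1 0x445510 (.cons 2 0x231010 (.cons 4 0x808 (.cons 8 0xcb (.cons 16 0xb3 (.cons 8 0x93 (.cons 4 0x200 (.cons 2 0x20020 (.cons 1 0x441500 .nil)))))))))),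
      ([5, 5, 2, 4, 4], (.cons 1 0x5040 (.cons 2 0x121200 (.cons 4 0x20a08 (.cons 8 0xfc (.cons 16 0x7c (.cons 8 0x24 (.cons 4 0x400 (.cons 2 0x20200 (.cons 1 0x145540 .nil)))))))))),
      ([5, 7, 5, 6, 6, 4, 4], (.cons 1 0x144100 (.cons 2 0x101100 (.cons 4 0x60908 (.cons 8 0x8f (.cons 16 0x77 (.cons 8 0x57 (.cons 4 0x60200 (.cons 2 0x1200 (.cons 1 0x4500 .nil)))))))))),
      ([5, 1, 5, 3], (.cons 1 0x154500 (.cons 2 0x102100 (.cons 4 0x10c00 (.cons 8 0xdf (.cons 16 0xf (.cons 8 0xf (.cons 4 0x10c00 (.cons 2 0x102100 (.cons 1 0x54500 .nil)))))))))),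
      ([7, 7, 4, 4, 3, 5, 5], (.cons 1 0x455440 (.cons 2 0x122000 (.cons 4 0x30800 (.cons 8 0x56 (.cons 16 0xb6 (.cons 8 0xb6 (.cons 4 0xf0000 (.cons 2 0x103000 (.cons 1 0x440500 .nil)))))))))),
      ([9, 5], (.cons 1 0x405110 (.cons 2 0x202330 (.cons 4 0xe0600 (.cons 8 0x6a (.cons 16 0xfa (.cons 8 0x9a (.cons 4 0x40200 (.cons 2 0x100 (.cons 1 0x400440 .nil)))))))))),
      ([3, 3, 1, 2, 4, 2, 5, 5, 0], (.cons 1 0x115000 (.cons 2 0x330300 (.cons 4 0x50000 (.cons 8 0x4f (.cons 16 0x9f (.cons 8 0xf (.cons 4 0x50000 (.cons 2 0x210000 (.cons 1 0x114000 .nil)))))))))),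
      ([3, 5, 5, 2, 7, 5, 7], (.cons 1 0x401140 (.cons 2 0x21200 (.cons 4 0xc0c00 (.cons 8 0xab (.cons 16 0x7b (.cons 8 0x2b (.cons 4 0xc0800 (.cons 2 0x21200 (.cons 1 0x401140 .nil)))))))))),
      ([5, 6, 5, 5, 7], (.cons 1 0x45100 (.cons 2 0x220210 (.cons 4 0x60400 (.cons 8 0x60 (.cons 16 0xf0 (.cons 8 0x30 (.cons 4 0x30100 (.cons 2 0x331100 (.cons 1 0x45100 .nil)))))))))),
      ([6, 6, 6, 9, 9, 6], (.cons 1 0x14440 (.cons 2 0x300300 (.cons 4 0xa0100 (.cons 8 0x64 (.cons 16 0x74 (.cons 8 0x64 (.cons 4 0x20000 (.cons 2 0x300100 (.cons 1 0x14400 .nil))))))))))]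
      [14, 15, 13, 12, 11, 10, 9, 8, 7, 6, 5, 4, 3, 2, 1, 0] [(0, 1, 2), (2, 1, 2), (1, 1, 2), (3, 1, 3), (5, 1, 3), (4, 1, 4)] (by decide +kernel)
theorem card_A4 : Nat.card ↥(HO ⊓ H23 ⊓ stabilizer MM (GE.e 2)) = 5760 :=
  a1_a.card_inf_stab (k := 2) (b := 2) (X := 0x2402f) (d := 5) (m := 7) cl_a1 GE.injOn (by norm_num) (by norm_num)
    (by decide +kernel) (by norm_num) card_A1
theorem a4_m : ∀ g ∈ a4N.map mm, g ∈ HO ⊓ H23 ⊓ stabilizer MM (GE.e 2) :=
  mem_inf_of (mem_inf_of (a4_a.stab_eO (by decide +kernel)) (a4_a.stab_pt (by norm_num) (by decide +kernel)))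
    (a4_a.stab_pt (by norm_num) (by decide +kernel))
def a1P : List Net := [(.cons 1 0x10144000401155145055000501055510110404441415145404414041504554500115
 (.cons 2 0x322311023123310120301112303023103131201231332120321200333333011210030
 (.cons 4 0x7030f0d0c030d010e09040f09050d0d040c0b0f01000000060a020708070d090c03
 (.cons 8 0xb7000d002e00d5006e000300ec00d200a200c0004d00ac00a800b600d300770035
 (.cons 16 0xf000037470000643b0000d7c00000748d0000db47000055950000740100005f15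
 (.cons 32 0x7e39f97200000000970e8076000000009fd32d9300000000efa99b94
 (.cons 64 0xe70e3bceeb57b1510000000000000000a0e322ba2aa13563
 (.cons 128 0xfd1eb7c442c21cb740c2cabfad72e38f
 (.cons 256 0xfffd7
 (.cons 128 0xb03c7
 (.cons 64 0x184c74624988906c000000000000000000000000000ed802
 (.cons 32 0x3692ce1d0000000015e233ae000000008a4453c400000000000f2080
 (.cons 16 0x7000072240000861c00001c180000c70a0000d82800004dd100004c3000005500
 (.cons 8 0x4008c008400ed008c00a500ae001e00e7001f00e1007200cf003e002f00120007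
 (.cons 4 0x70602050f000e0d0b00090a04050b0800060a050d0402020d0e02040307050f0308
 (.cons 2 0x30110032130322010102203301321202322001321212323332200110310022232100
 (.cons 1 0x44100000441554045150414455451411450405405554504445515045005555011114
 .nil))))))))))))))))),
 (.cons 1 0x401010045504400500411511540144151155400001100015510454050044541414105
 (.cons 2 0x33300311322323122332013000033123000022210200020100321031312232232200
 (.cons 4 0x40c05050e040504020203070a050d0001080100030b050600050a03020306020403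
 (.cons 8 0xcd0078004d00a70081001300de0086006b003a00e600570061005b0039000800c2
 (.cons 16 0xb0000b97a00004c830000c3ce00005fbd000046d90000451e000030f0000084fc
 (.cons 32 0x35d81f0d000000009bd3ec6600000000621ed87400000000a2a51fca
 (.cons 64 0x5123bf289bc3a99d000000000000000065db3d9b18ae62af
 (.cons 128 0xeccb5a7ba901b625023c0f8d76f0f89c
 (.cons 256 0xef7ff
 (.cons 128 0xab377
 (.cons 64 0x2350456c98ae75f000000000000000000000000000a2182
 (.cons 32 0x29f404e2000000003f28002b0000000051ec22a200000000000200c0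
 (.cons 16 0x3000018200000b4000000a1f400009a37000018e1000000a500003f6400002410
 (.cons 8 0xa100240089004000dd00d4000e000700da00db00cf00f40097007200a800600008
 (.cons 4 0x204070c0b050c050a0c070904000000010d0f0a080007000c0c0b010b0b0409090b
 (.cons 2 0x210102032101221222210323111311210331030231033002201210013132000322130
 (.cons 1 0x101550144055455544154010504014541105404154550144050145044411445454400
 .nil)))))))))))))))))]
theorem card_A5 : Nat.card ↥(HO ⊓ H23 ⊓ stabilizer MM (GE.fs 3)) = 1920 := by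
  rw [show GE.fs 3 = eP2 26 by rw [eP2_eq]; exact congrArg _ (by decide +kernel)]
  exact (a1_a.toP2 (Ms := a1P) (by decide +kernel)).card_inf_stab (k := 4) (b := 26) (X := orb a1P 4 (Nat.shiftLeft 1 26))
    (d := 9) (m := 21) cl_a1 tabP2.inj (by norm_num) (by norm_num) (by decide +kernel) (by norm_num) card_A1
theorem tri_pair : HP ⊓ H23 = stabilizer MM (GE.fs 3) ⊓ H23 := by
  ext g
  refine and_congr_left fun h => ?_
  change g • eP3 0 = eP3 0 ↔ g • GE.fs 3 = GE.fs 3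
  have a : g • GE.e 23 = GE.e 23 := h
  rw [eP3_zero]
  constructor <;> intro b
  · rw [show GE.fs 3 = GE.fs 0x800003 \ {GE.e 23} by decide +kernel, Finset.smul_finset_sdiff, b,
      Finset.smul_finset_singleton, a]
  · rw [show GE.fs 0x800003 = insert (GE.e 23) (GE.fs 3) by decide +kernel, Finset.smul_finset_insert, a, b]
/-- subgroups of index 253 in the point stabiliser -/
theorem k253 {K : Subgroup MM} (hK : K ≤ H23) (hT : ∀ g ∈ (tN.drop 3).map mm, g ∈ K) (hc : Nat.card K = 40320) :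
    K = HO ⊓ H23 ∨ K = HP ⊓ H23 := by
  rcases kx hK hT hc (by decide) with a | a | a
  · exact .inl (eq_of_le_of_card_ge (le_inf a hK) (by rw [card_A1, hc]))
  · exact .inr (eq_of_le_of_card_ge (le_inf a hK) (by rw [card_A2, hc]))
  · have := card_le_of_le (le_inf a hK)
    rw [card_A3, hc] at this
    omega
end
end H9
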