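import Cfsg.Agent.H27.LMat
import Cfsg.Agent.H27.TT
import Cfsg.Agent.H27.MSub

set_option autoImplicit false

/-! The numbers of elements of each order in the Mathieu group of degree twelve. -/

namespace H9.Nse
open H27 Subgroup MulAction Cfsg
set_option maxRecDepth 100000
noncomputable section

abbrev AT (g : MM) (T : ℕ) : Prop := ActT 24 16 GE.e g T
def tm (a b : ℕ) : ℕ := pk fun q => ent 16 a (ent 16 b q)
theorem at_mul {g h : MM} {a b : ℕ} (x : AT g a) (y : AT h b) : AT (g * h) (tm a b) := fun i hi => by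
  rw [tm, ent_pk (fun q _ => ent_lt _ _ _) hi, mul_smul, (y i hi).2]; exact x _ (y i hi).1
def od (T f : ℕ) : List ℕ → ℕ → ℕ := Nat.rec (motive := fun _ => List ℕ → ℕ → ℕ) (fun _ k => k)
  (fun _ ih l k => ite' (leq l [0, 1, 2, 3, 4]) k (forceL (mapL (ent 16 T) l) fun m => force (Nat.succ k) (ih m))) f
theorem od_spec {g : MM} {T : ℕ} (hg : g ∈ H12) (a : AT g T) (f : ℕ) : ∀ (l : List ℕ) (k : ℕ), 0 < k →
    (∀ j, 0 < j → j < k → g ^ j ≠ 1) → List.Forall₂ (fun y b => b < 24 ∧ y < 24 ∧ g ^ k • GE.e b = GE.e y) l [0, 1, 2, 3, 4] →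
    od T f l k = min (orderOf g) (k + f) := by
  induction f with
  | zero =>
    intro l k hk hj _
    exact (min_eq_right (not_lt.1 fun c => hj _ (orderOf_pos g) c (pow_orderOf_eq_one g))).symm
  | succ f ih =>
    intro l k hk hj hl
    have e : l = [0, 1, 2, 3, 4] ↔ g ^ k = 1 := ⟨fun c => by
      subst c
      rw [List.forall₂_same] at hl
      exact mem_bot.1 (eq_bot_of_card_eq _ card_D5 ▸ ⟨pow_mem hg k, mem_fixM'.2 fun i hi h =>
        (hl i ((by decide +kernel : ∀ i < 24, (0x1f : ℕ).testBit i = true → i ∈ [0, 1, 2, 3, 4]) i hi h)).2.2⟩ : g ^ k ∈ ⊥),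
      fun c => List.forall₂_eq_eq_eq.le _ _ (hl.imp fun y b h => GE.injOn h.2.1 h.1 (by rw [← h.2.2, c, one_smul]))⟩
    change ite' (leq l _) k (forceL _ fun m => force (Nat.succ k) (od T f m)) = _
    simp only [ite'_eq, leq_iff, forceL_eq, force_eq, mapL_eq]
    split_ifs with c
    · rw [(orderOf_eq_iff hk).2 ⟨e.1 c, fun j h1 h2 => hj j h2 h1⟩]; omega
    · rw [ih _ _ k.succ_pos (fun j h1 h2 => (Nat.lt_succ_iff_lt_or_eq.1 h2).elim (hj j h1) fun d => d ▸ mt e.2 c)
        (List.forall₂_map_left_iff.2 (hl.imp fun y b h => ⟨h.1, (a y h.2.1).1, by rw [pow_succ', mul_smul, h.2.2, (a y h.2.1).2]⟩))]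
      congr 1; omega
def sm (ls : List (List ℕ)) : ℕ → ℕ := List.rec (motive := fun _ => ℕ → ℕ)
  (fun x => Nat.shiftLeft 1 (Nat.mul 17 (forceL (mapL (ent 16 x) [0, 1, 2, 3, 4]) fun m => od x 11 m 1)))
  (fun l _ ih x => sumL l fun u => force (tm x u) ih) ls
@[irreducible] def FF (g : MM) : ℕ := 131072 ^ min (orderOf g) 12
theorem lvl {G Ω : Type*} [Group G] [MulAction G Ω] {K H : Subgroup G} [Fintype K] [Fintype H] {x : Ω}
    (hH : ∀ g ∈ H, g ∈ K ∧ g • x = x) {us : List G} (hu : ∀ u ∈ us, u ∈ K) (nd : (us.map (· • x)).Nodup)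
    (hc : Nat.card K = us.length * Nat.card H) (F : G → ℕ) : ∑ g : K, F g = (us.map fun u => ∑ h : H, F (u * h)).sum := by
  let φ : Fin us.length × H → K := fun y => ⟨us[y.1.1] * y.2, mul_mem (hu _ (List.getElem_mem _)) (hH _ y.2.2).1⟩
  have b : Function.Bijective φ := (Nat.bijective_iff_injective_and_card φ).2 ⟨fun y z t => by
    have t : us[y.1.1] * y.2 = us[z.1.1] * z.2 := congrArg Subtype.val t
    have s := congrArg (· • x) t
    simp only [mul_smul, (hH _ y.2.2).2, (hH _ z.2.2).2] at s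
    have r : y.1 = z.1 := Fin.ext ((nd.getElem_inj_iff (hi := by simp) (hj := by simp)).1 (by simpa using s))
    exact Prod.ext r (Subtype.ext (mul_left_cancel (t.trans (by simp only [r])))), by rw [Nat.card_prod, Nat.card_fin, hc]⟩
  rw [← b.sum_comp, Fintype.sum_prod_type]
  exact Fin.sum_univ_fun_getElem us fun u => ∑ h : H, F (u * h)
theorem cnj {G : Type*} [Group G] {H : Subgroup G} [Fintype H] {F : G → ℕ} (hF : ∀ k g, F (k * g * k⁻¹) = F g) {k : G} (hk : k ∈ H)
    (u : G) : ∑ h : H, F (k * u * k⁻¹ * h) = ∑ h : H, F (u * h) :=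
  Fintype.sum_equiv (MulAut.conj (⟨k, hk⟩ : H)⁻¹).toEquiv _ _ fun h => by rw [← hF k (u * _)]; congr 1; simp [mul_assoc]
local instance (K : Subgroup MM) : Fintype K := Fintype.ofFinite _
structure PP (F : ℕ) (ls : List (List ℕ)) : Prop where
  eq : ∀ a ∈ H12, ∀ x, AT a x → sm ls x = ∑ g : ↥(H12 ⊓ fixM F), FF (a * g)
theorem pp0 : PP 0x1f [] := ⟨fun a ha x h => by
  have := (Nat.card_eq_one_iff_unique.1 card_D5).1
  rw [Fintype.sum_subsingleton _ 1, coe_one, mul_one, FF, ← od_spec ha h 11 ([0, 1, 2, 3, 4].map (ent 16 x)) 1 one_pos (by omega)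
    (List.forall₂_map_left_iff.2 (List.forall₂_same.2 fun b hb => have hb : b < 24 := by simp at hb; omega
      ⟨hb, (h b hb).1, by rw [pow_one, (h b hb).2]⟩)), show 131072 = 2 ^ 17 from rfl, ← pow_mul, ← Nat.one_shiftLeft, ← mapL_eq]
  exact congrArg (fun t => Nat.shiftLeft 1 (Nat.mul 17 t)) (forceL_eq _ _)⟩
theorem sumL_map {l : List ℕ} (f : ℕ → ℕ) : sumL l f = (l.map f).sum := by
  induction l with
  | nil => rfl
  | cons a l ih => rw [List.map_cons, List.sum_cons, ← ih]; rfl
def ck (F j : ℕ) (Ns : List Net) (l : List ℕ) : Prop := j < 24 ∧ allL Ns m24chk = true ∧ invChk Ns dod0 = true ∧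
  allN 24 (fun i => ite' (tb F i) (fixChk Ns i) true) = true ∧ all2 (tabChk 24 16) Ns l = true ∧ (l.map (ent 16 · j)).Nodup
instance (F j : ℕ) (Ns : List Net) (l : List ℕ) : Decidable (ck F j Ns l) := by unfold ck; infer_instance
theorem ck.ok {F j : ℕ} {Ns : List Net} {l : List ℕ} (c : ck F j Ns l) :
    List.Forall₂ (fun u t => u ∈ H12 ⊓ fixM F ∧ AT u t) (Ns.map mm) l ∧ ((Ns.map mm).map (· • GE.e j)).Nodup := by
  obtain ⟨hj, c1, c2, c3, c4, c5⟩ := c
  have A := actsL_mm c1
  have B := A.actT c4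
  refine ⟨(List.forall₂_and_left _ _).2 ⟨fun u h => ⟨A.stab_eD c2 u h, A.mem_fixM c3 u h⟩, B⟩, ?_⟩
  rw [show (Ns.map mm).map (· • GE.e j) = (l.map (ent 16 · j)).map GE.e from List.forall₂_eq_eq_eq.le _ _ (by
    rw [List.map_map (l := l), List.forall₂_map_left_iff, List.forall₂_map_right_iff]; exact B.imp fun u t h => (h j hj).2)]
  have k : ∀ y ∈ l.map (ent 16 · j), y < 24 := List.forall_mem_map.2 fun t ht => by
    obtain ⟨i, hi, rfl⟩ := List.getElem_of_mem ht
    exact (B.get (B.length_eq ▸ hi) hi j hj).1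
  exact c5.map_on fun a ha b hb => GE.injOn (k a ha) (k b hb)
theorem sub {F F' j : ℕ} (e : F' = F ||| 2 ^ j) (hj : j < 24) : ∀ g ∈ H12 ⊓ fixM F', g ∈ H12 ⊓ fixM F ∧ g • GE.e j = GE.e j :=
  fun g h => have := (fixM_inf hj).ge (e ▸ h.2); ⟨⟨h.1, this.1⟩, this.2⟩
theorem step {F F' j : ℕ} {ls : List (List ℕ)} (h : PP F' ls) {Ns : List Net} {l : List ℕ} (e : F' = F ||| 2 ^ j) (c : ck F j Ns l)
    (hc : Nat.card ↥(H12 ⊓ fixM F) = Ns.length * Nat.card ↥(H12 ⊓ fixM F')) : PP F (l :: ls) := ⟨fun a ha x hx => by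
  obtain ⟨A, B⟩ := c.ok
  rw [lvl (sub e c.1) (fun u hu => by
    obtain ⟨i, hi, rfl⟩ := List.getElem_of_mem hu
    exact (A.get hi (A.length_eq ▸ hi)).1) B (by rwa [List.length_map]) fun g => FF (a * g)]
  refine (sumL_map _).trans (congrArg List.sum (List.forall₂_eq_eq_eq.le _ _ ?_)).symm
  rw [List.forall₂_map_left_iff, List.forall₂_map_right_iff]
  exact A.imp fun u t k => by
    rw [force_eq]; refine Eq.trans ?_ (h.eq _ (mul_mem ha k.1.1) _ (at_mul hx k.2)).symm; simp only [mul_assoc]⟩
attribute [local irreducible] sm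
def n1 : List Net := [.nil,
  (.cons 1 0x550004 (.cons 2 0x221102 (.cons 4 0x10100 (.cons 8 0x46 (.cons 16 0x82 (.cons 8 0x2 (.cons 2 0x221100 (.cons 1 0x150004 .nil)))))))),
  (.cons 1 0x405540 (.cons 2 0x21302 (.cons 4 0x10700 (.cons 8 0xf8 (.cons 16 0x3c (.cons 8 0x2c (.cons 2 0x112110 (.cons 1 0x40004 .nil)))))))),
  (.cons 1 0x104554 (.cons 2 0x11012 (.cons 4 0x90402 (.cons 8 0x1d (.cons 16 0x5d (.cons 8 0x19 (.cons 2 0x100 (.cons 1 0x105554 .nil)))))))),
  (.cons 1 0x405140 (.cons 2 0x320020 (.cons 4 0x20b02 (.cons 16 0xc4 (.cons 2 0x320020 (.cons 1 0x404040 .nil)))))),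
  (.cons 1 0x5500 (.cons 2 0x110022 (.cons 4 0x20904 (.cons 8 0xdb (.cons 16 0x6d (.cons 8 0x49 .nil)))))),
  (.cons 1 0x450400 (.cons 2 0x2022 (.cons 4 0x90d00 (.cons 8 0xce (.cons 16 0xec (.cons 8 0xec (.cons 2 0x2000 (.cons 1 0x51004 .nil)))))))),
  (.cons 1 0x1500 (.cons 2 0x231100 (.cons 4 0xb00 (.cons 8 0xc2 (.cons 4 0xa00 (.cons 2 0x1100 (.cons 1 0x1400 .nil))))))),
  (.cons 1 0x110100 (.cons 2 0x211112 (.cons 4 0xc0b00 (.cons 8 0x15 (.cons 16 0x97 (.cons 8 0x17 (.cons 2 0x301020 (.cons 1 0x514404 .nil)))))))),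
  (.cons 1 0x511144 (.cons 2 0x201132 (.cons 4 0xd0a02 (.cons 8 0x92 (.cons 16 0xc2 (.cons 4 0x40100 (.cons 2 0x231100 (.cons 1 0x41514 .nil)))))))),
  (.cons 1 0x441004 (.cons 2 0x331302 (.cons 4 0xd0f06 (.cons 8 0xa4 (.cons 16 0xc2 (.cons 4 0xe0c00 (.cons 2 0x321120 (.cons 1 0x414504 .nil))))))))]
def t1 : List Nat := [0x170016001500140013001200110010000f000e000d000c000b000a0009000800070006000500040003000200010000,
  0x160017001100070013000900150010000f000a000d0006000b000e001200030014000c000500040008000100020000,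
  0x16000b000a0017001400080013000200150007000600040011000f000c0012000e001000050009000d000100030000,
  0x130005000f0014000a000c00110009000b000e0012000d001500170003000800160006000700020010000100040000,
  0x170013000500070016000200110010000f000b00080009000e000a000c000d00140001001500040003001200060000,
  0x17000f00070016000e00060015000d00050014000c00040013000b00030012000a0002001100090001001000080000,
  0xa000b00070011000e000d001400100015001700080012001600130003000c00050006000f00040002000100090000,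
  0x150016001700140011001000130012000f000b00060001000e000700080009000a000d0005000400030002000c0000,
  0xa00170011000700140009000e00030015000b0008000c0016000f00100012000500040013000600020001000d0000,
  0x160017000b00110015000c001400040005000a000d00080007000f0009000600130012000e00020003000100100000,
  0x130005001500140016000300170009000a000f00020006000e00070008000c000b001000110004000d000100120000]
def n2 : List Net := [.nil,
  (.cons 1 0x514004 (.cons 2 0x122100 (.cons 4 0xb0800 (.cons 8 0xdc (.cons 16 0xcc (.cons 8 0xcc (.cons 2 0x122100 (.cons 1 0x514000 .nil)))))))),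
  (.cons 1 0x1000 (.cons 2 0x221210 (.cons 4 0xf0704 (.cons 8 0xf5 (.cons 16 0xe5 (.cons 8 0x45 (.cons 4 0x10900 (.cons 2 0x203000 .nil)))))))),
  (.cons 2 0x223020 (.cons 4 0x50d04 (.cons 8 0x55 (.cons 16 0xe5 (.cons 8 0xe5 (.cons 4 0xb0300 (.cons 2 0x1210 (.cons 1 0x1000 .nil)))))))),
  (.cons 1 0x501004 (.cons 2 0x331100 (.cons 4 0x40900 (.cons 8 0xc4 (.cons 16 0xe0 (.cons 4 0x60000 (.cons 2 0x211100 (.cons 1 0x500100 .nil)))))))),
  (.cons 1 0x150114 (.cons 2 0x233310 (.cons 4 0x60a0c (.cons 8 0x3c (.cons 16 0x70 (.cons 4 0x50600 (.cons 2 0x212120 (.cons 1 0x41550 .nil)))))))),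
  (.cons 1 0x10110 (.cons 2 0x123120 (.cons 4 0x90c0c (.cons 8 0xfc (.cons 16 0xa8 (.cons 8 0xa8 (.cons 2 0x123120 (.cons 1 0x10110 .nil)))))))),
  (.cons 1 0x111514 (.cons 2 0x11210 (.cons 4 0xb0e00 (.cons 8 0x68 (.cons 16 0xfc (.cons 8 0xbc (.cons 4 0x30000 (.cons 1 0x405550 .nil)))))))),
  (.cons 1 0x404000 (.cons 2 0x210230 (.cons 4 0x90300 (.cons 8 0x28 (.cons 16 0x14 (.cons 4 0x10200 (.cons 2 0x210230 .nil))))))),
  (.cons 1 0x4154 (.cons 2 0x123120 (.cons 4 0xb0800 (.cons 8 0x8c (.cons 16 0xdc (.cons 8 0x58 (.cons 2 0x22100 (.cons 1 0x514010 .nil))))))))]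
def t2 : List Nat := [0x170016001500140013001200110010000f000e000d000c000b000a0009000800070006000500040003000200010000,
  0x11000b000f0013001400080017000d0015000e001000040016000a00090012000700060005000c0002000300010000,
  0xb000a000f000e0015000d00170010000500140009001200070016000c000600110002001300080003000400010000,
  0x11000a0013000e0005000c00070010001500140012000900170016000d0004000b0008000f00020003000600010000,
  0x1500130017000b001100120005000d0007000a000c0006000f000e0003000900140010001600040002000800010000,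
  0xb001600140013000e001000170003000f000500060008000a0007000c00040011001200150002000d000900010000,
  0xb0011000f0014001300120016000d00150005001000020017000a0006000800070009000e00030004000c00010000,
  0xb000700140015000f0003000a00060005001300120010001100170009000c00160008000e00040002000d00010000,
  0x160017001300140015000600110002000e000f000d00080007000a0003000c000b0012000500040009001000010000,
  0x7000b00050013001500090016000d0014000e000400100017000a000800030011000c000f00060002001200010000]
def n3 : List Net := [.nil,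
  (.cons 1 0x415410 (.cons 2 0x231230 (.cons 4 0x40208 (.cons 8 0xfd (.cons 16 0x8d (.cons 8 0x8d (.cons 4 0x40200 (.cons 2 0x230220 (.cons 1 0x415410 .nil))))))))),
  (.cons 1 0x511550 (.cons 2 0x210200 (.cons 4 0xe0508 (.cons 8 0x83 (.cons 16 0xf3 (.cons 8 0xc3 (.cons 4 0x20400 (.cons 2 0x210220 (.cons 1 0x514550 .nil))))))))),
  (.cons 1 0x414110 (.cons 2 0x331300 (.cons 4 0x70308 (.cons 8 0x62 (.cons 16 0x7a (.cons 8 0x5a (.cons 4 0x50a00 (.cons 2 0x2120 (.cons 1 0x115010 .nil))))))))),
  (.cons 1 0x415010 (.cons 2 0x230310 (.cons 4 0x40508 (.cons 8 0x30 (.cons 16 0x78 (.cons 8 0x48 (.cons 4 0xa0400 (.cons 2 0x110220 (.cons 1 0x510510 .nil))))))))),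
  (.cons 1 0x441550 (.cons 2 0x222000 (.cons 4 0x80e08 (.cons 8 0x27 (.cons 16 0x5f (.cons 8 0xf (.cons 4 0x20e00 (.cons 1 0x141050 .nil)))))))),
  (.cons 1 0x504540 (.cons 2 0x103120 (.cons 4 0xd0908 (.cons 8 0x3d (.cons 16 0x65 (.cons 8 0x45 (.cons 4 0x30300 (.cons 2 0x101020 (.cons 1 0x4010 .nil))))))))),
  (.cons 1 0x154050 (.cons 2 0x320130 (.cons 4 0x50b08 (.cons 8 0x30 (.cons 16 0x58 (.cons 8 0x50 (.cons 4 0x50600 (.cons 2 0x11020 (.cons 1 0x54150 .nil))))))))),
  (.cons 1 0x540100 (.cons 2 0x1020 (.cons 4 0x30000 (.cons 8 0xc0 (.cons 16 0x38 (.cons 4 0x30000 (.cons 2 0x1020 (.cons 1 0x40000 .nil))))))))]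
def t3 : List Nat := [0x170016001500140013001200110010000f000e000d000c000b000a0009000800070006000500040003000200010000,
  0xb0016000e00140013000800110009000500150006000c0017000700100012000a000d000f00030004000200010000,
  0x7000a0005000f0014000d00170004000e0013000c00090011001600120008000b0010001500030006000200010000,
  0x1500140017000b0007000c0005000d0011001600120010000e000f0004000900130006000a00030008000200010000,
  0xa000700050013001500120017000c000e000f000400060011000b000d001000160008001400030009000200010000,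
  0x1100070005000f000e00060016000900150013000d0012000a000b000400100017000300140008000c000200010000,
  0x13000f0011000700160009000e00100017000a0008001200050015000600040014000c000b0003000d000200010000,
  0x14001500170016000a0004000500120011000b000d0008000e0013000c0006000f0009000700030010000200010000,
  0x1600170014001500130003000700040005000e000d0006000b000a000800090011000c000f00100012000200010000]
def n4 : List Net := [.nil,
  (.cons 1 0x15510 (.cons 2 0x202210 (.cons 4 0x90100 (.cons 8 0xea (.cons 16 0x4a (.cons 8 0xa (.cons 4 0x20a00 (.cons 2 0x310000 (.cons 1 0x440040 .nil))))))))),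
  (.cons 1 0x500440 (.cons 2 0x201020 (.cons 4 0xf0300 (.cons 8 0x25 (.cons 16 0xf5 (.cons 8 0x95 (.cons 4 0xf0c00 (.cons 2 0x120100 (.cons 1 0x440400 .nil))))))))),
  (.cons 1 0x115510 (.cons 2 0x13230 (.cons 4 0xc0d00 (.cons 8 0x55 (.cons 16 0x25 (.cons 8 0x25 (.cons 4 0x10000 (.cons 2 0x232200 (.cons 1 0x540040 .nil))))))))),
  (.cons 1 0x154500 (.cons 2 0x102100 (.cons 4 0x10c00 (.cons 8 0xdf (.cons 16 0xf (.cons 8 0xf (.cons 4 0x10c00 (.cons 2 0x102100 (.cons 1 0x54500 .nil))))))))),
  (.cons 1 0x1450 (.cons 2 0x302130 (.cons 4 0x50600 (.cons 8 0xe (.cons 16 0xfe (.cons 8 0x5e (.cons 4 0xa0300 (.cons 2 0x213000 (.cons 1 0x454100 .nil))))))))),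
  (.cons 1 0x505410 (.cons 2 0x201000 (.cons 4 0xb0100 (.cons 8 0xac (.cons 16 0xfc (.cons 8 0x4c (.cons 4 0x70200 (.cons 2 0x100100 (.cons 1 0x110100 .nil))))))))),
  (.cons 1 0x101450 (.cons 2 0x311230 (.cons 4 0x50b00 (.cons 8 0xa7 (.cons 16 0xf7 (.cons 8 0x7 (.cons 4 0x80300 (.cons 2 0x23000 (.cons 1 0x554100 .nil)))))))))]
def t4 : List Nat := [0x170016001500140013001200110010000f000e000d000c000b000a0009000800070006000500040003000200010000,
  0x11000a0013000f001400080017001200150005001000090007000b0004000d0016000c000e00060003000200010000,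
  0xe00140016000b0007000900050004000a00170006001000150013000d000c000f0012001100080003000200010000,
  0x110007000f0013001500100017000d0014000500080006000a0016000c0012000b0004000e00090003000200010000,
  0x17000b00140015000f000d001100080013000e001200040016000700060010000a00090005000c0003000200010000,
  0x5000f000a000700160004000e0006000b0011000c00120013001400100009001500080017000d0003000200010000,
  0xe0015000b0016000a00060005000c00070017000900080014000f001200040013000d001100100003000200010000,
  0x500130007000a000b000c000e0009001600110004000d000f00150008000600140010001700120003000200010000]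
def n0 : Net := (.cons 1 0x404515 (.cons 2 0x120002 (.cons 4 0x70502 (.cons 16 0xf0 (.cons 8 0x90 (.cons 4 0xe0800 (.cons 1 0x511000 .nil)))))))
def t0 : Nat := 0x140011000500150007000600170002000a000b0010000d0016000f0008000c000e0012001300090000000300040001
def tI : ℕ := 0x170016001500140013001200110010000f000e000d000c000b000a0009000800070006000500040003000200010000
theorem c1 : ck 1 1 n1 t1 := by decide +kernel
theorem pp : PP 1 [t1, t2, t3, t4] :=
  step (step (F := 3) (j := 2) (Ns := n2) (step (F := 7) (j := 3) (Ns := n3) (step (F := 15) (j := 4) (Ns := n4) pp0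
    (by decide) (by decide +kernel) (by rw [card_D4, card_D5]; rfl)) (by decide) (by decide +kernel) (by rw [card_D3, card_D4]; rfl))
    (by decide) (by decide +kernel) (by rw [card_D2, card_D3]; rfl)) (by decide) c1 (by rw [card_D1, card_D2]; rfl)
theorem p0 : sm [t1, t2, t3, t4] tI = 282469578092400806854936675622889796569120293164065004584960 := by decide +kernel
theorem p1 : sm [t1, t2, t3, t4] t0 = 282470871135513412448660919128994258759353893575745874165760 := by decide +kernel
theorem tot : ∑ g : H12, FF g = 3389649160583048343790206786041826642922013122497269620408320 := by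
  obtain ⟨A, B⟩ := c1.ok
  obtain ⟨C, -⟩ := (by decide +kernel : ck 0 0 [n0] [t0]).ok
  obtain ⟨⟨u1, -⟩, u2⟩ := (List.forall₂_cons.1 C).1
  have u3 : mm n0 • GE.e 0 = GE.e 1 := (u2 0 (by norm_num)).2
  have k1 : ∀ k ∈ n1.map mm, k ∈ H12 ⊓ fixM 1 := fun u hu => by
    obtain ⟨i, hi, rfl⟩ := List.getElem_of_mem hu
    exact (A.get hi (A.length_eq ▸ hi)).1
  have s := sub (F := 0) (F' := 1) (j := 0) (by decide) (by decide)
  have l1 : (n1.map mm).length = 11 := rfl
  clear A C
  generalize n1.map mm = ks at k1 B l1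
  generalize mm n0 = u at u1 u2 u3
  have k2 : ∀ k ∈ ks, (k * u * k⁻¹) • GE.e 0 = k • GE.e 1 := fun k hk => by
    rw [mul_smul, mul_smul, (s _ (inv_mem (k1 k hk))).2, u3]
  rw [lvl (K := H12) (H := H12 ⊓ fixM 1) (x := GE.e 0) (fun g h => ⟨h.1, (s g h).2⟩)
    (us := 1 :: ks.map fun k => k * u * k⁻¹) (List.forall_mem_cons.2 ⟨one_mem _, List.forall_mem_map.2 fun k hk =>
      mul_mem (mul_mem (k1 k hk).1 u1) (inv_mem (k1 k hk).1)⟩) (by
      rw [List.map_cons, List.map_map, Function.comp_def, List.map_congr_left k2, List.nodup_cons]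
      refine ⟨fun c => ?_, B⟩
      obtain ⟨k, hk, e⟩ := List.mem_map.1 c
      rw [one_smul, ← (s _ (k1 k hk)).2, smul_left_cancel_iff] at e
      exact absurd (GE.injOn (by simp) (by simp) e) (by norm_num))
    (by rw [card_D1, List.length_cons, List.length_map, l1]; exact card_stab_eD), List.map_cons, List.sum_cons, List.map_map, Function.comp_def,
    List.map_congr_left (g := fun _ => sm [t1, t2, t3, t4] t0) fun k hk => (cnj (fun k g => by
      rw [FF, FF, ← MulAut.conj_apply, MulEquiv.orderOf_eq]) (k1 k hk) _).trans (pp.eq _ u1 _ u2).symm,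
    ← pp.eq 1 (one_mem _) tI fun i hi => by rw [(by decide +kernel : ∀ i < 24, ent 16 tI i = i) i hi]; exact ⟨hi, one_smul _ _⟩,
    p0, p1, List.map_const', List.sum_replicate, l1]
  norm_num
theorem m12_nse (n : ℕ) : Nat.card {g : ↥Cfsg.Spor.M12 // orderOf g = n} ∈
    ({0, 1, 891, 4400, 5940, 9504, 17280, 23760} : Set ℕ) := by
  classical
  let c : ℕ → ℕ := fun n => (Finset.univ.filter fun g : H12 => min (orderOf (g : MM)) 12 = n).card
  have h1 : ∀ n, c n ≤ 95040 := fun n => (Finset.card_le_univ _).trans (Nat.card_eq_fintype_card.symm.trans card_stab_eD).le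
  have h2 : ∑ n ∈ Finset.range 13, c n * 131072 ^ n = _ := Eq.trans (Finset.sum_congr rfl fun n _ => by
    rw [← smul_eq_mul, ← Finset.sum_const]; exact Finset.sum_congr rfl fun g hg => by rw [FF, (Finset.mem_filter.1 hg).2])
    ((Finset.sum_fiberwise_of_maps_to (fun g _ => Finset.mem_range.2 (Nat.lt_succ_of_le (min_le_right _ _))) _).trans tot)
  have h3 : Nat.card {g : ↥Cfsg.Spor.M12 // orderOf g = n} = (Finset.univ.filter fun g : H12 => orderOf (g : MM) = n).card := by
    rw [← Fintype.card_subtype, ← Nat.card_eq_fintype_card]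
    exact Nat.card_congr (m12Equiv.toEquiv.subtypeEquiv fun g => by
      rw [orderOf_coe]; exact (m12Equiv.orderOf_eq g).symm ▸ Iff.rfl).symm
  have h4 : List.map c (List.range 13) = [0, 1, 891, 4400, 5940, 9504, 23760, 0, 23760, 0, 9504, 17280, 0] := by
    refine Nat.ofDigits_inj_of_len_eq (b := 131072) (by norm_num) rfl (List.forall_mem_map.2 fun n _ => (h1 n).trans_lt (by norm_num))
      (by decide) (Eq.trans ?_ (h2.trans (by decide +kernel)))
    simp only [Finset.sum_range_succ, Finset.sum_range_zero, List.range_succ, List.range_zero, List.map, List.cons_append,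
      List.nil_append, Nat.ofDigits_cons, Nat.ofDigits_nil]
    ring
  rw [h3]
  clear h2 h3
  by_cases h : n < 12
  · rw [show (Finset.univ.filter fun g : H12 => orderOf (g : MM) = n).card = c n from
      congrArg _ (Finset.filter_congr fun g _ => by omega)]
    have : c n ∈ List.map c (List.range 13) := List.mem_map_of_mem (List.mem_range.2 (by omega))
    rw [h4] at this
    simp only [List.mem_cons, List.not_mem_nil, Set.mem_insert_iff, Set.mem_singleton_iff, or_false] at this ⊢
    omega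
  · have : c 12 = 0 := Option.some.inj (congrArg (fun l : List ℕ => l[12]?) h4)
    refine .inl (Nat.le_zero.1 (le_of_le_of_eq (Finset.card_le_card fun g e => ?_) this))
    rw [Finset.mem_filter] at e ⊢
    exact ⟨e.1, by omega⟩
end
end H9.Nse
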