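import Cfsg.Agent.H9.NormalCyc
import Cfsg.Agent.H1.Pron
import Cfsg.Agent.S1896

/-! Group-theoretic lemmas for pronormality of subgroups of odd index. -/

set_option autoImplicit false

namespace H9.Pn

open Subgroup H10 Cfsg

variable {G : Type*} [Group G]

theorem commute_of_sq_odd {x u : G} (hx : Odd (orderOf x)) (h : Commute (x ^ 2) u) :
    Commute x u := by
  obtain ⟨m, hm⟩ := hx
  have : x = (x ^ 2) ^ (m + 1) := by
    rw [← pow_mul, show 2 * (m + 1) = orderOf x + 1 by omega, pow_succ, pow_orderOf_eq_one, one_mul]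
  rw [this]; exact h.pow_left _

theorem eq_one_of_odd_of_two {x : G} (hx : Odd (orderOf x)) {k : ℕ} (h : x ^ 2 ^ k = 1) : x = 1 := by
  have h1 := orderOf_dvd_of_pow_eq_one h
  have : Nat.Coprime (orderOf x) (2 ^ k) :=
    Nat.Coprime.pow_right _ ((Nat.coprime_two_right).mpr hx)
  exact orderOf_eq_one_iff.mp (Nat.Coprime.eq_one_of_dvd this h1)

theorem eq_one_of_odd_of_mem {x : G} (hx : Odd (orderOf x)) {S : Subgroup G} (hS : IsPGroup 2 S)
    (h : x ∈ S) : x = 1 := by
  obtain ⟨k, hk⟩ := hS ⟨x, h⟩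
  exact eq_one_of_odd_of_two hx (congrArg Subtype.val hk)

theorem metacyc_of (h : IsCyclic G ∨ DQS G) : IsMetacyclic G := by
  rcases h with h | ⟨m, a, b, -, -, hi, -, -⟩
  · haveI := QuotientGroup.subsingleton_quotient_top (G := G)
    exact ⟨⊤, inferInstance, inferInstance, inferInstance⟩
  · haveI := normal_of_index_eq_two hi
    haveI : Fact (Nat.Prime 2) := ⟨Nat.prime_two⟩
    exact ⟨zpowers a, inferInstance, inferInstance, isCyclic_of_prime_card (p := 2) hi⟩

theorem q8_inv (a b : QuaternionGroup 2) (ha : a * a = 1) (hb : b * b = 1) (ha1 : a ≠ 1)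
    (hb1 : b ≠ 1) : a = b := by
  revert a b; decide

/-- an odd-order element normalizing a 2-group either centralizes it or the group has a normal
four-group -/
theorem four_or_cent [Finite G] {S : Subgroup G} (hS : IsPGroup 2 S) {z t : G} (hz : z ∈ S)
    (hz2 : z * z = 1) (hz1 : z ≠ 1)
    (hZ : ∀ y ∈ S, y * y = 1 → y ≠ 1 → (∀ s ∈ S, Commute y s) → y = z)
    (ht : t ∈ S) (ht2 : t * t = 1) (htc : ¬ ∀ s ∈ S, Commute t s) (hzc : ∀ s ∈ S, Commute z s)
    {x : G} (hx : Odd (orderOf x)) (hn : x ∈ normalizer (S : Set G)) :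
    (∀ s ∈ S, Commute x s) ∨
      ∃ u ∈ S, u * u = 1 ∧ u ≠ 1 ∧ u ≠ z ∧ ∀ s ∈ S, s * u * s⁻¹ = u ∨ s * u * s⁻¹ = z * u := by
  haveI : Fact (Nat.Prime 2) := ⟨Nat.prime_two⟩
  by_cases hV : ∀ V : Subgroup S, V.Normal → IsMulCommutative V → (∀ v ∈ V, v ^ 2 = 1) →
      Nat.card V ≠ 4
  · left
    have hm := metacyc_of (cyclic_or_dqs hS hV)
    by_cases hA : IsPGroup 2 (MulAut S)
    · obtain ⟨k, hk⟩ := hA (S.normalizerMonoidHom ⟨x, hn⟩)
      have h1 : S.normalizerMonoidHom ⟨x, hn⟩ = 1 := by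
        refine eq_one_of_odd_of_two ?_ hk
        refine Odd.of_dvd_nat hx ?_
        refine (orderOf_map_dvd _ _).trans ?_
        rw [← orderOf_coe]
      intro s hs
      have := congrArg (fun f : MulAut S => (f ⟨s, hs⟩ : G)) h1
      simp only [MulAut.one_apply] at this
      change x * s * x⁻¹ = s at this
      exact mul_inv_eq_iff_eq_mul.mp this
    · exfalso
      rcases Cfsg.Agent.S1896.result hS hm hA with ⟨⟨e⟩⟩ | ⟨n, ⟨e⟩⟩
      · have h1 : t ≠ 1 := by rintro rfl; exact htc fun s _ => Commute.one_left s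
        have := q8_inv (e ⟨t, ht⟩) (e ⟨z, hz⟩)
          (by rw [← map_mul, ← map_one e]; congr 1; exact Subtype.ext ht2)
          (by rw [← map_mul, ← map_one e]; congr 1; exact Subtype.ext hz2)
          (by rw [Ne, map_eq_one_iff e e.injective]; exact fun h => h1 (congrArg Subtype.val h))
          (by rw [Ne, map_eq_one_iff e e.injective]; exact fun h => hz1 (congrArg Subtype.val h))
        have h2 : t = z := congrArg Subtype.val (e.injective this)
        exact htc (h2 ▸ hzc)
      · apply htc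
        intro s hs
        have : (⟨t, ht⟩ : S) * ⟨s, hs⟩ = ⟨s, hs⟩ * ⟨t, ht⟩ := by
          apply e.injective; rw [map_mul, map_mul, mul_comm]
        exact congrArg Subtype.val this
  · right
    push Not at hV
    obtain ⟨V, hVn, hVc, hV2, hV4⟩ := hV
    have hb : V ≠ ⊥ := by rintro rfl; simp at hV4
    obtain ⟨y, hyV, hyc, hy2⟩ := exists_mem_center_orderOf_eq hS hb
    have hyz : (y : G) = z := by
      refine hZ y y.2 ?_ ?_ ?_
      · have := pow_orderOf_eq_one y
        rw [hy2, pow_two] at this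
        exact congrArg Subtype.val this
      · intro h
        have : y = 1 := Subtype.ext h
        rw [this, orderOf_one] at hy2; omega
      · intro s hs
        exact congrArg Subtype.val (mem_center_iff.mp hyc ⟨s, hs⟩).symm
    have hy1 : y ≠ 1 := fun h => hz1 (by rw [← hyz, h]; rfl)
    -- an element of `V` outside `{1, y}`
    obtain ⟨u, huV, hu⟩ : ∃ u ∈ V, u ∉ zpowers y := by
      by_contra h
      push Not at h
      have := card_le_of_le (show V ≤ zpowers y from h)
      rw [Nat.card_zpowers, hy2, hV4] at this; omega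
    have hu1 : u ≠ 1 := by rintro rfl; exact hu (one_mem _)
    have huy : u ≠ y := by rintro rfl; exact hu (mem_zpowers _)
    have hall : ∀ v ∈ V, v = 1 ∨ v = y ∨ v = u ∨ v = y * u := by
      classical
      intro v hv
      by_contra hne
      push Not at hne
      obtain ⟨a1, a2, a3, a4⟩ := hne
      have hyu1 : y * u ≠ 1 := fun h => hu (by
        rw [eq_inv_of_mul_eq_one_right h]; exact inv_mem (mem_zpowers _))
      have hyuy : y * u ≠ y := fun h => hu1 (by simpa using h)
      have hyuu : y * u ≠ u := fun h => hy1 (by simpa using h)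
      have hsub : ({1, y, u, y * u, v} : Finset S).card ≤ Nat.card V := by
        rw [← Set.ncard_coe_finset]
        refine Set.ncard_le_ncard (t := (V : Set S)) ?_ (Set.toFinite _)
        intro w hw
        simp only [Finset.coe_insert, Finset.coe_singleton, Set.mem_insert_iff,
          Set.mem_singleton_iff] at hw
        rcases hw with rfl | rfl | rfl | rfl | rfl
        exacts [one_mem _, hyV, huV, mul_mem hyV huV, hv]
      rw [hV4, Finset.card_insert_of_notMem (by simp [hy1.symm, hu1.symm, hyu1.symm, a1.symm]),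
        Finset.card_insert_of_notMem (by simp [huy.symm, hu1, a2.symm]),
        Finset.card_insert_of_notMem (by simp [hy1, a3.symm]),
        Finset.card_insert_of_notMem (by simp [a4.symm]), Finset.card_singleton] at hsub
      omega
    refine ⟨u, u.2, ?_, fun h => hu1 (Subtype.ext h), fun h => huy (Subtype.ext (h.trans hyz.symm)),
      fun s hs => ?_⟩
    · have := hV2 u huV
      rw [pow_two] at this
      exact congrArg Subtype.val this
    · rcases hall _ (hVn.conj_mem u huV ⟨s, hs⟩) with h | h | h | h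
      · exact absurd (by simpa [mul_inv_eq_iff_eq_mul] using h) hu1
      · exfalso
        apply huy
        have h2 := mem_center_iff.mp hyc ⟨s, hs⟩
        rw [mul_inv_eq_iff_eq_mul, ← h2] at h
        exact mul_left_cancel h
      · exact Or.inl (congrArg Subtype.val h)
      · right; rw [← hyz]; exact congrArg Subtype.val h

theorem PronSyl.of_surj {G' : Type*} [Group G'] [Finite G] {p : ℕ} [Fact p.Prime]
    (h : H1.PronSyl p G) (f : G →* G') (hf : Function.Surjective f) : H1.PronSyl p G' := by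
  haveI : Finite G' := Finite.of_surjective f hf
  intro K hK
  have h1 := H1.exists_sylow_le_iff.mp hK
  have h2 := h (K.comap f) (H1.exists_sylow_le_iff.mpr (by rwa [index_comap_of_surjective _ hf]))
  have := H1.IsPronormal.map' h2 hf
  rwa [map_comap_eq_self_of_surjective hf] at this

theorem PronSyl.pron [Finite G] (h : H1.PronSyl 2 G) {H : Subgroup G} (hH : Odd H.index) :
    IsPronormal H :=
  haveI : Fact (Nat.Prime 2) := ⟨Nat.prime_two⟩
  h H (H1.exists_sylow_le_iff.mpr hH.not_two_dvd_nat)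

theorem mem_of_parts [Finite G] {K : Subgroup G} {x : G}
    (h1 : ∀ y ∈ zpowers x, Odd (orderOf y) → y ∈ K)
    (h2 : ∀ y ∈ zpowers x, ∀ k : ℕ, y ^ 2 ^ k = 1 → y ∈ K) : x ∈ K := by
  obtain ⟨k, m, hm, e⟩ := Nat.exists_eq_two_pow_mul_odd (orderOf_pos x).ne'
  have h1 : x ^ 2 ^ k ∈ K := by
    refine h1 _ (pow_mem (mem_zpowers x) _) ?_
    refine Odd.of_dvd_nat hm (orderOf_dvd_of_pow_eq_one ?_)
    rw [← pow_mul, ← e, pow_orderOf_eq_one]
  have h2 : x ^ m ∈ K :=
    h2 _ (pow_mem (mem_zpowers x) _) k (by rw [← pow_mul, mul_comm, ← e, pow_orderOf_eq_one])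
  have hc : Nat.Coprime (2 ^ k) m := Nat.Coprime.pow_left _ ((Nat.coprime_two_left).mpr hm)
  obtain ⟨a, b, hab⟩ : ∃ a b : ℤ, (1 : ℤ) = (2 ^ k : ℕ) * a + m * b := by
    have := Nat.gcd_eq_gcd_ab (2 ^ k) m
    rw [hc] at this
    exact ⟨_, _, by exact_mod_cast this⟩
  have : x = (x ^ 2 ^ k) ^ a * (x ^ m) ^ b := by
    rw [← zpow_natCast, ← zpow_natCast, ← zpow_mul, ← zpow_mul, ← zpow_add, ← hab, zpow_one]
  rw [this]
  exact mul_mem (zpow_mem h1 _) (zpow_mem h2 _)

theorem mem_of_odd_part [Finite G] {S L : Subgroup G} (hS : IsSylowIn 2 S L) {x : G} (hxL : x ∈ L)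
    (hx : x ∈ normalizer (S : Set G)) (h : ∀ y ∈ zpowers x, Odd (orderOf y) → y ∈ S) : x ∈ S :=
  haveI : Fact (Nat.Prime 2) := ⟨Nat.prime_two⟩
  mem_of_parts h fun y hy _ hk => hS.le_of_le_NN (isPGroup_zpowers hk)
    (zpowers_le.mpr (zpowers_le.mpr hxL hy)) (zpowers_le.mpr (zpowers_le.mpr hx hy))
    (mem_zpowers _)

/-- if every odd-order element normalizing a Sylow subgroup lies in it, it is self-normalizing -/
theorem normalizer_eq_of_odd [Finite G] (P : Sylow 2 G)
    (h : ∀ x ∈ normalizer ((P : Subgroup G) : Set G), Odd (orderOf x) → x ∈ (P : Subgroup G)) :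
    normalizer ((P : Subgroup G) : Set G) = P :=
  le_antisymm (fun _ hx => mem_of_odd_part (isSylowIn_top P) trivial hx
    fun y hy ho => h y (zpowers_le.mpr hx hy) ho) le_normalizer

theorem isPGroup_of_no_odd [Finite G] {H : Subgroup G}
    (h : ∀ y ∈ H, Odd (orderOf y) → y = 1) : IsPGroup 2 H := by
  rintro ⟨x, hx⟩
  obtain ⟨k, m, hm, e⟩ := Nat.exists_eq_two_pow_mul_odd (orderOf_pos x).ne'
  refine ⟨k, Subtype.ext (h _ (pow_mem hx _) ?_)⟩
  refine Odd.of_dvd_nat hm (orderOf_dvd_of_pow_eq_one ?_)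
  change (x ^ 2 ^ k) ^ m = 1
  rw [← pow_mul, ← e, pow_orderOf_eq_one]

/-- odd-order elements lie in a normal 2-complement -/
theorem exists_core_of_npc [Finite G] {K : Subgroup G} (h : HasNormalPComplement 2 K) :
    ∃ O : Subgroup G, O ≤ K ∧ K ≤ normalizer (O : Set G) ∧ Odd (Nat.card O) ∧
      ∀ y ∈ K, Odd (orderOf y) → y ∈ O := by
  haveI : Fact (Nat.Prime 2) := ⟨Nat.prime_two⟩
  obtain ⟨P, N, hN, hc⟩ := h
  refine ⟨N.map K.subtype, map_subtype_le _, ?_, ?_, fun y hy ho => ?_⟩
  · rw [le_NN_iff]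
    rintro g hg _ ⟨n, hn, rfl⟩
    exact ⟨_, hN.conj_mem n hn ⟨g, hg⟩, rfl⟩
  · rw [card_map_of_injective K.subtype_injective, ← hc.index_eq_card, ← Nat.not_even_iff_odd,
      even_iff_two_dvd]
    exact P.not_dvd_index
  · refine ⟨⟨y, hy⟩, ?_, rfl⟩
    obtain ⟨k, hk⟩ := P.isPGroup'.exists_card_eq
    have h1 := N.pow_index_mem (⟨y, hy⟩ : K)
    rw [hc.symm.index_eq_card, hk] at h1
    have h2 : (QuotientGroup.mk' N ⟨y, hy⟩) = 1 := eq_one_of_odd_of_two (k := k)
      (Odd.of_dvd_nat ho ((orderOf_map_dvd _ _).trans (by rw [← orderOf_coe])))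
      (by rw [← map_pow]; exact (QuotientGroup.eq_one_iff _).mpr h1)
    exact (QuotientGroup.eq_one_iff _).mp h2

end H9.Pn
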