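import Cfsg.Agent.H9.Pn1
import Cfsg.Agent.H22.SpSu
import Cfsg.Agent.H23.Classify

/-! Orthogonal decompositions, eigenspaces of involutions and monomial isometries. -/

set_option autoImplicit false

namespace H9.Pn

open Module H23 H23.Form H22

variable {F V : Type*} [Field F] {σ : F →+* F} [AddCommGroup V] [Module F V] {Φ : Form σ V}

/-- an orthogonal decomposition -/
structure Dec (Φ : Form σ V) (U W : Submodule F V) : Prop where
  compl : IsCompl U W
  orth : ∀ u ∈ U, ∀ w ∈ W, Φ.B u w = 0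

namespace Dec

variable {U W : Submodule F V} (h : Dec Φ U W)
include h

theorem symm : Dec Φ W U :=
  ⟨h.compl.symm, fun w hw u hu => Φ.B_eq_zero_symm (h.orth u hu w hw)⟩

theorem exists_add (x : V) : ∃ (u : U) (w : W), x = u + w := by
  obtain ⟨⟨u, w⟩, rfl⟩ := (Submodule.prodEquivOfIsCompl _ _ h.compl).surjective x
  exact ⟨u, w, by simp⟩

theorem B_add (u u' : U) (w w' : W) :
    Φ.B ((u : V) + w) ((u' : V) + w') = Φ.B u u' + Φ.B w w' := by
  simp only [map_add, LinearMap.add_apply]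
  rw [h.orth u u.2 w' w'.2, Φ.B_eq_zero_symm (h.orth u' u'.2 w w.2)]; ring

theorem Q_add (u : U) (w : W) : Φ.Q ((u : V) + w) = Φ.Q u + Φ.Q w := by
  rw [Φ.Q_add, h.orth u u.2 w w.2]; ring

/-- sum of two linear equivalences -/
noncomputable def se (a : U ≃ₗ[F] U) (b : W ≃ₗ[F] W) : V ≃ₗ[F] V :=
  (Submodule.prodEquivOfIsCompl _ _ h.compl).symm ≪≫ₗ (a.prodCongr b) ≪≫ₗ
    Submodule.prodEquivOfIsCompl _ _ h.compl

theorem se_apply (a : U ≃ₗ[F] U) (b : W ≃ₗ[F] W) (u : U) (w : W) :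
    h.se a b (u + w) = a u + b w := by
  have : ((u : V) + w) = Submodule.prodEquivOfIsCompl _ _ h.compl (u, w) := by simp
  rw [this]
  simp only [se, LinearEquiv.trans_apply, LinearEquiv.symm_apply_apply]
  simp

/-- `O(U) × O(W) → O(V)` -/
noncomputable def ds : (Φ.restrict U).O × (Φ.restrict W).O →* Φ.O where
  toFun g := ⟨h.se g.1.1 g.2.1, fun x y => by
      obtain ⟨u, w, rfl⟩ := h.exists_add x
      obtain ⟨u', w', rfl⟩ := h.exists_add y
      rw [se_apply, se_apply, h.B_add, h.B_add]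
      exact congrArg₂ (· + ·) (g.1.2.1 u u') (g.2.2.1 w w'), fun x => by
      obtain ⟨u, w, rfl⟩ := h.exists_add x
      rw [se_apply, h.Q_add, h.Q_add]
      exact congrArg₂ (· + ·) (g.1.2.2 u) (g.2.2.2 w)⟩
  map_one' := by
    apply O_ext
    intro x
    obtain ⟨u, w, rfl⟩ := h.exists_add x
    rw [se_apply]; rfl
  map_mul' g g' := by
    apply O_ext
    intro x
    obtain ⟨u, w, rfl⟩ := h.exists_add x
    simp only [O_mul_apply, se_apply]; rfl

theorem ds_apply (g : (Φ.restrict U).O × (Φ.restrict W).O) (u : U) (w : W) :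
    (h.ds g).1 (u + w) = g.1.1 u + g.2.1 w := h.se_apply _ _ u w

theorem ds_left (g : (Φ.restrict U).O × (Φ.restrict W).O) (u : U) :
    (h.ds g).1 u = g.1.1 u := by simpa using h.ds_apply g u 0

theorem ds_right (g : (Φ.restrict U).O × (Φ.restrict W).O) (w : W) :
    (h.ds g).1 w = g.2.1 w := by simpa using h.ds_apply g 0 w

theorem ds_inj : Function.Injective h.ds := by
  intro g g' e
  refine Prod.ext (O_ext _ fun u => Subtype.ext ?_) (O_ext _ fun w => Subtype.ext ?_)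
  · rw [← h.ds_left, ← h.ds_left, e]
  · rw [← h.ds_right, ← h.ds_right, e]

theorem ext {g g' : Φ.O} (h1 : ∀ u ∈ U, g.1 u = g'.1 u) (h2 : ∀ w ∈ W, g.1 w = g'.1 w) :
    g = g' := by
  apply O_ext
  intro x
  obtain ⟨u, w, rfl⟩ := h.exists_add x
  rw [map_add, map_add, h1 u u.2, h2 w w.2]

theorem det_ds [FiniteDimensional F V] (g : (Φ.restrict U).O × (Φ.restrict W).O) :
    LinearMap.det (h.ds g).1.toLinearMap =
      LinearMap.det g.1.1.toLinearMap * LinearMap.det g.2.1.toLinearMap := by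
  have := LinearMap.det_conj (g.1.1.toLinearMap.prodMap g.2.1.toLinearMap)
    (Submodule.prodEquivOfIsCompl _ _ h.compl)
  rw [LinearMap.det_prodMap] at this
  exact this

theorem nondeg (hΦ : Φ.Nondeg) : (Φ.restrict U).Nondeg := by
  intro u hu
  apply Subtype.ext
  refine hΦ u fun y => ?_
  obtain ⟨u', w, rfl⟩ := h.exists_add y
  rw [map_add, h.orth u u.2 w w.2, add_zero]
  exact hu u'

theorem finrank_add [FiniteDimensional F V] : finrank F U + finrank F W = finrank F V :=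
  Submodule.finrank_add_eq_of_isCompl h.compl

end Dec

/-- restriction of an isometry to an invariant subspace -/
noncomputable def res [FiniteDimensional F V] (g : Φ.O) (U : Submodule F V)
    (hg : ∀ u ∈ U, g.1 u ∈ U) : (Φ.restrict U).O :=
  ⟨LinearEquiv.ofInjectiveEndo (g.1.toLinearMap.restrict hg) (fun x y e =>
      Subtype.ext (g.1.injective (congrArg Subtype.val e))),
    fun x y => O_B Φ g x y, fun x => O_Q Φ g x⟩

theorem res_apply [FiniteDimensional F V] (g : Φ.O) (U : Submodule F V)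
    (hg : ∀ u ∈ U, g.1 u ∈ U) (u : U) : ((res g U hg).1 u : V) = g.1 u := rfl

theorem Dec.exists_ds [FiniteDimensional F V] {U W : Submodule F V} (h : Dec Φ U W) (g : Φ.O)
    (h1 : ∀ u ∈ U, g.1 u ∈ U) (h2 : ∀ w ∈ W, g.1 w ∈ W) : ∃ k, h.ds k = g :=
  ⟨(res g U h1, res g W h2), h.ext (fun u hu => h.ds_left _ ⟨u, hu⟩)
    (fun w hw => h.ds_right _ ⟨w, hw⟩)⟩

/-- eigenspace -/
def ev (u : Φ.O) (a : F) : Submodule F V where
  carrier := {v | u.1 v = a • v}
  add_mem' {x y} hx hy := by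
    simp only [Set.mem_setOf_eq] at *; rw [map_add, hx, hy, smul_add]
  zero_mem' := by simp
  smul_mem' c x hx := by
    simp only [Set.mem_setOf_eq] at *; rw [map_smul, hx, smul_comm]

theorem mem_ev {u : Φ.O} {a : F} {v : V} : v ∈ ev u a ↔ u.1 v = a • v := Iff.rfl

theorem dec_ev (h2 : (2 : F) ≠ 0) {u : Φ.O} (hu : u * u = 1) : Dec Φ (ev u 1) (ev u (-1)) := by
  have huu : ∀ v, u.1 (u.1 v) = v := fun v => by rw [← O_mul_apply, hu, O_one_apply]
  refine ⟨⟨?_, ?_⟩, ?_⟩
  · rw [Submodule.disjoint_def]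
    intro x h1 h3
    rw [mem_ev] at h1 h3
    have : (2 : F) • x = 0 := by
      rw [h1] at h3
      rw [two_smul]; nth_rw 1 [← one_smul F x]; rw [h3]; simp
    exact (smul_eq_zero.mp this).resolve_left h2
  · rw [codisjoint_iff, eq_top_iff]
    intro x _
    have : x = (2 : F)⁻¹ • (x + u.1 x) + (2 : F)⁻¹ • (x - u.1 x) := by
      rw [← smul_add, add_add_sub_cancel, ← two_smul F, smul_smul, inv_mul_cancel₀ h2, one_smul]
    rw [this]
    refine Submodule.add_mem_sup (Submodule.smul_mem _ _ ?_) (Submodule.smul_mem _ _ ?_)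
    · rw [mem_ev, map_add, huu, one_smul, add_comm]
    · rw [mem_ev, map_sub, huu]; simp
  · intro x hx y hy
    rw [mem_ev] at hx hy
    have := O_B Φ u x y
    rw [hx, hy, one_smul, map_smul] at this
    have h3 : (2 : F) * Φ.B x y = 0 := by
      rw [smul_eq_mul] at this; linear_combination -this
    exact (mul_eq_zero.mp h3).resolve_left h2

theorem ev_of_commute {g u : Φ.O} (h : Commute g u) {a : F} {v : V} (hv : v ∈ ev u a) :
    g.1 v ∈ ev u a := by
  rw [mem_ev] at *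
  rw [← O_mul_apply, ← h.eq, O_mul_apply, hv, map_smul]

/-- scalar isometries -/
def Scal (g : Φ.O) : Prop := ∃ a : F, ∀ v, g.1 v = a • v

theorem Scal.commute {g : Φ.O} (h : Scal g) (k : Φ.O) : Commute g k := by
  obtain ⟨a, ha⟩ := h
  apply O_ext
  intro v
  simp only [O_mul_apply, ha, map_smul]

theorem Scal.of_conj {g k : Φ.O} (h : Scal (k * g * k⁻¹)) : Scal g := by
  have := (h.commute k).eq
  rw [inv_mul_cancel_right, mul_assoc, mul_right_inj] at this
  have h2 : k * g * k⁻¹ = g := by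
    conv_rhs => rw [this]
    group
  rwa [h2] at h

/-- the isometry `-1` -/
def ng (Φ : Form σ V) : Φ.O := scal Φ (-1) (by simp)

@[simp] theorem ng_apply (v : V) : (ng Φ).1 v = -v := by
  rw [ng, scal_apply, neg_one_smul]

theorem scal_ng : Scal (ng Φ) := ⟨-1, fun v => by simp⟩

theorem ng_mul_ng : ng Φ * ng Φ = 1 := O_ext _ fun v => by simp

theorem ng_ne_one [Nontrivial V] (h2 : (2 : F) ≠ 0) : ng Φ ≠ 1 := by
  intro h
  obtain ⟨v, hv⟩ := exists_ne (0 : V)
  have h1 : (ng Φ).1 v = v := by rw [h]; rfl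
  rw [ng_apply] at h1
  have : (2 : F) • v = 0 := by rw [two_smul]; nth_rw 1 [← h1]; simp
  exact hv ((smul_eq_zero.mp this).resolve_left h2)

theorem Scal.eq_of_sq {g : Φ.O} (h : Scal g) (hg : g * g = 1) : g = 1 ∨ g = ng Φ := by
  obtain ⟨a, ha⟩ := h
  rcases subsingleton_or_nontrivial V with hV | hV
  · exact Or.inl (O_ext _ fun v => Subsingleton.elim _ _)
  obtain ⟨v, hv⟩ := exists_ne (0 : V)
  have h1 : (g * g).1 v = v := by rw [hg]; rfl
  rw [O_mul_apply, ha, ha, smul_smul] at h1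
  have h2 : a * a = 1 := by
    have : (a * a - 1) • v = 0 := by rw [sub_smul, h1, one_smul, sub_self]
    exact sub_eq_zero.mp ((smul_eq_zero.mp this).resolve_right hv)
  rcases mul_self_eq_one_iff.mp h2 with rfl | rfl
  · exact Or.inl (O_ext _ fun v => by simp [ha])
  · exact Or.inr (O_ext _ fun v => by simp [ha])

theorem ev_of_anti {g u : Φ.O} (h : g * u * g⁻¹ = ng Φ * u) {a : F} {v : V} (hv : v ∈ ev u a) :
    g.1 v ∈ ev u (-a) := by
  rw [mem_ev] at *
  have h1 : (g * u * g⁻¹).1 (g.1 v) = (ng Φ * u).1 (g.1 v) := by rw [h]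
  simp only [O_mul_apply, O_inv_apply_apply, ng_apply, hv, map_smul] at h1
  rw [neg_smul, h1, neg_neg]

theorem scal_of_finrank_le_one [FiniteDimensional F V] (h : finrank F V ≤ 1) (g : Φ.O) :
    Scal g := by
  obtain ⟨v, hv⟩ := finrank_le_one_iff.mp h
  obtain ⟨a, ha⟩ := hv (g.1 v)
  refine ⟨a, fun w => ?_⟩
  obtain ⟨b, rfl⟩ := hv w
  rw [map_smul, ← ha, smul_comm]

/-! ### linear or unitary spaces -/

/-- linear (`c = 0`) or unitary (`c = 1`) space -/
structure Cl (c : F) (Φ : Form σ V) : Prop where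
  κ0 : Φ.κ = 0
  ε1 : Φ.ε = 1
  cases : (c = 0 ∧ ∀ x y, Φ.B x y = 0) ∨ (c = 1 ∧ σ ≠ RingHom.id F ∧ Φ.Nondeg)

variable {c : F}

theorem Cl.restrict (h : Cl c Φ) {U W : Submodule F V} (d : Dec Φ U W) : Cl c (Φ.restrict U) :=
  ⟨h.κ0, h.ε1, h.cases.imp (fun h => ⟨h.1, fun x y => h.2 x y⟩)
    (fun h => ⟨h.1, h.2.1, d.nondeg h.2.2⟩)⟩

theorem Cl.basis [Finite F] [FiniteDimensional F V] (h : Cl c Φ) {n : ℕ} (hn : finrank F V = n) :
    ∃ b : Basis (Fin n) F V, ∀ i j, Φ.B (b i) (b j) = if i = j then c else 0 := by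
  rcases h.cases with ⟨rfl, h0⟩ | ⟨rfl, h1, h2⟩
  · exact ⟨finBasisOfFinrankEq F V hn, fun i j => by simp [h0]⟩
  · exact exists_orthonormal_basis_herm h1 h.ε1 h2 hn

theorem Cl.det_norm [FiniteDimensional F V] (h : Cl c Φ) (g : Φ.O) :
    c * (σ (LinearMap.det g.1.toLinearMap) * LinearMap.det g.1.toLinearMap) = c := by
  rcases h.cases with ⟨rfl, -⟩ | ⟨rfl, -, h2⟩
  · simp
  · rw [norm_det_eq_one h2, mul_one]

theorem mem_O_of_basis {ι : Type*} (hκ : Φ.κ = 0) (b : Basis ι F V) (g : V ≃ₗ[F] V)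
    (h : ∀ i j, Φ.B (g (b i)) (g (b j)) = Φ.B (b i) (b j)) : g ∈ Φ.O := by
  refine Φ.mem_O_of_κ hκ fun x y => ?_
  have : (Φ.comap g.toLinearMap).B = Φ.B :=
    LinearMap.ext_basis b b fun i j => by rw [comap_B]; exact h i j
  exact (comap_B Φ g.toLinearMap x y).symm.trans (by rw [this])

theorem exists_mono {ι : Type*} [Fintype ι] [DecidableEq ι] (hκ : Φ.κ = 0) (b : Basis ι F V)
    (hb : ∀ i j, Φ.B (b i) (b j) = if i = j then c else 0) (π : Equiv.Perm ι) (d : ι → F)
    (hd0 : ∀ i, d i ≠ 0) (hd : ∀ i, c * (σ (d i) * d i) = c) :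
    ∃ g : Φ.O, (∀ i, g.1 (b i) = d i • b (π i)) ∧
      LinearMap.det g.1.toLinearMap = (∏ i, d i) * ((Equiv.Perm.sign π : ℤˣ) : ℤ) := by
  let e : V ≃ₗ[F] V := b.equiv (b.unitsSMul fun i => Units.mk0 (d (π.symm i)) (hd0 _)) π
  have he : ∀ i, e (b i) = d i • b (π i) := fun i => by
    simp [e, Basis.unitsSMul_apply, Units.smul_def]
  refine ⟨⟨e, mem_O_of_basis hκ b e fun i j => ?_⟩, he, ?_⟩
  · rw [he, he, B_smul_left, B_smul_right, hb, hb]
    by_cases hij : i = j
    · subst hij; simp only [if_true]; linear_combination hd i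
    · simp [hij]
  · have h1 := b.det_comp e.toLinearMap b
    rw [Basis.det_self, mul_one] at h1
    change LinearMap.det e.toLinearMap = _
    rw [← h1]
    have h2 : (e.toLinearMap ∘ b) = fun i => d i • (b ∘ π) i := funext he
    rw [h2, AlternatingMap.map_smul_univ, AlternatingMap.map_perm, Basis.det_self]
    simp [Units.smul_def]

theorem Cl.exists_det [Finite F] [FiniteDimensional F V] (h : Cl c Φ) (hV : 0 < finrank F V)
    {a : F} (ha0 : a ≠ 0) (ha : c * (σ a * a) = c) :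
    ∃ g : Φ.O, LinearMap.det g.1.toLinearMap = a := by
  obtain ⟨n, hn⟩ : ∃ n, finrank F V = n + 1 := ⟨_, (Nat.succ_pred_eq_of_pos hV).symm⟩
  obtain ⟨b, hb⟩ := h.basis hn
  obtain ⟨g, -, hg⟩ := exists_mono h.κ0 b hb 1 (fun i => if i = 0 then a else 1)
    (fun i => by split_ifs <;> simp [ha0]) (fun i => by split_ifs <;> simp [ha])
  exact ⟨g, by simpa using hg⟩

theorem repr_diag {ι : Type*} (b : Basis ι F V) (g : V →ₗ[F] V) (d : ι → F)
    (hg : ∀ i, g (b i) = d i • b i) (v : V) (j : ι) : b.repr (g v) j = d j * b.repr v j := by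
  classical
  have : (b.coord j).comp g = d j • b.coord j := b.ext fun i => by
    simp only [LinearMap.comp_apply, hg, map_smul, Basis.coord_apply, Basis.repr_self,
      LinearMap.smul_apply, smul_eq_mul, Finsupp.single_apply]
    split_ifs with h
    · rw [h]
    · simp
  simpa using LinearMap.congr_fun this v

theorem Cl.exists_inv [Finite F] [FiniteDimensional F V] (h : Cl c Φ) (h2 : (2 : F) ≠ 0)
    (hV : 2 ≤ finrank F V) : ∃ t : Φ.O, t * t = 1 ∧ ¬ Scal t ∧ (3 ≤ finrank F V → t ∈ SO Φ) := by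
  obtain ⟨n, hn⟩ : ∃ n, finrank F V = n + 2 := ⟨finrank F V - 2, by omega⟩
  obtain ⟨b, hb⟩ := h.basis hn
  let d : Fin (n + 2) → F := fun i => if i.1 = 0 ∨ i.1 = 2 then -1 else 1
  obtain ⟨g, hg, hdet⟩ := exists_mono h.κ0 b hb 1 d
    (fun i => by simp only [d]; split_ifs <;> simp) (fun i => by simp only [d]; split_ifs <;> simp)
  refine ⟨g, ?_, ?_, fun h3 => ?_⟩
  · apply Subtype.ext
    apply LinearEquiv.toLinearMap_injective
    refine b.ext fun i => ?_
    change g.1 (g.1 (b i)) = b i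
    rw [hg, map_smul, hg, smul_smul]
    simp only [d, Equiv.Perm.one_apply]; split_ifs <;> simp
  · rintro ⟨a, ha⟩
    have h0 := congrArg (fun v => b.repr v 0) ((hg 0).symm.trans (ha _))
    have h1 := congrArg (fun v => b.repr v 1) ((hg 1).symm.trans (ha _))
    simp [d] at h0 h1
    apply h2; linear_combination h1 - h0
  · rw [mem_SO, hdet]
    obtain ⟨m, rfl⟩ : ∃ m, n = m + 1 := ⟨n - 1, by omega⟩
    simp [d, Fin.prod_univ_succ]

end H9.Pn
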