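import Cfsg.Agent.H9.Pn2

/-! Sylow 2-subgroups of linear and unitary groups of 2-power dimension. -/

set_option autoImplicit false

namespace H9.Pn

open Module H23 H23.Form H22 H10 Subgroup

universe u

variable {F : Type*} [Field F] {σ : F →+* F} {c : F}

section
variable {V : Type u} [AddCommGroup V] [Module F V] {Φ : Form σ V}

theorem O_ext_basis {ι : Type*} (b : Basis ι F V) {g k : Φ.O} (h : ∀ i, g.1 (b i) = k.1 (b i)) :
    g = k := by
  apply Subtype.ext
  apply LinearEquiv.toLinearMap_injective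
  exact b.ext h

/-- signed cyclic shifts -/
def Mon {n : ℕ} [NeZero n] (b : Basis (Fin n) F V) (k : Fin n) (g : Φ.O) : Prop :=
  ∃ d : Fin n → F, (∀ i, d i * d i = 1) ∧ ∀ i, g.1 (b i) = d i • b (i + k)

theorem Mon.mul {n : ℕ} [NeZero n] {b : Basis (Fin n) F V} {k l : Fin n} {g h : Φ.O}
    (hg : Mon b k g) (hh : Mon b l h) : Mon b (l + k) (g * h) := by
  obtain ⟨d, hd, e⟩ := hg
  obtain ⟨d', hd', e'⟩ := hh
  refine ⟨fun i => d' i * d (i + l), fun i => ?_, fun i => ?_⟩
  · rw [mul_mul_mul_comm, hd, hd', one_mul]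
  · rw [O_mul_apply, e', map_smul, e, smul_smul, add_assoc]

theorem Mon.one {n : ℕ} [NeZero n] (b : Basis (Fin n) F V) : Mon b 0 (1 : Φ.O) :=
  ⟨fun _ => 1, fun _ => one_mul _, fun i => by simp⟩

theorem Mon.pow {n : ℕ} [NeZero n] {b : Basis (Fin n) F V} {k : Fin n} {g : Φ.O}
    (hg : Mon b k g) (m : ℕ) : Mon b (m • k) (g ^ m) := by
  induction m with
  | zero => simpa using Mon.one b
  | succ m ih => rw [pow_succ', succ_nsmul]; exact hg.mul ih

theorem Mon.pow_eq {n : ℕ} [NeZero n] {b : Basis (Fin n) F V} {k : Fin n} {g : Φ.O}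
    (hg : Mon b k g) : g ^ (n * 2) = 1 := by
  obtain ⟨d, hd, e⟩ := hg.pow n
  have h0 : n • k = 0 := by
    have := card_nsmul_eq_zero (G := Fin n) (x := k)
    rwa [Fintype.card_fin] at this
  rw [h0] at e
  refine O_ext_basis b fun i => ?_
  rw [pow_mul, pow_two, O_mul_apply, e, map_smul, add_zero, e, smul_smul, hd, add_zero, one_smul,
    O_one_apply]

/-- signed cyclic shifts of determinant one -/
def monSub {n : ℕ} [NeZero n] (Φ : Form σ V) (b : Basis (Fin n) F V) : Subgroup Φ.O where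
  carrier := {g | g ∈ SO Φ ∧ ∃ k, Mon b k g}
  mul_mem' := fun ⟨a1, _, a2⟩ ⟨b1, _, b2⟩ => ⟨mul_mem a1 b1, _, a2.mul b2⟩
  one_mem' := ⟨one_mem _, _, Mon.one b⟩
  inv_mem' := fun {g} ⟨a1, _, a2⟩ => ⟨inv_mem a1, _, by
    have h1 := a2.pow_eq
    have h2 : g⁻¹ = g ^ (n * 2 - 1) := by
      have := NeZero.pos n
      rw [inv_eq_iff_mul_eq_one, ← pow_succ', Nat.sub_add_cancel (by omega), h1]
    rw [h2]; exact a2.pow _⟩

theorem cent_big [Finite F] [FiniteDimensional F V] (h : Cl c Φ) (h2 : (2 : F) ≠ 0) {k : ℕ}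
    (hV : finrank F V = 2 ^ (k + 2)) :
    ∃ Q : Subgroup Φ.O, Q ≤ SO Φ ∧ IsPGroup 2 Q ∧ ∀ x : Φ.O, (∀ g ∈ Q, Commute x g) → Scal x := by
  obtain ⟨n, hn⟩ : ∃ n, 2 ^ (k + 2) = n + 3 := ⟨2 ^ (k + 2) - 3, by
    have : 2 ^ 2 ≤ 2 ^ (k + 2) := Nat.pow_le_pow_right (by norm_num) (by omega)
    omega⟩
  obtain ⟨b, hb⟩ := h.basis (hV.trans hn)
  refine ⟨monSub Φ b, fun g hg => hg.1, fun g => ⟨k + 3, Subtype.ext ?_⟩, fun x hx => ?_⟩
  · obtain ⟨-, l, hl⟩ := g.2
    have := hl.pow_eq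
    rw [show (n + 3) * 2 = 2 ^ (k + 3) by rw [← hn, ← pow_succ]] at this
    exact this
  · have hdiag : ∀ i j, i ≠ j → b.repr (x.1 (b i)) j = 0 := by
      intro i j hij
      obtain ⟨l, hli, hlj⟩ : ∃ l : Fin (n + 3), l ≠ i ∧ l ≠ j := by
        obtain ⟨l, -, hl⟩ := Finset.exists_mem_notMem_of_card_lt_card
          (s := ({i, j} : Finset _)) (t := Finset.univ) (by
            have := Finset.card_le_two (a := i) (b := j)
            rw [Finset.card_univ, Fintype.card_fin]; omega)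
        exact ⟨l, by simpa using hl⟩
      let d : Fin (n + 3) → F := fun m => (if m = i then -1 else 1) * (if m = l then -1 else 1)
      obtain ⟨g, hg, hdet⟩ := exists_mono h.κ0 b hb 1 d
        (fun m => by simp only [d]; split_ifs <;> simp)
        (fun m => by simp only [d]; split_ifs <;> simp)
      have hgQ : g ∈ monSub Φ b := by
        refine ⟨?_, 0, d, fun m => by simp only [d]; split_ifs <;> simp, fun m => by simp [hg]⟩
        rw [mem_SO, hdet]
        simp only [d, Finset.prod_mul_distrib]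
        simp
      have e : x.1 (g.1 (b i)) = g.1 (x.1 (b i)) := by
        rw [← O_mul_apply, (hx g hgQ).eq, O_mul_apply]
      have e2 := congrArg (fun v => b.repr v j) e
      have e3 := repr_diag b g.1.toLinearMap d hg (x.1 (b i)) j
      simp only [LinearEquiv.coe_coe] at e3
      simp only [hg, map_smul, e3, d, Equiv.Perm.one_apply, if_true, hli.symm, if_false,
        hij.symm, hlj.symm, Finsupp.smul_apply, smul_eq_mul] at e2
      have : (2 : F) * b.repr (x.1 (b i)) j = 0 := by linear_combination -e2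
      exact (mul_eq_zero.mp this).resolve_left h2
    have hx1 : ∀ i, x.1 (b i) = b.repr (x.1 (b i)) i • b i := fun i => by
      refine b.ext_elem fun j => ?_
      by_cases hij : i = j
      · subst hij; simp
      · simp [hdiag i j hij, hij]
    have hshift : ∀ l : Fin (n + 3), b.repr (x.1 (b l)) l = b.repr (x.1 (b 0)) 0 := by
      intro l
      let ε : F := ((Equiv.Perm.sign (Equiv.addRight l) : ℤˣ) : ℤ)
      have hε : ε * ε = 1 := by
        simp only [ε]; rw [← Int.cast_mul, ← Units.val_mul, Int.units_mul_self]; simp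
      have hσ : σ ε = ε := by simp [ε]
      let d : Fin (n + 3) → F := fun m => if m = 0 then ε else 1
      obtain ⟨g, hg, hdet⟩ := exists_mono h.κ0 b hb (Equiv.addRight l) d
        (fun m => by
          simp only [d]; split_ifs
          · exact left_ne_zero_of_mul_eq_one hε
          · simp)
        (fun m => by simp only [d]; split_ifs <;> simp [hσ, hε])
      have hgQ : g ∈ monSub Φ b := by
        refine ⟨?_, l, d, fun m => by simp only [d]; split_ifs <;> simp [hε],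
          fun m => by simp [hg]⟩
        rw [mem_SO, hdet]
        simpa [d] using hε
      have e : x.1 (g.1 (b 0)) = g.1 (x.1 (b 0)) := by
        rw [← O_mul_apply, (hx g hgQ).eq, O_mul_apply]
      rw [hx1 0, map_smul, hg, map_smul, show Equiv.addRight l 0 = l from zero_add l, hx1 l] at e
      have e2 := congrArg (fun v => b.repr v l) e
      simp [d] at e2
      have : ε * (ε * b.repr (x.1 (b l)) l) = ε * (b.repr (x.1 (b 0)) 0 * ε) := by rw [e2]
      linear_combination this - (b.repr (x.1 (b l)) l - b.repr (x.1 (b 0)) 0) * hε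
    refine ⟨b.repr (x.1 (b 0)) 0, fun v => ?_⟩
    have : x.1.toLinearMap = b.repr (x.1 (b 0)) 0 • LinearMap.id := b.ext fun i => by
      simp only [LinearEquiv.coe_coe, LinearMap.smul_apply, LinearMap.id_apply]
      rw [← hshift i]; exact hx1 i
    exact LinearMap.congr_fun this v

theorem exists_two [FiniteDimensional F V] (hκ : Φ.κ = 0) (b : Basis (Fin 2) F V) (p q r s : F)
    (hdet : p * s - r * q = 1)
    (h : ∀ i j, Φ.B (![p • b 0 + q • b 1, r • b 0 + s • b 1] i)
      (![p • b 0 + q • b 1, r • b 0 + s • b 1] j) = Φ.B (b i) (b j)) :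
    ∃ g ∈ SO Φ, g.1 (b 0) = p • b 0 + q • b 1 ∧ g.1 (b 1) = r • b 0 + s • b 1 := by
  let f : V →ₗ[F] V := b.constr F ![p • b 0 + q • b 1, r • b 0 + s • b 1]
  have hf : ∀ i, f (b i) = ![p • b 0 + q • b 1, r • b 0 + s • b 1] i := fun i => by simp [f]
  have hd : LinearMap.det f = 1 := by
    rw [← LinearMap.det_toMatrix b, Matrix.det_fin_two]
    simp [LinearMap.toMatrix_apply, hf, hdet]
  have hu : IsUnit f := by rw [LinearMap.isUnit_iff_isUnit_det, hd]; exact isUnit_one
  let e : V ≃ₗ[F] V := LinearEquiv.ofInjectiveEndo f ((Module.End.isUnit_iff f).mp hu).1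
  refine ⟨⟨e, mem_O_of_basis hκ b e fun i j => ?_⟩, mem_SO.mpr hd, hf 0, hf 1⟩
  change Φ.B (f _) (f _) = _
  rw [hf, hf, h]

theorem scal_two (h2 : (2 : F) ≠ 0) (b : Basis (Fin 2) F V) {i j x : Φ.O} {a a' : F}
    (ha : a * a + a' * a' = -1)
    (hi0 : i.1 (b 0) = (0 : F) • b 0 + (1 : F) • b 1) (hi1 : i.1 (b 1) = (-1 : F) • b 0 + (0 : F) • b 1)
    (hj0 : j.1 (b 0) = a • b 0 + a' • b 1) (hj1 : j.1 (b 1) = a' • b 0 + (-a) • b 1)
    (hxi : Commute x i) (hxj : Commute x j) : Scal x := by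
  obtain ⟨p, q, e0⟩ : ∃ p q : F, x.1 (b 0) = p • b 0 + q • b 1 :=
    ⟨_, _, by conv_lhs => rw [← b.sum_repr (x.1 (b 0)), Fin.sum_univ_two]⟩
  have e1 : x.1 (b 1) = (-q) • b 0 + p • b 1 := by
    have : x.1 (i.1 (b 0)) = i.1 (x.1 (b 0)) := by rw [← O_mul_apply, hxi.eq, O_mul_apply]
    rw [e0, hi0] at this
    simp only [map_add, map_smul, hi0, hi1, zero_smul, zero_add, one_smul] at this
    rw [this]; module
  have e2 : x.1 (j.1 (b 0)) = j.1 (x.1 (b 0)) := by rw [← O_mul_apply, hxj.eq, O_mul_apply]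
  rw [e0, hj0] at e2
  simp only [map_add, map_smul, hj0, hj1, e0, e1] at e2
  have f0 := congrArg (fun v => b.repr v 0) e2
  have f1 := congrArg (fun v => b.repr v 1) e2
  simp at f0 f1
  have hq : q = 0 := by
    have : (2 : F) * q = 0 := by linear_combination (-2 * q) * ha * (-1) + a' * f0 - a * f1
    exact (mul_eq_zero.mp this).resolve_left h2
  refine ⟨p, fun v => ?_⟩
  have : x.1.toLinearMap = p • LinearMap.id := b.ext fun i => by
    fin_cases i <;> simp [e0, e1, hq]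
  exact LinearMap.congr_fun this v

theorem q8_pgroup {G : Type*} [Group G] {i j z : G} (hi : i * i = z) (hj : j * j = z)
    (hz : z * z = 1) (hij : j * i * j⁻¹ = i⁻¹) : IsPGroup 2 ↥(zpowers i ⊔ zpowers j) := by
  haveI : Fact (Nat.Prime 2) := ⟨Nat.prime_two⟩
  refine IsPGroup.to_sup_of_normal_left' (isPGroup_zpowers (k := 2) ?_)
    (isPGroup_zpowers (k := 2) ?_) ?_
  · rw [show 2 ^ 2 = 2 + 2 from rfl, pow_add, pow_two, hi, hz]
  · rw [show 2 ^ 2 = 2 + 2 from rfl, pow_add, pow_two, hj, hz]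
  · rw [zpowers_le, mem_NN, cj_zpowers, hij, zpowers_inv]

theorem quat_two (b : Basis (Fin 2) F V) {i j : Φ.O} {a a' : F}
    (ha : a * a + a' * a' = -1)
    (hi0 : i.1 (b 0) = (0 : F) • b 0 + (1 : F) • b 1) (hi1 : i.1 (b 1) = (-1 : F) • b 0 + (0 : F) • b 1)
    (hj0 : j.1 (b 0) = a • b 0 + a' • b 1) (hj1 : j.1 (b 1) = a' • b 0 + (-a) • b 1) :
    i * i = ng Φ ∧ j * j = ng Φ ∧ j * i * j⁻¹ = i⁻¹ := by
  have h1 : i * i = ng Φ := O_ext_basis b fun m => by
    fin_cases m <;> simp [hi0, hi1]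
  have h2 : j * j = ng Φ := O_ext_basis b fun m => by
    fin_cases m
    · simp only [O_mul_apply, Fin.zero_eta, hj0, hj1, map_add, map_smul, ng_apply]
      linear_combination (norm := module) ha • b 0
    · simp only [O_mul_apply, Fin.mk_one, hj0, hj1, map_add, map_smul, ng_apply]
      linear_combination (norm := module) ha • b 1
  refine ⟨h1, h2, ?_⟩
  have h3 : i * j * i = j := O_ext_basis b fun m => by
    fin_cases m
    · simp only [O_mul_apply, Fin.zero_eta, hj0, hj1, hi0, hi1, map_add, map_smul]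
      module
    · simp only [O_mul_apply, Fin.mk_one, hj0, hj1, hi0, hi1, map_add, map_smul]
      module
  rw [mul_inv_eq_iff_eq_mul, eq_inv_mul_iff_mul_eq, ← mul_assoc, h3]

/-- the field condition providing a quaternion subgroup -/
def QF (c : F) (σ : F →+* F) : Prop :=
  ∃ a a' : F, a * a + a' * a' = -1 ∧ c * (σ a + a) = 0 ∧ c * (σ a' + a') = 0

theorem cent_two [Finite F] [FiniteDimensional F V] (h : Cl c Φ) (h2 : (2 : F) ≠ 0) (hq : QF c σ)
    (hV : finrank F V = 2) :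
    ∃ Q : Subgroup Φ.O, Q ≤ SO Φ ∧ IsPGroup 2 Q ∧ ∀ x : Φ.O, (∀ g ∈ Q, Commute x g) → Scal x := by
  obtain ⟨b, hb⟩ := h.basis hV
  obtain ⟨a, a', ha, h3, h4⟩ := hq
  obtain ⟨i, hi, hi0, hi1⟩ := exists_two h.κ0 b 0 1 (-1) 0 (by ring) (fun i j => by
    fin_cases i <;> fin_cases j <;> simp [hb])
  obtain ⟨j, hj, hj0, hj1⟩ := exists_two h.κ0 b a a' a' (-a) (by linear_combination -ha)
    (fun i j => by
      fin_cases i <;> fin_cases j <;> simp [hb]
      · linear_combination a * h3 + a' * h4 - c * ha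
      · linear_combination a' * h3 - a * h4
      · linear_combination a * h4 - a' * h3
      · linear_combination a * h3 + a' * h4 - c * ha)
  obtain ⟨e1, e2, e3⟩ := quat_two b ha hi0 hi1 hj0 hj1
  refine ⟨zpowers i ⊔ zpowers j, sup_le (zpowers_le.mpr hi) (zpowers_le.mpr hj),
    q8_pgroup e1 e2 ng_mul_ng e3, fun x hx => ?_⟩
  exact scal_two h2 b ha hi0 hi1 hj0 hj1 (hx _ (mem_sup_left (mem_zpowers _)))
    (hx _ (mem_sup_right (mem_zpowers _)))

theorem finite_O [Finite F] [FiniteDimensional F V] : Finite Φ.O := by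
  haveI : Finite V := Module.finite_of_finite F
  haveI : Finite (V ≃ₗ[F] V) := Finite.of_injective _ (DFunLike.coe_injective (F := V ≃ₗ[F] V))
  infer_instance

theorem cent_scal [Finite F] [FiniteDimensional F V] (h : Cl c Φ) (h2 : (2 : F) ≠ 0) (hq : QF c σ)
    {k : ℕ} (hV : finrank F V = 2 ^ k) {L S : Subgroup Φ.O} (hL : SO Φ ≤ L)
    (hS : IsSylowIn 2 S L) (x : Φ.O) (hx : ∀ g ∈ S, g ∈ SO Φ → Commute x g) : Scal x := by
  haveI : Fact (Nat.Prime 2) := ⟨Nat.prime_two⟩
  haveI := finite_O (Φ := Φ)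
  obtain ⟨Q, hQ, hQ2, hc⟩ : ∃ Q : Subgroup Φ.O, Q ≤ SO Φ ∧ IsPGroup 2 Q ∧
      ∀ x : Φ.O, (∀ g ∈ Q, Commute x g) → Scal x := by
    rcases k with _ | _ | k
    · exact ⟨⊥, bot_le, IsPGroup.of_bot, fun x _ => scal_of_finrank_le_one (by simp [hV]) x⟩
    · exact cent_two h h2 hq hV
    · exact cent_big h h2 hV
  obtain ⟨g, -, hg⟩ := hS.exists_cj_le hQ2 (hQ.trans hL)
  refine Scal.of_conj (k := g⁻¹) (hc _ fun y hy => ?_)
  have := hx _ (hg (conj_mem_cj hy)) ((SO_normal (Φ := Φ)).conj_mem _ (hQ hy) g)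
  have e := this.eq
  change g⁻¹ * x * g⁻¹⁻¹ * y = y * (g⁻¹ * x * g⁻¹⁻¹)
  calc _ = g⁻¹ * (x * (g * y * g⁻¹)) * g := by group
    _ = _ := by rw [e]; group

end

end H9.Pn
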