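import Cfsg.Agent.H9.Pn3

/-! Sylow 2-subgroups of linear and unitary groups of 2-power dimension are self-normalizing
modulo scalars. -/

set_option autoImplicit false

namespace H9.Pn

open Module H23 H23.Form H22 H10 Subgroup

universe u

theorem sylowIn_comap {G G' : Type*} [Group G] [Group G'] {p : ℕ} {f : G →* G'}
    (hf : Function.Injective f) {T M : Subgroup G'} (h : IsSylowIn p T M) (hM : M ≤ f.range) :
    IsSylowIn p (T.comap f) (M.comap f) := by
  refine ⟨comap_mono h.le, h.isPGroup.comap_of_injective f hf, fun Q hQ h1 h2 => ?_⟩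
  have h3 := h.eq_of_le (hQ.map f) (by
    intro t ht
    obtain ⟨y, rfl⟩ := hM (h.le ht)
    exact mem_map_of_mem f (h1 ht)) (map_le_iff_le_comap.mpr h2)
  rw [← h3, comap_map_eq_self_of_injective hf]

theorem sylowIn_prod {A B : Type*} [Group A] [Group B] {p : ℕ} [Fact p.Prime]
    {R : Subgroup (A × B)} (h : IsSylowIn p R ⊤) {a : A} {b : B} (hab : (a, b) ∈ R) :
    (a, (1 : B)) ∈ R := by
  have hp : IsPGroup p ((R.map (MonoidHom.fst A B)).prod (R.map (MonoidHom.snd A B))) := by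
    rintro ⟨⟨x, y⟩, hx, hy⟩
    obtain ⟨k, hk⟩ := h.isPGroup.map (MonoidHom.fst A B) ⟨x, hx⟩
    obtain ⟨l, hl⟩ := h.isPGroup.map (MonoidHom.snd A B) ⟨y, hy⟩
    have h1 : x ^ p ^ k = 1 := congrArg Subtype.val hk
    have h2 : y ^ p ^ l = 1 := congrArg Subtype.val hl
    refine ⟨k + l, Subtype.ext (Prod.ext ?_ ?_)⟩
    · change x ^ p ^ (k + l) = 1
      rw [pow_add, pow_mul, h1, one_pow]
    · change y ^ p ^ (k + l) = 1
      rw [pow_add, mul_comm, pow_mul, h2, one_pow]
  rw [← h.eq_of_le hp (fun z hz => ⟨mem_map_of_mem _ hz, mem_map_of_mem _ hz⟩) le_top]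
  exact ⟨mem_map_of_mem (MonoidHom.fst A B) hab, one_mem _⟩

variable {F : Type*} [Field F] {σ : F →+* F} {c : F}

section
variable {V : Type u} [AddCommGroup V] [Module F V] {Φ : Form σ V}

theorem Dec.ds_swap {U W : Submodule F V} (d : Dec Φ U W) (a : (Φ.restrict U).O)
    (b : (Φ.restrict W).O) : d.symm.ds (b, a) = d.ds (a, b) :=
  d.ext (fun u hu => (d.symm.ds_right _ ⟨u, hu⟩).trans (d.ds_left (a, b) ⟨u, hu⟩).symm)
    (fun w hw => (d.symm.ds_left _ ⟨w, hw⟩).trans (d.ds_right (a, b) ⟨w, hw⟩).symm)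

theorem Dec.range_symm {U W : Submodule F V} (d : Dec Φ U W) : d.symm.ds.range = d.ds.range := by
  ext g
  constructor
  · rintro ⟨⟨b, a⟩, rfl⟩; exact ⟨(a, b), (d.ds_swap a b).symm⟩
  · rintro ⟨⟨a, b⟩, rfl⟩; exact ⟨(b, a), d.ds_swap a b⟩

theorem range_ev [FiniteDimensional F V] (h2 : (2 : F) ≠ 0) {u : Φ.O} (hu : u * u = 1) :
    (dec_ev h2 hu).ds.range = centralizer {u} := by
  ext g
  rw [mem_centralizer_singleton_iff]
  constructor
  · rintro ⟨k, rfl⟩
    refine (dec_ev h2 hu).ext (fun v hv => ?_) (fun v hv => ?_)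
    · rw [O_mul_apply, O_mul_apply, mem_ev.mp hv, map_smul,
        (dec_ev h2 hu).ds_left k ⟨v, hv⟩, mem_ev.mp (Subtype.prop _)]
    · rw [O_mul_apply, O_mul_apply, mem_ev.mp hv, map_smul,
        (dec_ev h2 hu).ds_right k ⟨v, hv⟩, mem_ev.mp (Subtype.prop _)]
  · intro h
    exact (dec_ev h2 hu).exists_ds g (fun v hv => ev_of_commute h hv)
      (fun v hv => ev_of_commute h hv)

theorem cent_ng_mul (u : Φ.O) : centralizer {ng Φ * u} = centralizer {u} := by
  ext g
  rw [mem_centralizer_singleton_iff, mem_centralizer_singleton_iff, ← mul_assoc,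
    ← (scal_ng.commute g).eq, mul_assoc, mul_assoc, mul_right_inj]

theorem syl_cent [Finite Φ.O] {L S : Subgroup Φ.O} (hS : IsSylowIn 2 S L) {u : Φ.O}
    (hu : ∀ s ∈ S, s * u * s⁻¹ = u ∨ s * u * s⁻¹ = ng Φ * u) :
    IsSylowIn 2 (S ⊓ centralizer {u}) (L ⊓ centralizer {u}) := by
  haveI : Fact (Nat.Prime 2) := ⟨Nat.prime_two⟩
  have h1 : S ≤ normalizer ((centralizer {u} : Subgroup Φ.O) : Set Φ.O) := fun s hs => by
    rw [mem_NN, cj_centralizer_singleton]
    rcases hu s hs with h | h <;> rw [h]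
    exact cent_ng_mul u
  have h2 := (hS.of_le (le_inf hS.le h1) inf_le_left).inf_normal' inf_le_right
  rwa [inf_assoc, inf_eq_right.mpr le_normalizer] at h2

variable [FiniteDimensional F V] {U W : Submodule F V} (d : Dec Φ U W) {L S : Subgroup Φ.O}

theorem Dec.syl (hC : IsSylowIn 2 (S ⊓ d.ds.range) (L ⊓ d.ds.range)) :
    IsSylowIn 2 (S.comap d.ds) (L.comap d.ds) := by
  have := sylowIn_comap d.ds_inj hC inf_le_right
  have e : d.ds.range.comap d.ds = ⊤ := eq_top_iff.mpr fun g _ => ⟨g, rfl⟩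
  rwa [comap_inf, comap_inf, e, inf_top_eq, inf_top_eq] at this

theorem Dec.side_syl [Finite F] (hL : SO Φ ≤ L)
    (hC : IsSylowIn 2 (S ⊓ d.ds.range) (L ⊓ d.ds.range)) :
    ∃ S₁, IsSylowIn 2 S₁ (SO (Φ.restrict U)) ∧ ∀ p ∈ S₁, d.ds (p, 1) ∈ S := by
  haveI : Fact (Nat.Prime 2) := ⟨Nat.prime_two⟩
  haveI := finite_O (Φ := Φ.restrict U)
  haveI := finite_O (Φ := Φ.restrict W)
  have h1 := (d.syl hC).inf_normal (N := (SO (Φ.restrict U)).prod ⊥) (by
    rintro ⟨a, b⟩ ⟨ha, hb⟩
    obtain rfl : b = 1 := hb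
    refine hL (mem_SO.mpr ?_)
    rw [d.det_ds, mem_SO.mp ha]
    simp) (le_NN_of_normal _ _)
  have h2 := sylowIn_comap (f := MonoidHom.inl _ _) (fun a b h => congrArg Prod.fst h) h1 (by
    rintro ⟨a, b⟩ ⟨-, hb⟩
    obtain rfl : b = 1 := hb
    exact ⟨a, rfl⟩)
  have e : ((SO (Φ.restrict U)).prod (⊥ : Subgroup (Φ.restrict W).O)).comap (MonoidHom.inl _ _) =
      SO (Φ.restrict U) := by ext a; simp [mem_prod]
  rw [e] at h2
  exact ⟨_, h2, fun p hp => hp.1⟩

theorem Dec.side_scal [Finite F] (h : Cl c Φ) (hW : 0 < finrank F W) (hL : SO Φ ≤ L)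
    (hC : IsSylowIn 2 (S ⊓ d.ds.range) (L ⊓ d.ds.range))
    (ih : ∀ P : Subgroup (Φ.restrict U).O, IsSylowIn 2 P ⊤ →
      ∀ y ∈ normalizer (P : Set (Φ.restrict U).O), Odd (orderOf y) → Scal y)
    {x : Φ.O} (hxC : x ∈ d.ds.range) (hx : x ∈ normalizer (S : Set Φ.O)) (ho : Odd (orderOf x)) :
    ∃ a : F, ∀ v ∈ U, x.1 v = a • v := by
  haveI : Fact (Nat.Prime 2) := ⟨Nat.prime_two⟩
  haveI := finite_O (Φ := Φ.restrict U)
  haveI := finite_O (Φ := Φ.restrict W)
  obtain ⟨y, rfl⟩ := hxC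
  have h1 := (d.syl hC).map (MonoidHom.fst _ _)
  have h2 : (L.comap d.ds).map (MonoidHom.fst _ _) = ⊤ := by
    rw [eq_top_iff]
    intro a _
    have ha := (h.restrict d).det_norm a⁻¹
    obtain ⟨b, hb⟩ := (h.restrict d.symm).exists_det hW (by
      rw [← coe_oDet]; exact Units.ne_zero _) ha
    refine ⟨(a, b), hL (mem_SO.mpr ?_), rfl⟩
    rw [d.det_ds, hb, ← coe_oDet, ← coe_oDet, ← Units.val_mul, ← map_mul, mul_inv_cancel, map_one,
      Units.val_one]
  rw [h2] at h1
  obtain ⟨a, ha⟩ := ih _ h1 y.1 (by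
    refine mem_NN_of_conj_mem ?_
    rintro _ ⟨z, hz, rfl⟩
    refine ⟨y * z * y⁻¹, ?_, rfl⟩
    change d.ds _ ∈ S
    rw [map_mul, map_mul, map_inv]
    exact conj_mem_of_mem_NN hx hz) (by
    refine Odd.of_dvd_nat ho ?_
    rw [orderOf_injective _ d.ds_inj]
    exact orderOf_map_dvd (MonoidHom.fst _ _) y)
  exact ⟨a, fun v hv => by rw [d.ds_left y ⟨v, hv⟩, ha]; rfl⟩

theorem Dec.side_comm [Finite F] (h : Cl c Φ) (h2 : (2 : F) ≠ 0) (hq : QF c σ) {k : ℕ}
    (hU : finrank F U = 2 ^ k) (hW : 0 < finrank F W) (hL : SO Φ ≤ L)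
    (hC : IsSylowIn 2 (S ⊓ d.ds.range) (L ⊓ d.ds.range)) {a : (Φ.restrict U).O}
    {b : (Φ.restrict W).O}
    (hy : ∀ s ∈ S, s * d.ds (a, b) * s⁻¹ = d.ds (a, b) ∨
      s * d.ds (a, b) * s⁻¹ = ng Φ * d.ds (a, b)) : Scal a := by
  obtain ⟨S₁, hS₁, hm⟩ := d.side_syl hL hC
  refine cent_scal (h.restrict d) h2 hq hU le_rfl hS₁ a fun p hp _ => ?_
  rcases hy _ (hm p hp) with e | e
  · rw [← map_inv, ← map_mul, ← map_mul] at e
    have := congrArg Prod.fst (d.ds_inj e)
    exact (mul_inv_eq_iff_eq_mul.mp this).symm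
  · exfalso
    haveI := Module.nontrivial_of_finrank_pos hW
    have e2 : ng Φ = d.ds (ng _, ng _) :=
      d.ext (fun v hv => by rw [d.ds_left _ ⟨v, hv⟩]; simp)
        (fun v hv => by rw [d.ds_right _ ⟨v, hv⟩]; simp)
    rw [e2, ← map_inv, ← map_mul, ← map_mul, ← map_mul] at e
    have := congrArg Prod.snd (d.ds_inj e)
    simp only [Prod.snd_mul, Prod.snd_inv, inv_one, one_mul, mul_one, right_eq_mul] at this
    exact ng_ne_one h2 this

theorem Dec.side_anti {y : Φ.O} (hy2 : y * y = 1) (hyU : ∀ v ∈ U, y.1 v ∈ W)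
    (hy : ∀ s ∈ S, s * y * s⁻¹ = y ∨ s * y * s⁻¹ = ng Φ * y) {p : (Φ.restrict U).O}
    (hp : d.ds (p, 1) ∈ S) : p = 1 ∨ p = ng _ := by
  have key : ∀ v : U, (d.ds (p, 1) * y * (d.ds (p, 1))⁻¹).1 (y.1 v) = p.1 v := fun v => by
    rw [← map_inv, O_mul_apply, O_mul_apply, d.ds_right _ ⟨_, hyU v v.2⟩]
    simp only [Prod.snd_inv, inv_one, O_one_apply]
    rw [← O_mul_apply _ y, hy2, O_one_apply, d.ds_left]
  have hyy : ∀ v, y.1 (y.1 v) = v := fun v => by rw [← O_mul_apply, hy2, O_one_apply]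
  refine (hy _ hp).imp (fun e => O_ext _ fun v => Subtype.ext ?_)
    (fun e => O_ext _ fun v => Subtype.ext ?_)
  · rw [← key, e, hyy]; rfl
  · rw [← key, e, O_mul_apply, hyy]; simp

end

theorem main_lu [Finite F] (h2 : (2 : F) ≠ 0) (hq : QF c σ) (k : ℕ) :
    ∀ (V : Type u) [AddCommGroup V] [Module F V] [FiniteDimensional F V] (Φ : Form σ V),
      Cl c Φ → finrank F V = 2 ^ k → ∀ L S : Subgroup Φ.O, SO Φ ≤ L → (L = ⊤ ∨ 2 ≤ k) →
      IsSylowIn 2 S L → ∀ x ∈ normalizer (S : Set Φ.O), Odd (orderOf x) → Scal x := by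
  haveI : Fact (Nat.Prime 2) := ⟨Nat.prime_two⟩
  induction k with
  | zero => exact fun V _ _ _ Φ _ hV _ _ _ _ _ x _ _ => scal_of_finrank_le_one (by simp [hV]) x
  | succ k ih =>
  intro V _ _ _ Φ h hV L S hL hk hS x hx ho
  haveI := finite_O (Φ := Φ)
  have hV2 : 2 ≤ finrank F V := by
    rw [hV, pow_succ]; have := Nat.two_pow_pos k; omega
  haveI := Module.nontrivial_of_finrank_pos (R := F) (M := V) (by omega)
  have hcs := cent_scal h h2 hq hV hL hS
  have hngL : ng Φ ∈ SO Φ := by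
    rw [mem_SO, ng, det_scal, hV]
    exact Even.neg_one_pow (by rw [pow_succ]; exact even_two.mul_left _)
  have hng : ng Φ ∈ S := hS.le_of_NN (isPGroup_zpowers (k := 1) (by rw [pow_one, pow_two, ng_mul_ng]))
    (zpowers_le.mpr (hL hngL)) (fun s _ => by
      rw [mem_NN, cj_zpowers, ← (scal_ng.commute s).eq, mul_inv_cancel_right]) (mem_zpowers _)
  obtain ⟨t, ht, ht2, hts⟩ : ∃ t ∈ S, t * t = 1 ∧ ¬ Scal t := by
    obtain ⟨t, h1, h3, h4⟩ := h.exists_inv h2 hV2
    have htL : t ∈ L := by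
      rcases hk with rfl | hk
      · trivial
      · refine hL (h4 ?_)
        have : 2 ^ 2 ≤ 2 ^ (k + 1) := Nat.pow_le_pow_right (by norm_num) hk
        omega
    obtain ⟨g, -, hg⟩ := hS.exists_cj_le (isPGroup_zpowers (x := t) (k := 1)
      (by rw [pow_one, pow_two, h1])) (zpowers_le.mpr htL)
    refine ⟨g * t * g⁻¹, hg (conj_mem_cj (mem_zpowers _)), ?_, fun h => h3 h.of_conj⟩
    rw [conj_mul, h1, mul_one, mul_inv_cancel]
  rcases four_or_cent hS.isPGroup hng ng_mul_ng (ng_ne_one h2)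
    (fun y _ hy2 hy1 hc => ((hcs y fun g hg _ => hc g hg).eq_of_sq hy2).resolve_left hy1)
    ht ht2 (fun hc => hts (hcs t fun g hg _ => hc g hg)) (fun s _ => scal_ng.commute s) ho hx with
    hc | ⟨u, huS, hu2, hu1, hun, hu⟩
  · exact hcs x fun g hg _ => hc g hg
  have hus : ¬ Scal u := fun h => (h.eq_of_sq hu2).elim hu1 hun
  have d := dec_ev h2 hu2
  have hr : d.ds.range = centralizer {u} := range_ev h2 hu2
  have hC : IsSylowIn 2 (S ⊓ d.ds.range) (L ⊓ d.ds.range) := hr ▸ syl_cent hS hu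
  have hC' : IsSylowIn 2 (S ⊓ d.symm.ds.range) (L ⊓ d.symm.ds.range) := d.range_symm ▸ hC
  obtain ⟨s, hs, hsu⟩ : ∃ s ∈ S, s * u * s⁻¹ = ng Φ * u := by
    by_contra hn
    push Not at hn
    exact hus (hcs u fun g hg _ =>
      (mul_inv_eq_iff_eq_mul.mp ((hu g hg).resolve_right (hn g hg))).symm)
  have hdim : finrank F (ev u 1) = 2 ^ k ∧ finrank F (ev u (-1)) = 2 ^ k := by
    have a1 : finrank F (ev u 1) ≤ finrank F (ev u (-1)) :=
      LinearMap.finrank_le_finrank_of_injective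
        (f := s.1.toLinearMap.restrict (fun v hv => ev_of_anti hsu hv))
        (fun x y e => Subtype.ext (s.1.injective (congrArg Subtype.val e)))
    have a2 : finrank F (ev u (-1)) ≤ finrank F (ev u 1) :=
      LinearMap.finrank_le_finrank_of_injective
        (f := s.1.toLinearMap.restrict (fun v hv => by simpa using ev_of_anti hsu hv))
        (fun x y e => Subtype.ext (s.1.injective (congrArg Subtype.val e)))
    have a3 := d.finrank_add
    rw [hV, pow_succ] at a3
    omega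
  have hp1 : 0 < finrank F (ev u 1) := by rw [hdim.1]; positivity
  have hp2 : 0 < finrank F (ev u (-1)) := by rw [hdim.2]; positivity
  -- uniqueness of the normal four-group
  have huniq : ∀ y ∈ S, y * y = 1 → ¬ Scal y →
      (∀ s ∈ S, s * y * s⁻¹ = y ∨ s * y * s⁻¹ = ng Φ * y) → y = u ∨ y = ng Φ * u := by
    intro y hyS hy2 hys hy
    rcases hu y hyS with e | e
    · obtain ⟨⟨a, b⟩, rfl⟩ : y ∈ d.ds.range := by
        rw [hr, mem_centralizer_singleton_iff]; exact mul_inv_eq_iff_eq_mul.mp e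
      have ha := d.side_comm h h2 hq hdim.1 hp2 hL hC hy
      have hb := d.symm.side_comm h h2 hq hdim.2 hp1 hL hC' (a := b) (b := a)
        (by rwa [d.ds_swap])
      rw [← map_mul, map_eq_one_iff _ d.ds_inj] at hy2
      rcases ha.eq_of_sq (congrArg Prod.fst hy2) with rfl | rfl <;>
        rcases hb.eq_of_sq (congrArg Prod.snd hy2) with rfl | rfl
      · exact absurd ⟨1, fun v => by rw [Prod.mk_one_one, map_one]; simp⟩ hys
      · left
        exact d.ext (fun v hv => by rw [d.ds_left _ ⟨v, hv⟩, mem_ev.mp hv]; simp)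
          (fun v hv => by rw [d.ds_right _ ⟨v, hv⟩, mem_ev.mp hv]; simp)
      · right
        exact d.ext (fun v hv => by rw [d.ds_left _ ⟨v, hv⟩, O_mul_apply, mem_ev.mp hv]; simp)
          (fun v hv => by rw [d.ds_right _ ⟨v, hv⟩, O_mul_apply, mem_ev.mp hv]; simp)
      · refine absurd ?_ hys
        rw [show d.ds (ng _, ng _) = ng Φ from
          d.ext (fun v hv => by rw [d.ds_left _ ⟨v, hv⟩]; simp)
            (fun v hv => by rw [d.ds_right _ ⟨v, hv⟩]; simp)]
        exact scal_ng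
    · exfalso
      have A1 := fun p => d.side_anti (S := S) hy2 (fun v hv => ev_of_anti e hv) hy (p := p)
      have A2 := fun p => d.symm.side_anti (S := S) hy2
        (fun v hv => by simpa using ev_of_anti e hv) hy (p := p)
      rcases k with _ | k
      · obtain rfl : L = ⊤ := hk.resolve_right (by omega)
        have hR := d.syl hC
        have hR' := d.symm.syl hC'
        rw [comap_top] at hR hR'
        have B : ∀ g ∈ S, g ∈ SO Φ → g * u * g⁻¹ = u → Scal g := by
          intro g hg hgo hgu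
          obtain ⟨⟨a, b⟩, rfl⟩ : g ∈ d.ds.range := by
            rw [hr, mem_centralizer_singleton_iff]; exact mul_inv_eq_iff_eq_mul.mp hgu
          have ha := A1 a (sylowIn_prod hR hg)
          have hb := A2 b (sylowIn_prod hR' (b := a) (by rwa [mem_comap, d.ds_swap]))
          rw [mem_SO, d.det_ds] at hgo
          rcases ha with rfl | rfl <;> rcases hb with rfl | rfl
          · exact ⟨1, fun v => by rw [Prod.mk_one_one, map_one]; simp⟩
          · simp only [ng, det_scal, hdim.2] at hgo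
            exact absurd (by simp at hgo; linear_combination -hgo) h2
          · simp only [ng, det_scal, hdim.1] at hgo
            exact absurd (by simp at hgo; linear_combination -hgo) h2
          · rw [show d.ds (ng _, ng _) = ng Φ from
              d.ext (fun v hv => by rw [d.ds_left _ ⟨v, hv⟩]; simp)
                (fun v hv => by rw [d.ds_right _ ⟨v, hv⟩]; simp)]
            exact scal_ng
        apply hus
        refine hcs u fun g hg hgo => ?_
        rcases hu g hg with e1 | e1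
        · exact (mul_inv_eq_iff_eq_mul.mp e1).symm
        · refine ((hcs g fun g' hg' hgo' => ?_).commute u).symm
          rcases hu g' hg' with e2 | e2
          · exact ((B g' hg' hgo' e2).commute g).symm
          · have := (B (g⁻¹ * g') (mul_mem (inv_mem hg) hg') (mul_mem (inv_mem hgo) hgo') (by
              calc _ = g⁻¹ * (g' * u * g'⁻¹) * g := by group
                _ = u := by rw [e2, ← e1]; group)).commute g
            have e3 := (Commute.refl g).mul_right this.symm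
            rwa [mul_inv_cancel_left] at e3
      · obtain ⟨S₁, hS₁, hm⟩ := d.side_syl hL hC
        obtain ⟨t, -, h3, -⟩ := (h.restrict d).exists_inv h2 (by
          rw [hdim.1, pow_succ]; have := Nat.two_pow_pos k; omega)
        refine h3 (cent_scal (h.restrict d) h2 hq hdim.1 le_rfl hS₁ t fun p hp _ => ?_)
        rcases A1 p (hm p hp) with rfl | rfl
        · exact Commute.one_right _
        · exact (scal_ng.commute _).symm
  have hxu : Commute x u := by
    rcases huniq (x * u * x⁻¹) (conj_mem_of_mem_NN hx huS) (by rw [conj_mul, hu2]; simp)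
      (fun h => hus h.of_conj) (fun s hs => by
        have := hu _ (conj_mem_of_mem_NN' hx hs)
        refine this.imp (fun e => ?_) (fun e => ?_)
        · calc _ = x * (x⁻¹ * s * x * u * (x⁻¹ * s * x)⁻¹) * x⁻¹ := by group
            _ = _ := by rw [e]
        · calc _ = x * (x⁻¹ * s * x * u * (x⁻¹ * s * x)⁻¹) * x⁻¹ := by group
            _ = _ := by rw [e, ← mul_assoc, ← (scal_ng.commute x).eq]; group) with e | e
    · exact mul_inv_eq_iff_eq_mul.mp e
    · refine commute_of_sq_odd ho (mul_inv_eq_iff_eq_mul.mp ?_)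
      calc _ = x * (x * u * x⁻¹) * x⁻¹ := by rw [pow_two]; group
        _ = ng Φ * (x * u * x⁻¹) := by
          conv_lhs => rw [e, ← mul_assoc, ← (scal_ng.commute x).eq]
          group
        _ = u := by rw [e, ← mul_assoc, ng_mul_ng, one_mul]
  have hxC : x ∈ d.ds.range := by rw [hr, mem_centralizer_singleton_iff]; exact hxu
  obtain ⟨a, ha⟩ := d.side_scal h hp2 hL hC
    (fun P hP => ih _ _ (h.restrict d) hdim.1 ⊤ P le_top (Or.inl rfl) hP) hxC hx ho
  obtain ⟨b, hb⟩ := d.symm.side_scal h hp1 hL hC'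
    (fun P hP => ih _ _ (h.restrict d.symm) hdim.2 ⊤ P le_top (Or.inl rfl) hP)
    (by rwa [d.range_symm]) hx ho
  have hcomm : ∀ y : Φ.O, Commute y u → Commute y x := fun y hy =>
    d.ext (fun v hv => by rw [O_mul_apply, O_mul_apply, ha v hv, ha _ (ev_of_commute hy hv), map_smul])
      (fun v hv => by rw [O_mul_apply, O_mul_apply, hb v hv, hb _ (ev_of_commute hy hv), map_smul])
  have h1 : Commute (s * x * s⁻¹) x := hcomm _ (by
    have e1 : Commute x (s⁻¹ * u * s) := by
      have : s⁻¹ * u * s = ng Φ * u := by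
        calc _ = s⁻¹ * (ng Φ * (s * u * s⁻¹)) * s := by rw [hsu, ← mul_assoc (ng Φ), ng_mul_ng, one_mul]
          _ = _ := by rw [← mul_assoc, ← (scal_ng.commute s⁻¹).eq]; group
      rw [this]; exact (scal_ng.commute x).symm.mul_right hxu
    change s * x * s⁻¹ * u = u * (s * x * s⁻¹)
    calc _ = s * (x * (s⁻¹ * u * s)) * s⁻¹ := by group
      _ = _ := by rw [e1.eq]; group)
  have h3 : s * x * s⁻¹ * x⁻¹ = 1 := by
    refine eq_one_of_odd_of_mem ?_ hS.isPGroup ?_
    · refine Odd.of_dvd_nat (ho.mul ho) ?_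
      refine (h1.inv_right.orderOf_mul_dvd_mul_orderOf).trans ?_
      rw [orderOf_inv, ← MulAut.conj_apply, MulEquiv.orderOf_eq]
    · rw [mul_assoc, mul_assoc, ← mul_assoc x]
      exact mul_mem hs (conj_mem_of_mem_NN hx (inv_mem hs))
  have hab : a = b := by
    haveI := Module.nontrivial_of_finrank_pos hp1
    obtain ⟨v, hv⟩ := exists_ne (0 : ev u 1)
    have e : s * x = x * s := by
      rw [mul_inv_eq_one, mul_inv_eq_iff_eq_mul] at h3; exact h3
    have e2 : s.1 (x.1 v) = x.1 (s.1 v) := by rw [← O_mul_apply, e, O_mul_apply]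
    rw [ha v v.2, hb _ (ev_of_anti hsu v.2), map_smul, ← sub_eq_zero, ← sub_smul] at e2
    refine sub_eq_zero.mp ((smul_eq_zero.mp e2).resolve_right fun h0 => hv (Subtype.ext ?_))
    exact s.1.map_eq_zero_iff.mp h0
  refine ⟨a, fun v => ?_⟩
  obtain ⟨v1, v2, rfl⟩ := d.exists_add v
  rw [map_add, ha _ v1.2, hb _ v2.2, hab, smul_add]

end H9.Pn
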