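import Cfsg.Agent.H9.Pn1
import Cfsg.Agent.H1.Solvable
import Cfsg.Agent.H6.Q8
import Cfsg.Agent.H19.BS3
import Cfsg.Agent.S0205
import Cfsg.Agent.H22.GL2

/-! Overgroups of Sylow 2-subgroups in `SL₂(q)`, `q` odd. -/

set_option autoImplicit false

namespace H9.Pn

open Subgroup H10 Cfsg

variable {G : Type*} [Group G]

theorem exists_comm_of_odd [Finite G] {O K : Subgroup G} (hOK : O ≤ K)
    (hK : K ≤ normalizer (O : Set G)) (ho : Odd (Nat.card O)) (hb : O ≠ ⊥) :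
    ∃ A : Subgroup G, A ≤ O ∧ A ≠ ⊥ ∧ K ≤ normalizer (A : Set G) ∧
      ∀ a ∈ A, ∀ b ∈ A, Commute a b := by
  haveI : (O.subgroupOf K).Normal := (normal_subgroupOf_iff_le_normalizer hOK).mpr hK
  have hs : Group.IsSolvable (O.subgroupOf K) :=
    Cfsg.Agent.S0205.result (by rwa [Nat.card_congr (subgroupOfEquivOfLe hOK).toEquiv])
  obtain ⟨M, -, hM, hM1, hMO, -, hc, -⟩ := H1.exists_minimal_normal_elementary _ hs (by
    rw [Ne, subgroupOf_eq_bot, disjoint_iff, inf_eq_left.mpr hOK]; exact hb)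
  refine ⟨M.map K.subtype, ?_, ?_, ?_, ?_⟩
  · rintro _ ⟨m, hm, rfl⟩; exact hMO hm
  · rwa [Ne, map_eq_bot_iff_of_injective _ K.subtype_injective]
  · rw [le_NN_iff]
    rintro g hg _ ⟨n, hn, rfl⟩
    exact ⟨_, hM.conj_mem n hn ⟨g, hg⟩, rfl⟩
  · rintro _ ⟨a, ha, rfl⟩ _ ⟨b, hb, rfl⟩
    exact congrArg (fun x : M => ((x : K) : G)) (hc.is_comm.comm ⟨a, ha⟩ ⟨b, hb⟩)

/-- abstract properties of `SL₂(q)`, `q` odd -/
structure S2 (G : Type*) [Group G] (z : G) : Prop where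
  inv : ∀ x : G, x * x = 1 → x = 1 ∨ x = z
  zc : ∀ x, Commute z x
  z2 : z * z = 1
  ca : ∀ a : G, a * a ≠ 1 → ∀ x y, Commute a x → Commute a y → Commute x y

namespace S2

variable {z : G} (h : S2 G z) [Finite G]
include h

theorem cent {Q : Subgroup G} (hQ : ¬ ∀ a ∈ Q, ∀ b ∈ Q, Commute a b) {x : G}
    (ho : Odd (orderOf x)) (hc : ∀ s ∈ Q, Commute x s) : x = 1 := by
  by_cases h1 : x * x = 1
  · exact eq_one_of_odd_of_two ho (k := 1) (by rw [pow_one, pow_two, h1])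
  · exact absurd (fun a ha b hb => h.ca x h1 a b (hc a ha) (hc b hb)) hQ

theorem q8_or {Q : Subgroup G} (hQ2 : IsPGroup 2 Q) (hQ : ¬ ∀ a ∈ Q, ∀ b ∈ Q, Commute a b) :
    (∀ x ∈ normalizer (Q : Set G), Odd (orderOf x) → x = 1) ∨
      Nonempty (Q ≃* QuaternionGroup 2) := by
  haveI : Fact (Nat.Prime 2) := ⟨Nat.prime_two⟩
  have hm := metacyc_of (cyclic_or_dqs hQ2 fun V _ _ hV h4 => by
    classical
    have : Nat.card V ≤ ({1, z} : Finset G).card := by
      rw [← card_map_of_injective (K := V) Q.subtype_injective, ← Set.ncard_coe_finset]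
      refine Set.ncard_le_ncard (s := (V.map Q.subtype : Set G)) ?_ (Set.toFinite _)
      rintro _ ⟨v, hv, rfl⟩
      have := congrArg Subtype.val (hV v hv)
      simpa using h.inv v (by simpa [pow_two] using this)
    have := Finset.card_le_two (a := (1 : G)) (b := z)
    omega)
  by_cases hA : IsPGroup 2 (MulAut Q)
  · left
    intro x hn hx
    obtain ⟨k, hk⟩ := hA (Q.normalizerMonoidHom ⟨x, hn⟩)
    have h1 : Q.normalizerMonoidHom ⟨x, hn⟩ = 1 := by
      refine eq_one_of_odd_of_two ?_ hk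
      refine Odd.of_dvd_nat hx ?_
      refine (orderOf_map_dvd _ _).trans ?_
      rw [← orderOf_coe]
    refine h.cent hQ hx fun s hs => ?_
    have := congrArg (fun f : MulAut Q => (f ⟨s, hs⟩ : G)) h1
    simp only [MulAut.one_apply] at this
    change x * s * x⁻¹ = s at this
    exact mul_inv_eq_iff_eq_mul.mp this
  · rcases Cfsg.Agent.S1896.result hQ2 hm hA with e | ⟨n, ⟨e⟩⟩
    · exact Or.inr e
    · refine absurd (fun a ha b hb => ?_) hQ
      have : (⟨a, ha⟩ : Q) * ⟨b, hb⟩ = ⟨b, hb⟩ * ⟨a, ha⟩ := by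
        apply e.injective; rw [map_mul, map_mul, mul_comm]
      exact congrArg Subtype.val this

omit [Finite G] in
theorem sq_eq {Q : Subgroup G} (e : Q ≃* QuaternionGroup 2) {u : G} (hu : u ∈ Q)
    (hu2 : u * u ≠ 1) : u * u = z :=
  (h.inv _ (H6.q8_pow_four e hu)).resolve_left hu2

/-- an odd-order subgroup normalized by `Q₈` centralizes an element of order four -/
theorem torus {Q K O : Subgroup G} (e : Q ≃* QuaternionGroup 2) (hQK : Q ≤ K) (hOK : O ≤ K)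
    (hK : K ≤ normalizer (O : Set G)) (ho : Odd (Nat.card O)) :
    ∃ i ∈ Q, i * i ≠ 1 ∧ ∀ x ∈ O, Commute x i := by
  obtain ⟨u, hu, v, hv, hu2, hvu⟩ := H6.q8_exists e
  by_cases hb : O = ⊥
  · exact ⟨u, hu, hu2, fun x hx => by rw [hb, mem_bot] at hx; rw [hx]; exact Commute.one_left _⟩
  obtain ⟨A, hAO, hA1, hKA, hc⟩ := exists_comm_of_odd hOK hK ho hb
  have hodd : ∀ x ∈ O, Odd (orderOf x) := fun x hx =>
    Odd.of_dvd_nat ho (orderOf_dvd_natCard _ hx)
  have hsq : ∀ a ∈ A, a ≠ 1 → a * a ≠ 1 := fun a ha h1 h2 =>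
    h1 (eq_one_of_odd_of_two (hodd a (hAO ha)) (k := 1) (by rw [pow_one, pow_two, h2]))
  obtain ⟨i, hi, hi2, a, ha, ha1, hai⟩ : ∃ i ∈ Q, i * i ≠ 1 ∧ ∃ a ∈ A, a ≠ 1 ∧ Commute a i := by
    obtain ⟨⟨a, ha⟩, ha1⟩ := (ne_bot_iff_exists_ne_one.mp hA1)
    have ha1 : a ≠ 1 := fun h => ha1 (Subtype.ext h)
    have key : ∀ w ∈ Q, w * w ≠ 1 → w * a * w⁻¹ = a⁻¹ ∨ ∃ b ∈ A, b ≠ 1 ∧ Commute b w := by
      intro w hw hw2
      have h1 := conj_mem_of_mem_NN (hKA (hQK hw)) ha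
      by_cases h2 : a * (w * a * w⁻¹) = 1
      · exact Or.inl (eq_inv_of_mul_eq_one_right h2)
      · refine Or.inr ⟨_, mul_mem ha h1, h2, (mul_inv_eq_iff_eq_mul.mp ?_).symm⟩
        calc _ = w * a * w⁻¹ * ((w * w) * a * (w * w)⁻¹) := by group
          _ = _ := by rw [h.sq_eq e hw hw2, (h.zc a).eq, mul_inv_cancel_right, (hc _ ha _ h1).eq]
    rcases key u hu hu2 with h1 | h1
    swap; · exact ⟨u, hu, hu2, h1⟩
    have hv2 := H6.q8_sq_ne_one e hu hv hu2 hvu
    rcases key v hv hv2 with h2 | h2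
    swap; · exact ⟨v, hv, hv2, h2⟩
    refine ⟨u * v, mul_mem hu hv, H6.q8_sq_ne_one e hu (mul_mem hu hv) hu2 (fun h3 => hvu (by
      simpa using mul_mem (inv_mem (mem_zpowers u)) h3)), a, ha, ha1,
      (mul_inv_eq_iff_eq_mul.mp ?_).symm⟩
    calc _ = u * (v * a * v⁻¹) * u⁻¹ := by group
      _ = (u * a * u⁻¹)⁻¹ := by rw [h2]; group
      _ = a := by rw [h1, inv_inv]
  refine ⟨i, hi, hi2, fun x hx => ?_⟩
  have h1 : ∀ b ∈ A, Commute b i := fun b hb => h.ca a (hsq a ha ha1) _ _ (hc a ha b hb) hai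
  have h2 : Commute a (x * i * x⁻¹) := by
    have := (h1 _ (conj_mem_of_mem_NN' (hKA (hOK hx)) ha)).eq
    change a * _ = _ * a
    calc _ = x * (x⁻¹ * a * x * i) * x⁻¹ := by group
      _ = _ := by rw [this]; group
  have h3 := h.ca a (hsq a ha ha1) _ _ h2 hai
  have h4 : (x * i * x⁻¹ * i) * (x * i * x⁻¹ * i) = 1 := by
    rw [← pow_two, h3.mul_pow, conj_pow, pow_two, h.sq_eq e hi hi2, ← (h.zc x).eq,
      mul_inv_cancel_right, h.z2]
  rcases h.inv _ h4 with h5 | h5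
  · refine commute_of_sq_odd (hodd x hx) (mul_inv_eq_iff_eq_mul.mp ?_)
    have h6 := eq_inv_of_mul_eq_one_left h5
    calc _ = x * (x * i * x⁻¹) * x⁻¹ := by rw [pow_two]; group
      _ = (x * i * x⁻¹)⁻¹ := by nth_rw 1 [h6]; group
      _ = i := by rw [h6, inv_inv]
  · rw [← h.sq_eq e hi hi2, mul_left_inj] at h5
    exact mul_inv_eq_iff_eq_mul.mp h5

theorem mem_of_fix {Q : Subgroup G} (hQ : IsSylowIn 2 Q ⊤) (e : Q ≃* QuaternionGroup 2)
    (hna : ¬ ∀ a ∈ Q, ∀ b ∈ Q, Commute a b) {g i : G}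
    (hg : g ∈ normalizer (Q : Set G)) (hi : i ∈ Q) (hi2 : i * i ≠ 1)
    (hgi : g * i * g⁻¹ ∈ zpowers i) : g ∈ Q := by
  refine mem_of_odd_part hQ trivial hg fun y hy ho => ?_
  have h1 : y ∈ normalizer ((zpowers i : Subgroup G) : Set G) :=
    zpowers_le.mpr (H6.mem_normalizer_zpowers_iff.mpr hgi) hy
  by_cases hc : y ∈ centralizer (Q : Set G)
  · rw [h.cent hna ho fun s hs => (hc s hs).symm]; exact one_mem _
  · exact absurd (H6.mem_normalizer_zpowers_iff.mp h1)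
      (H6.q8_odd_not_mem e ho (zpowers_le.mpr hg hy) hc hi hi2)

theorem pp {Q : Subgroup G} (hQ : IsSylowIn 2 Q ⊤) (hna : ¬ ∀ a ∈ Q, ∀ b ∈ Q, Commute a b)
    {H : Subgroup G} (hH : Q ≤ H) {g : G} (hg : g ∈ normalizer (Q : Set G)) :
    g ∈ H ⊔ cj g H ∨ H = Q := by
  haveI : Fact (Nat.Prime 2) := ⟨Nat.prime_two⟩
  rcases h.q8_or hQ.isPGroup hna with h1 | ⟨⟨e⟩⟩
  · exact Or.inl (mem_sup_left (hH (mem_of_odd_part hQ trivial hg fun y hy ho => by
      rw [h1 y (zpowers_le.mpr hg hy) ho]; exact one_mem _)))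
  by_cases hgQ : g ∈ Q
  · exact Or.inl (mem_sup_left (hH hgQ))
  set K := H ⊔ cj g H with hK
  have hQK : Q ≤ K := hH.trans le_sup_left
  by_cases hn : HasNormalPComplement 2 K
  · right
    obtain ⟨O, hOK, hKO, ho, hall⟩ := exists_core_of_npc hn
    obtain ⟨i, hi, hi2, hc⟩ := h.torus e hQK hOK hKO ho
    refine hQ.eq_of_le (isPGroup_of_no_odd fun y hy hyo => ?_) hH le_top
    by_contra hy1
    have a1 := hc y (hall y (mem_sup_left hy) hyo)
    have a2 := (hc _ (hall _ (mem_sup_right (conj_mem_cj (g := g) hy)) (by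
      rwa [← MulAut.conj_apply, MulEquiv.orderOf_eq]))).eq
    have a3 : Commute y (g⁻¹ * i * g) := by
      change y * _ = _ * y
      calc _ = g⁻¹ * (g * y * g⁻¹ * i) * g := by group
        _ = _ := by rw [a2]; group
    have a4 := h.ca y (fun h2 => hy1 (eq_one_of_odd_of_two hyo (k := 1)
      (by rw [pow_one, pow_two, h2]))) _ _ a3 a1
    rw [H6.q8_commute_iff e hi (conj_mem_of_mem_NN' hg hi) hi2] at a4
    exact hgQ (inv_mem_iff.mp (h.mem_of_fix hQ e hna (inv_mem hg) hi hi2 (by rwa [inv_inv])))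
  · left
    obtain ⟨x, hxo, hxn, hxc⟩ := H19.q8_exists_odd
      (isSylowIn_subgroupOf_top (hQ.of_le hQK le_top)) ((subgroupOfEquivOfLe hQK).trans e) hn
    have hxn' : (x : G) ∈ normalizer (Q : Set G) := mem_NN_of_conj_mem fun s hs =>
      conj_mem_of_mem_NN hxn (x := ⟨s, hQK hs⟩) hs
    have hxc' : (x : G) ∉ centralizer (Q : Set G) := fun hc => hxc fun s hs =>
      Subtype.ext (hc s hs)
    obtain ⟨u, hu, -, -, hu2, -⟩ := H6.q8_exists e
    obtain ⟨n, hn, hnu⟩ := H6.q8_odd_conj e (by rwa [orderOf_coe]) hxn' hxc' hu hu2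
      (conj_mem_of_mem_NN hg hu) (H6.conj_sq_ne_one hu2 g)
    have hnK : n ∈ K := sup_le (zpowers_le.mpr x.2) hQK hn
    have hnN : n ∈ normalizer (Q : Set G) := sup_le (zpowers_le.mpr hxn') le_normalizer hn
    have := h.mem_of_fix hQ e hna (mul_mem (inv_mem hnN) hg) hu hu2 (by
      have : n⁻¹ * g * u * (n⁻¹ * g)⁻¹ = u := by
        calc _ = n⁻¹ * (g * u * g⁻¹) * n := by group
          _ = u := by rw [← hnu]; group
      rw [this]; exact mem_zpowers u)
    simpa using mul_mem hnK (hQK this)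

theorem comm_mem {Q : Subgroup G} (hQ : IsSylowIn 2 Q ⊤) (hna : ¬ ∀ a ∈ Q, ∀ b ∈ Q, Commute a b)
    {g g' : G} (hg : g ∈ normalizer (Q : Set G)) (hg' : g' ∈ normalizer (Q : Set G)) :
    g * g' * g⁻¹ * g'⁻¹ ∈ Q := by
  by_cases h1 : g ∈ Q
  · rw [mul_assoc, mul_assoc, ← mul_assoc g']
    exact mul_mem h1 (conj_mem_of_mem_NN hg' (inv_mem h1))
  have hodd : ∃ y ∈ zpowers g, Odd (orderOf y) ∧ y ∉ Q := by
    by_contra hn
    push Not at hn
    exact h1 (mem_of_odd_part hQ trivial hg hn)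
  rcases h.q8_or hQ.isPGroup hna with h2 | ⟨⟨e⟩⟩
  · obtain ⟨y, hy, ho, hyQ⟩ := hodd
    exact absurd (h2 y (zpowers_le.mpr hg hy) ho ▸ one_mem Q) hyQ
  obtain ⟨y, hy, ho, hyQ⟩ := hodd
  have hyn := zpowers_le.mpr hg hy
  obtain ⟨u, hu, -, -, hu2, -⟩ := H6.q8_exists e
  obtain ⟨n, hn, hnu⟩ := H6.q8_odd_conj e ho hyn (fun hc => hyQ (by
    rw [h.cent hna ho fun s hs => (hc s hs).symm]; exact one_mem _)) hu hu2
    (conj_mem_of_mem_NN hg' hu) (H6.conj_sq_ne_one hu2 g')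
  have hnN : n ∈ normalizer (Q : Set G) := sup_le (zpowers_le.mpr hyn) le_normalizer hn
  have h3 := h.mem_of_fix hQ e hna (mul_mem (inv_mem hnN) hg') hu hu2 (by
    have : n⁻¹ * g' * u * (n⁻¹ * g')⁻¹ = u := by
      calc _ = n⁻¹ * (g' * u * g'⁻¹) * n := by group
        _ = u := by rw [← hnu]; group
    rw [this]; exact mem_zpowers u)
  have h4 : g' ∈ zpowers g ⊔ Q := by
    have : n ∈ zpowers g ⊔ Q := sup_le_sup_right (zpowers_le.mpr hy) Q hn
    simpa using mul_mem this (mem_sup_right h3)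
  obtain ⟨_, ⟨k, rfl⟩, q, hq, rfl⟩ := (mem_sup_of_NN (zpowers_le.mpr hg)).mp h4
  have : g * (g ^ k * q) * g⁻¹ * (g ^ k * q)⁻¹ = g ^ k * (g * q * g⁻¹ * q⁻¹) * (g ^ k)⁻¹ := by group
  rw [this]
  exact conj_mem_of_mem_NN (zpow_mem hg k) (mul_mem (conj_mem_of_mem_NN hg hq) (inv_mem hq))

end S2

open Matrix MatrixGroups

theorem slm {F : Type*} [Field F] (A B : SL(2, F)) (i j : Fin 2) :
    (A * B).1 i j = A.1 i 0 * B.1 0 j + A.1 i 1 * B.1 1 j := H22.mul_fin2 _ _ i j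

theorem sl1 {F : Type*} [Field F] : (1 : SL(2, F)).1 = 1 := rfl

theorem slm1 {F : Type*} [Field F] : (-1 : SL(2, F)).1 = -1 := rfl

theorem s2_sl {F : Type*} [Field F] (h2 : (2 : F) ≠ 0) : S2 SL(2, F) (-1) where
  inv x hx := by
    have d := x.2
    rw [det_fin_two] at d
    have e := fun i j => congrFun (congrFun (congrArg Subtype.val hx) i) j
    have e00 := e 0 0
    have e01 := e 0 1
    have e10 := e 1 0
    have e11 := e 1 1
    simp only [slm, sl1] at e00 e01 e10 e11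
    simp at e00 e01 e10 e11
    have t : (x.1 0 0 + x.1 1 1) * x.1 0 0 = 2 := by linear_combination e00 + d
    have t0 : x.1 0 0 + x.1 1 1 ≠ 0 := fun h => h2 (by rw [← t, h, zero_mul])
    have b0 : x.1 0 1 = 0 := (mul_eq_zero.mp (show (x.1 0 0 + x.1 1 1) * x.1 0 1 = 0 by
      linear_combination e01)).resolve_left t0
    have c0 : x.1 1 0 = 0 := (mul_eq_zero.mp (show (x.1 0 0 + x.1 1 1) * x.1 1 0 = 0 by
      linear_combination e10)).resolve_left t0
    rw [b0] at e00 d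
    rcases mul_self_eq_one_iff.mp (show x.1 0 0 * x.1 0 0 = 1 by linear_combination e00) with h | h
    · left
      refine Subtype.ext (H22.fin2_ext ?_ ?_ ?_ ?_) <;> simp [h, b0, c0, sl1, slm1]
      rw [h] at d; linear_combination d
    · right
      refine Subtype.ext (H22.fin2_ext ?_ ?_ ?_ ?_) <;> simp [h, b0, c0, sl1, slm1]
      rw [h] at d; linear_combination -d
  zc x := by simp [Commute, SemiconjBy]
  z2 := by simp
  ca a ha x y hx hy := by
    have d := a.2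
    rw [det_fin_two] at d
    have e := fun i j => congrFun (congrFun (congrArg Subtype.val hx.eq) i) j
    have f := fun i j => congrFun (congrFun (congrArg Subtype.val hy.eq) i) j
    have e00 := e 0 0
    have e01 := e 0 1
    have e10 := e 1 0
    have f00 := f 0 0
    have f01 := f 0 1
    have f10 := f 1 0
    simp only [slm] at e00 e01 e10 f00 f01 f10
    have key : ∀ t : F, a.1 0 1 * t = 0 → a.1 1 0 * t = 0 → (a.1 0 0 - a.1 1 1) * t = 0 → t = 0 := by
      intro t h1 h3 h4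
      by_contra ht
      have b0 := (mul_eq_zero.mp h1).resolve_right ht
      have c0 := (mul_eq_zero.mp h3).resolve_right ht
      have d0 := sub_eq_zero.mp ((mul_eq_zero.mp h4).resolve_right ht)
      apply ha
      refine Subtype.ext (H22.fin2_ext ?_ ?_ ?_ ?_) <;>
        simp only [slm, b0, c0, sl1] <;> simp
      · rw [b0, ← d0] at d; linear_combination d
      · rw [b0, d0] at d; linear_combination d
    have k1 : x.1 0 1 * y.1 1 0 - y.1 0 1 * x.1 1 0 = 0 := by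
      apply key
      · linear_combination (-y.1 0 1) * e00 + x.1 0 1 * f00
      · linear_combination (-y.1 1 0) * e00 + x.1 1 0 * f00
      · linear_combination y.1 1 0 * e01 + y.1 0 1 * e10 - (x.1 1 1 - x.1 0 0) * f00
    have k2 : x.1 0 1 * (y.1 1 1 - y.1 0 0) - y.1 0 1 * (x.1 1 1 - x.1 0 0) = 0 := by
      apply key
      · linear_combination x.1 0 1 * f01 - y.1 0 1 * e01
      · linear_combination (-(y.1 1 1 - y.1 0 0)) * e00 + y.1 0 1 * e10 + x.1 1 0 * f01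
      · linear_combination (y.1 1 1 - y.1 0 0) * e01 - (x.1 1 1 - x.1 0 0) * f01
    have k3 : x.1 1 0 * (y.1 1 1 - y.1 0 0) - y.1 1 0 * (x.1 1 1 - x.1 0 0) = 0 := by
      apply key
      · linear_combination (y.1 1 1 - y.1 0 0) * e00 - y.1 1 0 * e01 - x.1 0 1 * f10
      · linear_combination (-x.1 1 0) * f10 + y.1 1 0 * e10
      · linear_combination (-(y.1 1 1 - y.1 0 0)) * e10 + (x.1 1 1 - x.1 0 0) * f10
    refine Subtype.ext (H22.fin2_ext ?_ ?_ ?_ ?_) <;>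
      simp only [slm]
    · linear_combination k1
    · linear_combination k2
    · linear_combination -k3
    · linear_combination -k1

theorem sl2_sylow_nonab {F : Type*} [Field F] [Fintype F] (h2 : (2 : F) ≠ 0)
    {Q : Subgroup SL(2, F)} (hQ : IsSylowIn 2 Q ⊤) : ¬ ∀ a ∈ Q, ∀ b ∈ Q, Commute a b := by
  haveI : Fact (Nat.Prime 2) := ⟨Nat.prime_two⟩
  obtain ⟨p, hp⟩ := CharP.exists F
  haveI : NeZero p := ⟨(CharP.char_is_prime F p).ne_zero⟩
  obtain ⟨a, b, hab⟩ := CharP.sq_add_sq F p (-1)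
  generalize (a : F) = a at hab
  generalize (b : F) = b at hab
  push_cast at hab
  obtain ⟨i, ei⟩ : ∃ i : SL(2, F), i.1 = !![0, -1; 1, 0] := ⟨⟨_, by simp [det_fin_two]⟩, rfl⟩
  obtain ⟨j, ej⟩ : ∃ j : SL(2, F), j.1 = !![a, b; b, -a] :=
    ⟨⟨_, by rw [det_fin_two]; simp; linear_combination -hab⟩, rfl⟩
  have hi : i * i = -1 := Subtype.ext (by
    refine H22.fin2_ext ?_ ?_ ?_ ?_ <;> simp [slm, slm1, ei])
  have hj : j * j = -1 := Subtype.ext (by
    refine H22.fin2_ext ?_ ?_ ?_ ?_ <;> simp only [slm, slm1, ej] <;> simp <;>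
      first | ring1 | linear_combination hab)
  have hij : i * j * i = j := Subtype.ext (by
    refine H22.fin2_ext ?_ ?_ ?_ ?_ <;> simp only [slm, ei, ej] <;> simp)
  have hp2 : IsPGroup 2 ↥(zpowers i ⊔ zpowers j) := by
    refine IsPGroup.to_sup_of_normal_left' (isPGroup_zpowers (k := 2) ?_)
      (isPGroup_zpowers (k := 2) ?_) ?_
    · rw [show 2 ^ 2 = 2 + 2 from rfl, pow_add, pow_two, hi]; simp
    · rw [show 2 ^ 2 = 2 + 2 from rfl, pow_add, pow_two, hj]; simp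
    · rw [zpowers_le, mem_NN, cj_zpowers, show j * i * j⁻¹ = i⁻¹ by
        rw [mul_inv_eq_iff_eq_mul, eq_inv_mul_iff_mul_eq, ← mul_assoc, hij], zpowers_inv]
  obtain ⟨g, -, hg⟩ := hQ.exists_cj_le hp2 le_top
  intro hc
  have h1 := (hc _ (hg (conj_mem_cj (mem_sup_left (mem_zpowers i)))) _
    (hg (conj_mem_cj (mem_sup_right (mem_zpowers j))))).eq
  rw [conj_mul, conj_mul, mul_left_inj, mul_right_inj] at h1
  rw [h1, mul_assoc, hi, mul_eq_left] at hij
  have := congrFun (congrFun (congrArg Subtype.val hij) 0) 0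
  simp [slm1, sl1] at this
  exact h2 (by linear_combination -this)

end H9.Pn
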