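import Cfsg.Agent.H9.Pn4
import Cfsg.Agent.H9.Pn6
import Cfsg.Agent.H26.BN
import Cfsg.Agent.H24.LT4
import Cfsg.Agent.H22.IsoE
import Cfsg.Agent.H22.GL2
import Cfsg.Agent.S3820
import Cfsg.Agent.S2222

/-! Pronormality of overgroups of Sylow subgroups in groups with a split (B,N)-pair, and in
linear and unitary groups of 2-power dimension. -/

set_option autoImplicit false

namespace H9.Pn

open Module H23 H23.Form H22 H10 Subgroup Cfsg

section BN
open H26 H26.BN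

variable {G : Type*} [Group G] {P : BNPair G} {U : Subgroup G} (hU : U ≤ P.B)
  (hn : P.B ≤ normalizer (U : Set G))
  (hs : ∀ b ∈ P.B, ∃ u ∈ U, ∃ t ∈ P.B ⊓ P.N, b = u * t)
include hU hn hs

theorem bn_cell {w : W P} {g : G} (hg : g ∈ cell w) :
    ∃ u ∈ U, ∃ n : P.N, (n : W P) = w ∧ ∃ u' ∈ U, g = u * n * u' := by
  obtain ⟨n, rfl, b, hb, b', hb', rfl⟩ := hg
  obtain ⟨u, hu, t, ht, rfl⟩ := hs b hb
  obtain ⟨u', hu', t', ht', rfl⟩ := hs b' hb'
  refine ⟨u, hu, ⟨t, ht.2⟩ * n * ⟨t', ht'.2⟩, ?_, t'⁻¹ * u' * t',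
    conj_mem_of_mem_NN' (hn ht'.1) hu', by simp [mul_assoc]⟩
  rw [QuotientGroup.mk_mul, QuotientGroup.mk_mul, (mk_eq_one_iff ⟨t, ht.2⟩).mpr ht.1,
    (mk_eq_one_iff ⟨t', ht'.2⟩).mpr ht'.1, one_mul, mul_one]

theorem bn_step (n : P.N) (h1 : (n : W P) ≠ 1) :
    ∃ s : P.S, len (sW P) (sW P s * n) < len (sW P) (n : W P) ∧
      ∃ u ∈ U, (n : G) * u * (n : G)⁻¹ ∈ cell (sW P s) := by
  obtain ⟨l, hl, hr⟩ := exists_red W_gen (n : W P)
  rcases l with _ | ⟨s, l⟩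
  · exact absurd hl.symm h1
  have hlt : len (sW P) (sW P s * n) < len (sW P) (n : W P) := by
    rw [← hl, hr, wp_cons, ← mul_assoc, sW_sq, one_mul]
    exact Nat.lt_succ_of_le (len_le _ l)
  refine ⟨s, hlt, ?_⟩
  obtain ⟨x, hx, y, hy, hxy⟩ := exists_of_not_pos (s := s) (w := (n : W P))
    (by rw [pos_iff_len]; omega)
  obtain ⟨b1, hb1, b2, hb2, e1⟩ := mem_cell_mk.mp hxy
  obtain ⟨b3, hb3, b4, hb4, rfl⟩ := mem_cell_mk.mp hy
  obtain ⟨u, hu, t, ht, e2⟩ := hs _ (mul_mem hb2 (inv_mem hb4))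
  refine ⟨u, hu, ?_⟩
  have : (n : G) * u * (n : G)⁻¹ = b1⁻¹ * x * (b3 * ((n : G) * t⁻¹ * (n : G)⁻¹)) := by
    rw [eq_mul_inv_of_mul_eq e1, ← mul_inv_eq_iff_eq_mul.mpr e2]; group
  rw [this]
  exact mul_mem_cell_right (mul_mem_cell_left (inv_mem hb1) hx)
    (mul_mem hb3 (P.conj_mem _ n.2 _ (inv_mem ht)))

theorem bn_normalizer : normalizer (U : Set G) ≤ P.B := by
  intro g hg
  obtain ⟨w, hw⟩ := exists_mem_cell (P := P) g
  obtain ⟨u, hu, n, rfl, u', hu', rfl⟩ := bn_cell hU hn hs hw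
  by_cases h1 : (n : W P) = 1
  · rwa [h1, mem_cell_one] at hw
  obtain ⟨s, -, v, hv, hc⟩ := bn_step hU hn hs n h1
  have hnn : (n : G) ∈ normalizer (U : Set G) := by
    have := mul_mem (mul_mem (inv_mem (le_normalizer hu)) hg) (inv_mem (le_normalizer hu'))
    simpa [mul_assoc] using this
  exact absurd (eq_of_mem_cell hc (mem_cell_one.mpr (hU (conj_mem_of_mem_NN hnn hv))))
    (sW_ne_one s)

theorem bn_over (hc : ∀ a ∈ P.B ⊓ P.N, ∀ b ∈ P.B ⊓ P.N, Commute a b) {A : Subgroup G}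
    (hA : U ≤ A) : P.B ≤ normalizer (A : Set G) := by
  have key : ∀ k, ∀ n : P.N, len (sW P) (n : W P) = k → (n : G) ∈ A → ∀ t ∈ P.B ⊓ P.N,
      t * n * t⁻¹ ∈ A := by
    intro k
    induction k using Nat.strong_induction_on with
    | _ k ih =>
    intro n hk hnA t ht
    by_cases h1 : (n : W P) = 1
    · rw [(hc t ht n ⟨(mk_eq_one_iff n).mp h1, n.2⟩).eq, mul_inv_cancel_right]; exact hnA
    obtain ⟨s, hlt, v, hv, hcell⟩ := bn_step hU hn hs n h1
    obtain ⟨u1, hu1, n', hn', u2, hu2, e⟩ := bn_cell hU hn hs hcell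
    have e' : (n' : G) = u1⁻¹ * ((n : G) * v * (n : G)⁻¹) * u2⁻¹ := by rw [e]; group
    have hn'A : (n' : G) ∈ A := by
      rw [e']
      exact mul_mem (mul_mem (inv_mem (hA hu1)) (mul_mem (mul_mem hnA (hA hv)) (inv_mem hnA)))
        (inv_mem (hA hu2))
    have h2 : t * n' * t⁻¹ ∈ A := by
      have ht' : (n : G)⁻¹ * t * n ∈ P.B := by simpa using P.conj_mem _ (inv_mem n.2) t ht
      have : t * n' * t⁻¹ = (t * u1 * t⁻¹)⁻¹ *
          (n * (((n : G)⁻¹ * t * n) * v * ((n : G)⁻¹ * t * n)⁻¹) * (n : G)⁻¹) * (t * u2 * t⁻¹)⁻¹ := by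
        rw [e']; group
      rw [this]
      exact mul_mem (mul_mem (inv_mem (hA (conj_mem_of_mem_NN (hn ht.1) hu1)))
        (mul_mem (mul_mem hnA (hA (conj_mem_of_mem_NN (hn ht') hv))) (inv_mem hnA)))
        (inv_mem (hA (conj_mem_of_mem_NN (hn ht.1) hu2)))
    have h3 := ih _ (by
      rw [QuotientGroup.mk_mul, QuotientGroup.mk_inv, hn', sW_inv, ← hk]; exact hlt) (n'⁻¹ * n) rfl
      (mul_mem (inv_mem hn'A) hnA) t ht
    have : t * n * t⁻¹ = (t * n' * t⁻¹) * (t * (n'⁻¹ * n : P.N) * t⁻¹) := by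
      simp only [coe_mul, InvMemClass.coe_inv]; group
    rw [this]; exact mul_mem h2 h3
  rw [le_NN_iff]
  intro b hb a ha
  obtain ⟨w, hw⟩ := exists_mem_cell (P := P) a
  obtain ⟨u, hu, n, rfl, u', hu', rfl⟩ := bn_cell hU hn hs hw
  obtain ⟨v, hv, t, ht, rfl⟩ := hs b hb
  have hnA : (n : G) ∈ A := by
    have := mul_mem (mul_mem (inv_mem (hA hu)) ha) (inv_mem (hA hu'))
    simpa [mul_assoc] using this
  have : v * t * (u * n * u') * (v * t)⁻¹ =
      v * ((t * u * t⁻¹) * (t * n * t⁻¹) * (t * u' * t⁻¹)) * v⁻¹ := by group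
  rw [this]
  exact mul_mem (mul_mem (hA hv) (mul_mem (mul_mem (hA (conj_mem_of_mem_NN (hn ht.1) hu))
    (key _ n rfl hnA t ht)) (hA (conj_mem_of_mem_NN (hn ht.1) hu')))) (inv_mem (hA hv))

end BN

theorem pronSyl_of_one {G : Type*} [Group G] [Finite G] {p : ℕ} [Fact p.Prime] (U : Sylow p G)
    (h : ∀ A : Subgroup G, (U : Subgroup G) ≤ A → ∀ g ∈ normalizer ((U : Subgroup G) : Set G),
      H1.PrAt A g) : H1.PronSyl p G := by
  rintro K ⟨P, hP⟩
  obtain ⟨g, -, hg⟩ := (isSylowIn_top U).exists_cj (isSylowIn_top P)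
  have h1 : (U : Subgroup G) ≤ cj g⁻¹ K := by rw [← cj_le_iff, hg]; exact hP
  have h2 : IsPronormal (cj g⁻¹ K) :=
    (Cfsg.Agent.S3820.result _ _ h1 (Cfsg.Agent.S2222.pron_of_sylow U)).mpr fun x hx =>
      h _ h1 x hx _ le_sup_left le_sup_right
  have := H1.IsPronormal.cj' h2 g
  rwa [cj_cj_inv] at this

theorem prAt_of_mem_NN {G : Type*} [Group G] {A : Subgroup G} {g : G}
    (h : g ∈ normalizer (A : Set G)) : H1.PrAt A g := fun K _ _ =>
  ⟨1, one_mem _, by rw [cj_one, cj_eq_of_mem_NN h]⟩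

theorem pronSyl_lt {p : ℕ} [Fact p.Prime] {K : Type*} [Group K] (A : H24.LT p K) :
    H1.PronSyl p K := by
  refine PronSyl.of_surj (G := A.z.G1 A.O) ?_ A.e.symm.toMonoidHom A.e.symm.surjective
  refine pronSyl_of_one (A.sub.syl p A.adj) fun X hX g hg => prAt_of_mem_NN ?_
  refine bn_over (P := A.sub.bn) (U := A.sub.syl p A.adj) (fun x hx => A.S.U_le_B hx)
    (fun x hx => (A.sub.mem_normalizer_syl p A.adj).mpr hx) (fun b hb => ?_) (fun a ha b hb => ?_)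
    hX ((A.sub.mem_normalizer_syl p A.adj).mp hg)
  · obtain ⟨u, hu, k, hk, e⟩ := A.S.mem_B_iff.1 hb
    have h1 := A.sub.U_le ⟨hu, (A.z.fixed_B hu hk (e ▸ A.sub.le_Fx b.2)).1⟩
    refine ⟨⟨u, h1⟩, hu, ⟨u, h1⟩⁻¹ * b, ?_, by group⟩
    have : (A.z.G1 A.O).subtype (⟨u, h1⟩⁻¹ * b) = k := by rw [map_mul, map_inv, e]; simp
    exact ⟨by change _ ∈ A.S.B; rw [this]; exact A.S.H_le_B hk,
      by change _ ∈ A.S.N; rw [this]; exact A.S.H_le_N hk⟩
  · exact Subtype.ext (A.S.commute_H (A.S.r3_of_adj A.adj) (A.S.B_inf_N.le ha)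
      (A.S.B_inf_N.le hb)).eq

open Matrix MatrixGroups in
theorem pronSyl_sl2_char {F : Type*} [Field F] [Fintype F] (p : ℕ) [Fact p.Prime] [CharP F p] :
    H1.PronSyl p SL(2, F) := by
  refine pronSyl_of_one (slSylow F p) fun A hA g hg => prAt_of_mem_NN ?_
  rw [coe_slSylow] at hA hg
  rw [normalizer_slU] at hg
  by_cases h : A ≤ slB F
  · refine mem_NN_of_conj_mem fun a ha => ?_
    have : g * a * g⁻¹ * a⁻¹ ∈ slU F := by
      have h1 := mem_slB.mp hg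
      have h2 := mem_slB.mp (h ha)
      have d1 := g.2
      have d2 := a.2
      rw [Matrix.det_fin_two] at d1 d2
      have iv : ∀ x : SL(2, F), (x⁻¹).1 = ![![x.1 1 1, -x.1 0 1], ![-x.1 1 0, x.1 0 0]] :=
        fun x => congrArg Subtype.val (SpecialLinearGroup.SL2_inv_expl x)
      rw [mem_slU]
      simp only [slm, iv]
      simp [h1, h2] at d1 d2 ⊢
      constructor
      · linear_combination (a.1 0 0 * a.1 1 1) * d1 + d2
      · linear_combination (a.1 0 0 * a.1 1 1) * d1 + d2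
    simpa using mul_mem (hA this) ha
  · obtain ⟨x, hx, hx'⟩ := SetLike.not_le_iff_exists.mp h
    rw [eq_top_of_slU_le hA hx' fun u hu => mul_mem (mul_mem hx (hA hu)) (inv_mem hx), NN_top]
    trivial

theorem exists_small_field (F : Type*) [Field F] [Fintype F] :
    ∃ (K : Type) (_ : Field K) (_ : Fintype K), Nonempty (K ≃+* F) :=
  ⟨Shrink.{0} F, inferInstance, Fintype.ofFinite _, ⟨(equivShrink.{0} F).symm.ringEquiv⟩⟩

theorem pronSyl_psl_char {F : Type*} [Field F] [Fintype F] (p : ℕ) [Fact p.Prime] [CharP F p]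
    (m : ℕ) : H1.PronSyl p (Matrix.ProjectiveSpecialLinearGroup (Fin (m + 3)) F) := by
  obtain ⟨K, _, _, ⟨e⟩⟩ := exists_small_field F
  haveI : CharP K p := charP_of_injective_ringHom (f := e.symm.toRingHom) e.symm.injective p
  have h := pronSyl_lt (p := p) (H24.LT.ofSt (H7.slA m K) (H24.connA m)
    ((MulEquiv.subgroupCongr H7.slA_Gr).trans topEquiv).symm)
  exact PronSyl.of_surj h (quotCenterCongr (slCongr e _)).toMonoidHom (MulEquiv.surjective _)

theorem pronSyl_psu_char {F : Type*} [Field F] [Fintype F] (p : ℕ) [Fact p.Prime] [CharP F p]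
    {q : ℕ} (hF : Fintype.card F = q ^ 2) (m : ℕ) (h : ¬ (m + 3 = 3 ∧ q = 2)) :
    H1.PronSyl p (PSU (m + 3) F q) := by
  obtain ⟨K, _, _, ⟨e⟩⟩ := exists_small_field F
  haveI : CharP K p := charP_of_injective_ringHom (f := e.symm.toRingHom) e.symm.injective p
  obtain ⟨A, -⟩ := H24.exists_lt_PSU (m := m) p ((Fintype.card_congr e.toEquiv).trans hF) h
  exact PronSyl.of_surj (pronSyl_lt A) (quotCenterCongr (suCongr e _ _)).toMonoidHom
    (MulEquiv.surjective _)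

section
variable {F : Type*} [Field F] {σ : F →+* F} {c : F}

theorem pronSyl_SO [Finite F] {V : Type*} [AddCommGroup V] [Module F V] [FiniteDimensional F V]
    {Φ : Form σ V} (h : Cl c Φ) (h2 : (2 : F) ≠ 0) (hq : QF c σ) {k : ℕ} (hk : 2 ≤ k)
    (hV : finrank F V = 2 ^ k) : H1.PronSyl 2 (SO Φ) := by
  haveI : Fact (Nat.Prime 2) := ⟨Nat.prime_two⟩
  haveI := finite_O (Φ := Φ)
  refine (H1.pronSyl_of_self_normalizing fun P => normalizer_eq_of_odd P fun x hx ho => ?_).1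
  obtain ⟨a, ha⟩ := main_lu h2 hq k V Φ h hV _ _ le_rfl (Or.inr hk) (isSylowIn_map_subtype P) x
    (le_normalizer_map _ (mem_map_of_mem _ hx)) (by rwa [orderOf_coe])
  have hd := mem_SO.mp x.2
  rw [show (x : Φ.O).1.toLinearMap = a • LinearMap.id from LinearMap.ext ha, LinearMap.det_smul,
    LinearMap.det_id, mul_one, hV] at hd
  have : x = 1 := eq_one_of_odd_of_two ho (k := k) (Subtype.ext (O_ext _ fun v => by
    have : ∀ n : ℕ, ((x ^ n : SO Φ) : Φ.O).1 v = a ^ n • v := fun n => by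
      induction n with
      | zero => simp
      | succ n ih => rw [pow_succ', coe_mul, O_mul_apply, ih, ha, smul_smul, pow_succ']
    rw [this, hd, one_smul]; rfl))
  rw [this]; exact one_mem _

/-- the zero form -/
def zf (F V : Type*) [Field F] [AddCommGroup V] [Module F V] : Form (RingHom.id F) V where
  ε := 1
  κ := 0
  B := 0
  Q := 0
  invol _ := rfl
  eps := by simp
  symm := by simp
  kσ := by simp
  kε := by simp
  Q_add := by simp
  Q_smul := by simp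
  trace _ := ⟨0, by simp⟩

theorem cl_zf (V : Type*) [AddCommGroup V] [Module F V] : Cl 0 (zf F V) :=
  ⟨rfl, rfl, Or.inl ⟨rfl, fun _ _ => rfl⟩⟩

/-- `SO` of the zero form is `SL` -/
noncomputable def zfHom (F : Type*) [Field F] (n : ℕ) :
    SO (zf F (Fin n → F)) →* Matrix.SpecialLinearGroup (Fin n) F where
  toFun g := ⟨LinearMap.toMatrix' g.1.1.toLinearMap, by
    rw [LinearMap.det_toMatrix']; exact mem_SO.mp g.2⟩
  map_one' := Subtype.ext LinearMap.toMatrix'_id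
  map_mul' a b := Subtype.ext (LinearMap.toMatrix'_comp _ _)

theorem zfHom_surj (n : ℕ) : Function.Surjective (zfHom F n) := fun A =>
  ⟨⟨⟨glEquiv (Matrix.SpecialLinearGroup.toGL A), fun _ _ => rfl, fun _ => rfl⟩,
    mem_SO.mpr ((det_glEquiv _).trans A.2)⟩, Subtype.ext (by
      change LinearMap.toMatrix' (glEquiv (Matrix.SpecialLinearGroup.toGL A)).toLinearMap = _
      rw [← glEquiv_symm_val, MulEquiv.symm_apply_apply]; rfl)⟩

theorem qf_zero [Fintype F] : QF 0 (RingHom.id F) := by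
  obtain ⟨p, hp⟩ := CharP.exists F
  haveI : NeZero p := ⟨(CharP.char_is_prime F p).ne_zero⟩
  obtain ⟨a, b, h⟩ := CharP.sq_add_sq F p (-1)
  exact ⟨a, b, by simpa [pow_two] using h, by simp, by simp⟩

theorem qf_one [Fintype F] {q : ℕ} (hF : Fintype.card F = q ^ 2) (h2 : (2 : F) ≠ 0) :
    QF 1 (conj hF) := by
  obtain ⟨w, hw⟩ : IsSquare (-1 : F) := by
    rw [FiniteField.isSquare_neg_one_iff, hF]
    have : q % 4 = 0 ∨ q % 4 = 1 ∨ q % 4 = 2 ∨ q % 4 = 3 := by omega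
    rcases this with h | h | h | h <;> simp [Nat.pow_mod, h]
  have h1 : conj hF w * conj hF w = w * w := by rw [← map_mul, ← hw, map_neg, map_one]
  rcases mul_self_eq_mul_self_iff.mp h1 with h | h
  · obtain ⟨t, ht⟩ : ∃ t, conj hF t ≠ t := by
      by_contra hn
      push Not at hn
      exact conj_ne_id hF (RingHom.ext hn)
    set θ := t - conj hF t with hθ
    have h0 : θ ≠ 0 := sub_ne_zero.mpr ht.symm
    have h3 : conj hF θ = -θ := by rw [hθ, map_sub, conj_conj]; ring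
    have hw0 : w ≠ 0 := by rintro rfl; simp at hw
    refine ⟨(θ - θ⁻¹) / 2, (θ + θ⁻¹) / (2 * w), ?_, ?_, ?_⟩
    · field_simp
      linear_combination (-(θ ^ 2 + 1) ^ 2) * hw
    · rw [map_div₀, map_sub, map_inv₀, h3, map_ofNat, inv_neg]; ring
    · rw [map_div₀, map_add, map_inv₀, h3, map_mul, map_ofNat, h, inv_neg]; ring
  · exact ⟨w, 0, by rw [hw]; ring, by rw [h]; ring, by rw [map_zero]; ring⟩

theorem pronSyl_psl_odd [Fintype F] (h2 : (2 : F) ≠ 0) {k : ℕ} (hk : 2 ≤ k) :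
    H1.PronSyl 2 (Matrix.ProjectiveSpecialLinearGroup (Fin (2 ^ k)) F) := by
  haveI : Fact (Nat.Prime 2) := ⟨Nat.prime_two⟩
  haveI := finite_O (Φ := zf F (Fin (2 ^ k) → F))
  exact PronSyl.of_surj (PronSyl.of_surj (pronSyl_SO (cl_zf _) h2 qf_zero hk (by simp)) _
    (zfHom_surj _)) _ (QuotientGroup.mk'_surjective _)

theorem pronSyl_psu_odd [Fintype F] {q : ℕ} (hF : Fintype.card F = q ^ 2) (h2 : (2 : F) ≠ 0)
    {k : ℕ} (hk : 2 ≤ k) : H1.PronSyl 2 (PSU (2 ^ k) F q) := by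
  haveI : Fact (Nat.Prime 2) := ⟨Nat.prime_two⟩
  haveI := finite_O (Φ := hForm hF (2 ^ k))
  have h : Cl 1 (hForm hF (2 ^ k)) :=
    ⟨hForm_κ _ _, hForm_ε _ _, Or.inr ⟨rfl, conj_ne_id hF, hForm_nondeg _ _⟩⟩
  exact PronSyl.of_surj (PronSyl.of_surj (pronSyl_SO h h2 (qf_one hF h2) hk (by simp))
    (suEquiv hF _).symm.toMonoidHom (MulEquiv.surjective _)) _ (QuotientGroup.mk'_surjective _)

theorem pronSyl_psu [Fintype F] {q : ℕ} (hF : Fintype.card F = q ^ 2)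
    {k : ℕ} (hk : 2 ≤ k) : H1.PronSyl 2 (PSU (2 ^ k) F q) := by
  haveI : Fact (Nat.Prime 2) := ⟨Nat.prime_two⟩
  by_cases h2 : (2 : F) = 0
  · haveI : CharP F 2 := (CharP.charP_iff_prime_eq_zero Nat.prime_two).mpr (by exact_mod_cast h2)
    obtain ⟨m, hm⟩ : ∃ m, 2 ^ k = (m + 1) + 3 := ⟨2 ^ k - 4, by
      have : 2 ^ 2 ≤ 2 ^ k := Nat.pow_le_pow_right (by norm_num) hk
      omega⟩
    rw [hm]
    exact pronSyl_psu_char 2 hF _ (by omega)
  · exact pronSyl_psu_odd hF h2 hk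

open Matrix MatrixGroups in
theorem pronSyl_sl2_odd [Fintype F] (h2 : (2 : F) ≠ 0) : H1.PronSyl 2 SL(2, F) := by
  haveI : Fact (Nat.Prime 2) := ⟨Nat.prime_two⟩
  obtain ⟨Q⟩ : Nonempty (Sylow 2 SL(2, F)) := inferInstance
  refine pronSyl_of_one Q fun A hA g hg => ?_
  rcases (s2_sl h2).pp (isSylowIn_top Q) (sl2_sylow_nonab h2 (isSylowIn_top Q)) hA hg with h | rfl
  · exact fun K h1 h3 => ⟨g, sup_le h1 h3 h, rfl⟩
  · exact prAt_of_mem_NN hg

theorem pronSyl_psl [Fintype F] {k : ℕ} (hk : 1 ≤ k) :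
    H1.PronSyl 2 (Matrix.ProjectiveSpecialLinearGroup (Fin (2 ^ k)) F) := by
  haveI : Fact (Nat.Prime 2) := ⟨Nat.prime_two⟩
  rcases hk.eq_or_lt with rfl | hk
  · refine PronSyl.of_surj (G := Matrix.SpecialLinearGroup (Fin 2) F) ?_ _
      (QuotientGroup.mk'_surjective _)
    by_cases h2 : (2 : F) = 0
    · haveI : CharP F 2 := (CharP.charP_iff_prime_eq_zero Nat.prime_two).mpr (by exact_mod_cast h2)
      exact pronSyl_sl2_char 2
    · exact pronSyl_sl2_odd h2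
  by_cases h2 : (2 : F) = 0
  · haveI : CharP F 2 := (CharP.charP_iff_prime_eq_zero Nat.prime_two).mpr (by exact_mod_cast h2)
    obtain ⟨m, hm⟩ : ∃ m, 2 ^ k = m + 3 := ⟨2 ^ k - 3, by
      have : 2 ^ 2 ≤ 2 ^ k := Nat.pow_le_pow_right (by norm_num) hk
      omega⟩
    rw [hm]
    exact pronSyl_psl_char 2 _
  · exact pronSyl_psl_odd h2 hk

end

end H9.Pn
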