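import Cfsg.Agent.H9.Pn5
import Cfsg.Agent.S0023

/-! Subgroups behaving like `SL₂(q)`, `q` odd, inside an ambient group. -/

set_option autoImplicit false

namespace H9.Pn

open Subgroup H10 Cfsg

variable {G : Type*} [Group G]

theorem S2.gen {z : G} (h : S2 G z) [Finite G] {Q : Subgroup G} (hQ : IsSylowIn 2 Q ⊤)
    (hna : ¬ ∀ a ∈ Q, ∀ b ∈ Q, Commute a b)
    {g g' : G} (hg : g ∈ normalizer (Q : Set G)) (h1 : g ∉ Q) (hg' : g' ∈ normalizer (Q : Set G)) :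
    g' ∈ zpowers g ⊔ Q := by
  have hodd : ∃ y ∈ zpowers g, Odd (orderOf y) ∧ y ∉ Q := by
    by_contra hn
    push Not at hn
    exact h1 (mem_of_odd_part hQ trivial hg hn)
  rcases h.q8_or hQ.isPGroup hna with h2 | ⟨⟨e⟩⟩
  · obtain ⟨y, hy, ho, hyQ⟩ := hodd
    exact absurd (h2 y (zpowers_le.mpr hg hy) ho ▸ one_mem Q) hyQ
  obtain ⟨y, hy, ho, hyQ⟩ := hodd
  have hyn := zpowers_le.mpr hg hy
  obtain ⟨u, hu, -, -, hu2, -⟩ := H6.q8_exists e
  obtain ⟨n, hn, hnu⟩ := H6.q8_odd_conj e ho hyn (fun hc => hyQ (by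
    rw [h.cent hna ho fun s hs => (hc s hs).symm]; exact one_mem _)) hu hu2
    (conj_mem_of_mem_NN hg' hu) (H6.conj_sq_ne_one hu2 g')
  have hnN : n ∈ normalizer (Q : Set G) := sup_le (zpowers_le.mpr hyn) le_normalizer hn
  have h3 := h.mem_of_fix hQ e hna (mul_mem (inv_mem hnN) hg') hu hu2 (by
    have : n⁻¹ * g' * u * (n⁻¹ * g')⁻¹ = u := by
      calc _ = n⁻¹ * (g' * u * g'⁻¹) * n := by group
        _ = u := by rw [← hnu]; group
    rw [this]; exact mem_zpowers u)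
  have : n ∈ zpowers g ⊔ Q := sup_le_sup_right (zpowers_le.mpr hy) Q hn
  simpa using mul_mem this (mem_sup_right h3)

/-- a subgroup with the abstract properties of `SL₂(q)`, `q` a power of `p` -/
structure S2In (L : Subgroup G) (z : G) (p : ℕ) : Prop where
  zm : z ∈ L
  inv : ∀ x ∈ L, x * x = 1 → x = 1 ∨ x = z
  zc : ∀ x ∈ L, Commute z x
  z2 : z * z = 1
  ca : ∀ a ∈ L, a * a ≠ 1 → ∀ x ∈ L, ∀ y ∈ L, Commute a x → Commute a y → Commute x y
  up : ∀ x ∈ L, ∀ a ∈ L, x ^ p = 1 → (x * a) ^ p = 1 → (x⁻¹ * a) ^ p = 1 → a ^ p = 1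
  na : ∀ Q, IsSylowIn 2 Q L → ¬ ∀ a ∈ Q, ∀ b ∈ Q, Commute a b

theorem nn_sub {Q L : Subgroup G} [Finite G] (hQ : Q ≤ L) {g : L} :
    g ∈ normalizer ((Q.subgroupOf L : Subgroup L) : Set L) ↔ (g : G) ∈ normalizer (Q : Set G) :=
  ⟨fun h => mem_NN_of_conj_mem fun s hs => conj_mem_of_mem_NN h (x := ⟨s, hQ hs⟩) hs,
    fun h => mem_NN_of_conj_mem fun _ hs => conj_mem_of_mem_NN (H := Q) h hs⟩

namespace S2In

variable {L : Subgroup G} {z : G} {p : ℕ} (h : S2In L z p)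
include h

theorem s2 : S2 L ⟨z, h.zm⟩ where
  inv x hx := (h.inv x x.2 (congrArg Subtype.val hx)).imp Subtype.ext Subtype.ext
  zc x := Subtype.ext (h.zc x x.2)
  z2 := Subtype.ext h.z2
  ca a ha x y hx hy := Subtype.ext (h.ca a a.2 (fun e => ha (Subtype.ext e)) x x.2 y y.2
    (congrArg Subtype.val hx) (congrArg Subtype.val hy))

theorem na' {Q : Subgroup G} (hQ : IsSylowIn 2 Q L) :
    ¬ ∀ a ∈ Q.subgroupOf L, ∀ b ∈ Q.subgroupOf L, Commute a b := fun hc =>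
  h.na Q hQ fun a ha b hb => congrArg Subtype.val (hc ⟨a, hQ.le ha⟩ ha ⟨b, hQ.le hb⟩ hb)

variable [Finite G] {Q : Subgroup G} (hQ : IsSylowIn 2 Q L)
include hQ

theorem pp {H : Subgroup G} (h1 : Q ≤ H) (h2 : H ≤ L) {g : G} (hgL : g ∈ L)
    (hg : g ∈ normalizer (Q : Set G)) : g ∈ H ⊔ cj g H ∨ H = Q := by
  rcases h.s2.pp (isSylowIn_subgroupOf_top hQ) (h.na' hQ) (H := H.subgroupOf L)
    (fun x hx => h1 hx) (g := ⟨g, hgL⟩) ((nn_sub hQ.le).mpr hg) with h3 | h3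
  · left
    have : H.subgroupOf L ⊔ cj ⟨g, hgL⟩ (H.subgroupOf L) ≤ (H ⊔ cj g H).subgroupOf L :=
      sup_le (fun x hx => mem_sup_left hx) (fun x hx => mem_sup_right (mem_cj.mpr (mem_cj.mp hx :)))
    exact this h3
  · right
    refine le_antisymm (fun x hx => ?_) h1
    exact (h3.le (show (⟨x, h2 hx⟩ : L) ∈ H.subgroupOf L from hx) :)

theorem gen {g g' : G} (hgL : g ∈ L) (hg : g ∈ normalizer (Q : Set G)) (h1 : g ∉ Q)
    (hgL' : g' ∈ L) (hg' : g' ∈ normalizer (Q : Set G)) : g' ∈ zpowers g ⊔ Q := by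
  have := h.s2.gen (isSylowIn_subgroupOf_top hQ) (h.na' hQ) (g := ⟨g, hgL⟩) (g' := ⟨g', hgL'⟩)
    ((nn_sub hQ.le).mpr hg) h1 ((nn_sub hQ.le).mpr hg')
  have h2 : zpowers (⟨g, hgL⟩ : L) ⊔ Q.subgroupOf L ≤ (zpowers g ⊔ Q).subgroupOf L :=
    sup_le (zpowers_le.mpr (mem_sup_left (mem_zpowers g))) (fun x hx => mem_sup_right hx)
  exact h2 this

theorem comm {g g' : G} (hgL : g ∈ L) (hg : g ∈ normalizer (Q : Set G))
    (hgL' : g' ∈ L) (hg' : g' ∈ normalizer (Q : Set G)) : g * g' * g⁻¹ * g'⁻¹ ∈ Q :=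
  h.s2.comm_mem (isSylowIn_subgroupOf_top hQ) (h.na' hQ) (g := ⟨g, hgL⟩) (g' := ⟨g', hgL'⟩)
    ((nn_sub hQ.le).mpr hg) ((nn_sub hQ.le).mpr hg')

theorem q8 {g : G} (hgL : g ∈ L) (hg : g ∈ normalizer (Q : Set G)) (h1 : g ∉ Q) :
    Nonempty (Q ≃* QuaternionGroup 2) := by
  rcases h.s2.q8_or (isSylowIn_subgroupOf_top hQ).isPGroup (h.na' hQ) with h2 | ⟨⟨e⟩⟩
  · refine absurd (mem_of_odd_part hQ hgL hg fun y hy ho => ?_) h1
    have := h2 ⟨y, zpowers_le.mpr hgL hy⟩ ((nn_sub hQ.le).mpr (zpowers_le.mpr hg hy))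
      (by rwa [← orderOf_coe])
    rw [show y = 1 from congrArg Subtype.val this]; exact one_mem _
  · exact ⟨(subgroupOfEquivOfLe hQ.le).symm.trans e⟩

theorem cent {x : G} (hx : x ∈ L) (ho : Odd (orderOf x)) (hc : ∀ s ∈ Q, Commute x s) : x = 1 := by
  by_cases h1 : x * x = 1
  · exact eq_one_of_odd_of_two ho (k := 1) (by rw [pow_one, pow_two, h1])
  · exact absurd (fun a ha b hb => h.ca x hx h1 a (hQ.le ha) b (hQ.le hb) (hc a ha) (hc b hb))
      (h.na Q hQ)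

omit hQ in
theorem even [Fact p.Prime] {X : Subgroup G} (hX : X ≤ L) {t t' : G} (ht : t ∈ X) (ht' : t' ∈ X)
    (hp : t ^ p = 1) (hp' : t' ^ p = 1) (hc : ¬ Commute t t') : ¬ Odd (Nat.card X) := by
  intro ho
  have hb : X ≠ ⊥ := by
    rintro rfl
    rw [mem_bot] at ht
    exact hc (ht ▸ Commute.one_left _)
  obtain ⟨A, hAX, hA1, hXA, hA⟩ := exists_comm_of_odd le_rfl le_normalizer ho hb
  have hsq : ∀ a ∈ A, a ≠ 1 → a * a ≠ 1 := fun a ha h1 h2 =>
    h1 (eq_one_of_odd_of_two (Odd.of_dvd_nat ho (orderOf_dvd_natCard _ (hAX ha))) (k := 1)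
      (by rw [pow_one, pow_two, h2]))
  have key : ∀ t ∈ X, t ^ p = 1 → ∃ a ∈ A, a ≠ 1 ∧ Commute a t := by
    intro t ht hp
    by_contra hn
    push Not at hn
    have k1 : ∀ s ∈ X, s ^ p = 1 → (∀ a ∈ A, Commute a s → a = 1) → ∀ a ∈ A, (s * a) ^ p = 1 := by
      intro s hs hsp hf a ha
      let φ : A → A := fun b => ⟨s⁻¹ * b * s * (b : G)⁻¹,
        mul_mem (conj_mem_of_mem_NN' (hXA hs) b.2) (inv_mem b.2)⟩
      have hφ : Function.Injective φ := fun b b' e => by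
        have e1 : s⁻¹ * b * s * (b : G)⁻¹ = s⁻¹ * b' * s * (b' : G)⁻¹ := congrArg Subtype.val e
        have := hf ((b' : G)⁻¹ * b) (mul_mem (inv_mem b'.2) b.2) (by
          change _ * s = s * _
          calc _ = (b' : G)⁻¹ * s * (s⁻¹ * b * s * (b : G)⁻¹) * b := by group
            _ = _ := by rw [e1]; group)
        exact Subtype.ext (inv_mul_eq_one.mp this).symm
      obtain ⟨b, hb⟩ := (Finite.injective_iff_surjective.mp hφ) ⟨a, ha⟩
      have e1 : s⁻¹ * b * s * (b : G)⁻¹ = a := congrArg Subtype.val hb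
      rw [show s * a = b * s * (b : G)⁻¹ by rw [← e1]; group, conj_pow, hsp]; simp
    have k2 : ∀ a ∈ A, a ^ p = 1 := fun a ha => by
      have f1 : ∀ a ∈ A, Commute a t → a = 1 := fun a ha hc => by
        by_contra h1; exact hn a ha h1 hc
      exact h.up t (hX ht) a (hX (hAX ha)) hp (k1 t ht hp f1 a ha)
        (k1 t⁻¹ (inv_mem ht) (by rw [inv_pow, hp, inv_one])
          (fun a ha hc => f1 a ha (by simpa using hc.inv_right)) a ha)
    have hAp : IsPGroup p A := fun a => ⟨1, Subtype.ext (by simpa using k2 a a.2)⟩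
    have hR : IsPGroup p ↥(A ⊔ zpowers t) := IsPGroup.to_sup_of_normal_left' hAp
      (isPGroup_zpowers (k := 1) (by rwa [pow_one])) (zpowers_le.mpr (hXA ht))
    haveI := hR.isNilpotent
    haveI : (A.subgroupOf (A ⊔ zpowers t)).Normal := (normal_subgroupOf_iff_le_normalizer
      le_sup_left).mpr (sup_le le_normalizer (zpowers_le.mpr (hXA ht)))
    obtain ⟨a, ha, ha1, hac⟩ := exists_mem_center_ne_one (M := A.subgroupOf (A ⊔ zpowers t)) (by
      rw [Ne, subgroupOf_eq_bot, disjoint_iff, inf_eq_left.mpr le_sup_left]; exact hA1)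
    exact hn a ha (fun e => ha1 (Subtype.ext e))
      (congrArg Subtype.val (mem_center_iff.mp hac ⟨t, mem_sup_right (mem_zpowers t)⟩)).symm
  obtain ⟨a, ha, ha1, hat⟩ := key t ht hp
  obtain ⟨a', ha', ha1', hat'⟩ := key t' ht' hp'
  have := h.ca a' (hX (hAX ha')) (hsq a' ha' ha1') a (hX (hAX ha)) t' (hX ht') (hA _ ha' _ ha) hat'
  exact hc (h.ca a (hX (hAX ha)) (hsq a ha ha1) t (hX ht) t' (hX ht') hat this)

end S2In

open Matrix MatrixGroups in
theorem sl2_up {F : Type*} [Field F] (p : ℕ) [Fact p.Prime] [CharP F p] (x a : SL(2, F))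
    (hx : x ^ p = 1) (h1 : (x * a) ^ p = 1) (h2 : (x⁻¹ * a) ^ p = 1) (h : (2 : F) ≠ 0) :
    a ^ p = 1 := by
  have cp : CharP (Matrix (Fin 2) (Fin 2) F) p := inferInstance
  have pw : ∀ (y : SL(2, F)) (n : ℕ), (y ^ n).1 = y.1 ^ n := fun y n => rfl
  have tr : ∀ y : SL(2, F), y ^ p = 1 → y.1 0 0 + y.1 1 1 = 2 := fun y hy => by
    have e : (y.1 - 1) ^ p = 0 := by
      rw [sub_pow_char_of_commute _ (Commute.one_right _), ← pw, hy, one_pow]; exact sub_self _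
    have d := congrArg det e
    rw [det_pow, det_zero] at d
    have d2 := pow_eq_zero_iff (Fact.out : p.Prime).ne_zero |>.mp d
    have d3 := y.2
    rw [det_fin_two] at d2 d3
    simp at d2
    linear_combination d3 - d2
  have iv : (x⁻¹).1 = ![![x.1 1 1, -x.1 0 1], ![-x.1 1 0, x.1 0 0]] :=
    congrArg Subtype.val (SpecialLinearGroup.SL2_inv_expl x)
  have t0 := tr x hx
  have t1 := tr _ h1
  have t2 := tr _ h2
  simp only [slm, iv] at t1 t2
  simp at t2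
  have ta : a.1 0 0 + a.1 1 1 = 2 := by
    apply mul_left_cancel₀ h
    linear_combination t1 + t2 - (a.1 0 0 + a.1 1 1) * t0
  have d3 := a.2
  rw [det_fin_two] at d3
  have e : (a.1 - 1) ^ 2 = 0 := by
    rw [pow_two]
    refine H22.fin2_ext ?_ ?_ ?_ ?_ <;> simp only [H22.mul_fin2] <;> simp
    · linear_combination (a.1 0 0) * ta - d3
    · linear_combination (a.1 0 1) * ta
    · linear_combination (a.1 1 0) * ta
    · linear_combination (a.1 1 1) * ta - d3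
  apply Subtype.ext
  have e2 : (a.1 - 1) ^ p = 0 := pow_eq_zero_of_le (Fact.out : p.Prime).two_le e
  rw [sub_pow_char_of_commute _ (Commute.one_right _), one_pow, sub_eq_zero] at e2
  exact e2

/-- a central involution `c` with `z` isolated modulo `c` -/
theorem zstar_mod [Finite G] {Y : Subgroup G} {c z : G} (hc : ∀ y ∈ Y, Commute c y)
    (hc2 : c * c = 1) (hz : z ∈ Y) (hz2 : z * z = 1) (hz1 : z ≠ 1) (hzc : z ≠ c)
    (hiso : ∀ y ∈ Y, (z * (y * z * y⁻¹)) ^ 4 = 1 → y * z * y⁻¹ = z ∨ y * z * y⁻¹ = c * z) :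
    ∃ O : Subgroup G, O ≤ Y ∧ Y ≤ normalizer (O : Set G) ∧ Odd (Nat.card O) ∧
      ∀ y ∈ Y, z * y * z⁻¹ * y⁻¹ ∈ O ∨ c * (z * y * z⁻¹ * y⁻¹) ∈ O := by
  haveI : Fact (Nat.Prime 2) := ⟨Nat.prime_two⟩
  let C : Subgroup Y := (zpowers c).subgroupOf Y
  have hC : ∀ x : Y, x ∈ C ↔ (x : G) = 1 ∨ (x : G) = c := fun x => H6.mem_zpowers_ord2 hc2
  have hCc : ∀ x ∈ C, ∀ y : Y, Commute x y := fun x hx y => Subtype.ext (by
    rcases (hC x).mp hx with e | e
    · change (x : G) * y = y * x; rw [e]; simp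
    · change (x : G) * y = y * x; rw [e]; exact hc y y.2)
  haveI : C.Normal := ⟨fun x hx y => by rwa [← (hCc x hx y).eq, mul_inv_cancel_right]⟩
  have hI : IsIsolatedInvolution (QuotientGroup.mk' C ⟨z, hz⟩) := by
    refine ⟨orderOf_eq_prime ?_ ?_, fun g hg => ?_⟩
    · rw [← map_pow, show (⟨z, hz⟩ : Y) ^ 2 = 1 from Subtype.ext (by simpa [pow_two] using hz2),
        map_one]
    · rw [Ne, QuotientGroup.mk'_apply, QuotientGroup.eq_one_iff, hC]
      exact fun h => h.elim hz1 hzc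
    · obtain ⟨y, rfl⟩ := QuotientGroup.mk'_surjective C g
      rw [← map_inv, ← map_mul, ← map_mul] at hg ⊢
      have h1 : (⟨z, hz⟩ * (y * ⟨z, hz⟩ * y⁻¹)) ^ 2 ∈ C := by
        rw [← QuotientGroup.eq_one_iff, ← QuotientGroup.mk'_apply, map_pow, map_mul, hg.mul_pow,
          ← map_pow, ← map_pow, conj_pow,
          show (⟨z, hz⟩ : Y) ^ 2 = 1 from Subtype.ext (by simpa [pow_two] using hz2)]
        simp
      have h2 := hiso y y.2 (by
        rw [show 4 = 2 * 2 from rfl, pow_mul]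
        rcases (hC _).mp h1 with e | e
        · exact (congrArg (· ^ 2) e).trans (one_pow 2)
        · exact (congrArg (· ^ 2) e).trans (by rw [pow_two, hc2]))
      rw [QuotientGroup.mk'_apply, QuotientGroup.mk'_apply, eq_comm, QuotientGroup.eq, hC]
      refine h2.imp (fun e => ?_) (fun e => ?_)
      · change z⁻¹ * (y * z * (y : G)⁻¹) = 1; rw [e, inv_mul_cancel]
      · change z⁻¹ * (y * z * (y : G)⁻¹) = c; rw [e, (hc z hz).eq, inv_mul_cancel_left]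
  let O' : Subgroup Y := (pPrimeCore 2 (Y ⧸ C)).comap (QuotientGroup.mk' C)
  have hCO : C ≤ O' := fun x hx => by
    rw [mem_comap, QuotientGroup.mk'_apply, (QuotientGroup.eq_one_iff x).mpr hx]; exact one_mem _
  have hodd : ∀ x ∈ O', ∃ m, Odd m ∧ x ^ m ∈ C := fun x hx =>
    ⟨_, Nat.coprime_two_right.mp (H1.coprime_card_pPrimeCore 2 (G := Y ⧸ C)), by
      rw [← QuotientGroup.eq_one_iff, ← QuotientGroup.mk'_apply, map_pow]
      exact congrArg Subtype.val (pow_card_eq_one' (x := (⟨_, hx⟩ : pPrimeCore 2 (Y ⧸ C))))⟩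
  have hC2 : IsPGroup 2 C := (isPGroup_zpowers (k := 1) (by rw [pow_one, pow_two, hc2])).comap_subtype
  have hsyl : IsSylowIn 2 C O' := ⟨hCO, hC2, fun P hP h1 h2 => le_antisymm (fun x hx => by
    obtain ⟨m, hm, hxm⟩ := hodd x (h2 hx)
    obtain ⟨k, hk⟩ := orderOf_eq_pow_of_mem hP hx
    exact H6.mem_of_pow_mem_of_coprime hxm (hk ▸ Nat.Coprime.pow_left _
      (Nat.coprime_two_left.mpr hm))) h1⟩
  have hcyc : IsCyclic C := by
    refine isCyclic_of_injective (G' := zpowers c) ((Y.subtype.comp C.subtype).codRestrict _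
      fun x => x.2) fun a b e => Subtype.ext (Subtype.ext (congrArg (fun x : zpowers c => (x : G)) e))
  obtain ⟨O, hO1, -, hO3, hO4⟩ := exists_core_of_npc (H19.npc_of_isSylowIn hsyl hcyc)
  have hOo : ∀ x ∈ O, Odd (orderOf x) := fun x hx => Odd.of_dvd_nat hO3 (orderOf_dvd_natCard _ hx)
  refine ⟨O.map Y.subtype, map_subtype_le _, ?_, by
    rwa [card_map_of_injective Y.subtype_injective], fun y hy => ?_⟩
  · rw [le_NN_iff]
    rintro g hg _ ⟨x, hx, rfl⟩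
    refine ⟨⟨g, hg⟩ * x * ⟨g, hg⟩⁻¹, hO4 _ ((inferInstance : O'.Normal).conj_mem _ (hO1 hx) _) ?_, rfl⟩
    rw [← MulAut.conj_apply, MulEquiv.orderOf_eq]; exact hOo x hx
  · have h1 : ⟨z, hz⟩ * ⟨y, hy⟩ * (⟨z, hz⟩ : Y)⁻¹ * (⟨y, hy⟩ : Y)⁻¹ ∈ O' := by
      rw [mem_comap]
      simpa only [map_mul, map_inv] using H19.zstar hI (QuotientGroup.mk' C ⟨y, hy⟩)
    obtain ⟨m, hm, h2⟩ := hodd _ h1
    rcases (hC _).mp h2 with e | e
    · exact Or.inl ⟨_, hO4 _ h1 (Odd.of_dvd_nat hm (orderOf_dvd_of_pow_eq_one (Subtype.ext e))), rfl⟩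
    · right
      have hcY : c ∈ Y := e ▸ Subtype.prop _
      have hcC : (⟨c, hcY⟩ : Y) ∈ C := (hC _).mpr (Or.inr rfl)
      refine ⟨⟨c, hcY⟩ * _, hO4 _ (mul_mem (hCO hcC) h1) (Odd.of_dvd_nat hm
        (orderOf_dvd_of_pow_eq_one ?_)), rfl⟩
      rw [(hCc _ hcC _).mul_pow]
      apply Subtype.ext
      obtain ⟨k, rfl⟩ := hm
      change c ^ (2 * k + 1) * _ = 1
      rw [e, pow_succ, pow_mul, pow_two, hc2, one_pow, one_mul, hc2]

end H9.Pn
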