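import Cfsg.Agent.H9.Pq1

/-! Fundamental involutions of symplectic groups. -/

set_option autoImplicit false

namespace H9.Pn

open Module H23 H23.Form H22 H10 Subgroup Cfsg

open Matrix MatrixGroups in
theorem s2in_of_hom {G F : Type*} [Group G] [Field F] [Fintype F] (h2 : (2 : F) ≠ 0) (p : ℕ)
    [Fact p.Prime] [CharP F p] (θ : SL(2, F) →* G) (hθ : Function.Injective θ) :
    S2In θ.range (θ (-1)) p := by
  have h := s2_sl h2
  refine ⟨⟨_, rfl⟩, ?_, ?_, by rw [← map_mul, h.z2, map_one], ?_, ?_, fun Q hQ hc => ?_⟩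
  · rintro _ ⟨x, rfl⟩ hx
    rw [← map_mul, map_eq_one_iff _ hθ] at hx
    exact (h.inv x hx).imp (fun e => by rw [e, map_one]) (fun e => by rw [e])
  · rintro _ ⟨x, rfl⟩; exact (h.zc x).map θ
  · rintro _ ⟨a, rfl⟩ ha _ ⟨x, rfl⟩ _ ⟨y, rfl⟩ hx hy
    exact (h.ca a (fun e => ha (by rw [← map_mul, e, map_one])) x y (Commute.of_map hθ hx)
      (Commute.of_map hθ hy)).map θ
  · rintro _ ⟨x, rfl⟩ _ ⟨a, rfl⟩ h1 h3 h4
    rw [← map_pow, map_eq_one_iff _ hθ] at h1 ⊢
    rw [← map_mul, ← map_pow, map_eq_one_iff _ hθ] at h3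
    rw [← map_inv, ← map_mul, ← map_pow, map_eq_one_iff _ hθ] at h4
    exact sl2_up p x a h1 h3 h4 h2
  · have := sylowIn_comap hθ hQ le_rfl
    rw [show θ.range.comap θ = ⊤ from eq_top_iff.mpr fun g _ => ⟨g, rfl⟩] at this
    exact sl2_sylow_nonab h2 this fun a ha b hb => Commute.of_map hθ (hc _ ha _ hb)

variable {F V : Type*} [Field F] [AddCommGroup V] [Module F V] {Φ : Form (RingHom.id F) V}

/-- a symplectic space in odd characteristic -/
structure Alt (Φ : Form (RingHom.id F) V) : Prop where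
  nd : Φ.Nondeg
  ε : Φ.ε = -1
  κ : Φ.κ = 0
  two : (2 : F) ≠ 0

theorem Alt.self (h : Alt Φ) (v : V) : Φ.B v v = 0 := (sing_alt h.ε h.κ v).1

theorem Alt.skew (h : Alt Φ) (x y : V) : Φ.B y x = -Φ.B x y := by
  rw [Φ.symm, h.ε]; simp

theorem Alt.restrict (h : Alt Φ) {U W : Submodule F V} (d : Dec Φ U W) : Alt (Φ.restrict U) :=
  ⟨d.nondeg h.nd, h.ε, h.κ, h.two⟩

theorem Dec.mem_of_orth {U W : Submodule F V} (d : Dec Φ U W) (hΦ : Φ.Nondeg) {v : V}
    (h : ∀ w ∈ W, Φ.B w v = 0) : v ∈ U := by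
  obtain ⟨u, w, rfl⟩ := d.exists_add v
  have : w = 0 := d.symm.nondeg hΦ w fun w' => by
    have := h w' w'.2
    rw [map_add, d.symm.orth _ w'.2 _ u.2, zero_add] at this
    exact Φ.B_eq_zero_symm this
  simp [this]

open MatrixGroups in
theorem exists_sl2_equiv [FiniteDimensional F V] (h : Alt Φ) (hV : finrank F V = 2) :
    ∃ e : SL(2, F) ≃* Φ.O, e (-1) = ng Φ := by
  let b := finBasisOfFinrankEq F V hV
  have h01 : Φ.B (b 0) (b 1) ≠ 0 := fun e => b.ne_zero 0 (h.nd _ fun y => by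
    rw [← b.sum_repr y, Fin.sum_univ_two, map_add, map_smul, map_smul, e, h.self]; simp)
  have key : ∀ p q r s : F, Φ.B (p • b 0 + q • b 1) (r • b 0 + s • b 1) =
      (p * s - r * q) * Φ.B (b 0) (b 1) := fun p q r s => by
    simp only [map_add, map_smul, LinearMap.add_apply, LinearMap.smul_apply, h.self,
      h.skew (b 0) (b 1), smul_eq_mul]
    ring
  let ρ : Φ.O →* SL(2, F) :=
    { toFun := fun g => ⟨LinearMap.toMatrix b b g.1.toLinearMap, by
        apply mul_right_cancel₀ h01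
        have e := O_B Φ g (b 0) (b 1)
        rw [← b.sum_repr (g.1 (b 0)), ← b.sum_repr (g.1 (b 1)), Fin.sum_univ_two,
          Fin.sum_univ_two, key] at e
        rw [Matrix.det_fin_two, one_mul]
        simp only [LinearMap.toMatrix_apply, LinearEquiv.coe_coe]
        exact e⟩
      map_one' := Subtype.ext (LinearMap.toMatrix_id b)
      map_mul' := fun g g' => Subtype.ext (LinearMap.toMatrix_comp b b b _ _) }
  have hρ : Function.Bijective ρ := by
    refine ⟨fun g g' e => Subtype.ext (LinearEquiv.toLinearMap_injective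
      ((LinearMap.toMatrix b b).injective (congrArg Subtype.val e))), fun A => ?_⟩
    have d := A.2
    rw [Matrix.det_fin_two] at d
    obtain ⟨g, -, h0, h1⟩ := exists_two h.κ b (A.1 0 0) (A.1 1 0) (A.1 0 1) (A.1 1 1) d
      (fun i j => by
        fin_cases i <;> fin_cases j
        · exact (h.self _).trans (h.self _).symm
        · exact (key _ _ _ _).trans (by rw [d, one_mul]; rfl)
        · refine (key _ _ _ _).trans ?_
          change _ = Φ.B (b 1) (b 0)
          rw [h.skew (b 0)]; linear_combination (-Φ.B (b 0) (b 1)) * d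
        · exact (h.self _).trans (h.self _).symm)
    refine ⟨g, Subtype.ext (fin2_ext ?_ ?_ ?_ ?_)⟩ <;>
      change LinearMap.toMatrix b b g.1.toLinearMap _ _ = _ <;>
      simp [LinearMap.toMatrix_apply, h0, h1]
  refine ⟨(MulEquiv.ofBijective ρ hρ).symm, ?_⟩
  rw [MulEquiv.symm_apply_eq]
  apply Subtype.ext
  change -1 = LinearMap.toMatrix b b (ng Φ).1.toLinearMap
  rw [show (ng Φ).1.toLinearMap = -LinearMap.id from LinearMap.ext fun v => by simp, map_neg,
    LinearMap.toMatrix_id]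

/-- isometries supported on the `-1`-eigenspace of `z` -/
def LL (z : Φ.O) : Subgroup Φ.O where
  carrier := {g | ∀ v ∈ ev z 1, g.1 v = v}
  mul_mem' ha hb v hv := by rw [O_mul_apply, hb v hv, ha v hv]
  one_mem' _ _ := rfl
  inv_mem' {g} hg v hv := by
    conv_lhs => rw [← hg v hv]
    exact O_inv_apply_apply Φ g v

theorem mem_LL {z g : Φ.O} : g ∈ LL z ↔ ∀ v ∈ ev z 1, g.1 v = v := Iff.rfl

theorem self_mem_LL (z : Φ.O) : z ∈ LL z := fun v hv => by rw [mem_ev.mp hv, one_smul]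

theorem ev_conj {g z : Φ.O} {a : F} {v : V} : v ∈ ev (g * z * g⁻¹) a ↔ (g⁻¹).1 v ∈ ev z a := by
  rw [mem_ev, mem_ev, O_mul_apply, O_mul_apply]
  constructor
  · intro e; rw [← map_smul, ← e, O_inv_apply_apply]
  · intro e; rw [e, map_smul, O_apply_inv_apply]

theorem ev_conj' {g z : Φ.O} {a : F} {v : V} : g.1 v ∈ ev (g * z * g⁻¹) a ↔ v ∈ ev z a := by
  rw [ev_conj, O_inv_apply_apply]

theorem LL_conj {g z x : Φ.O} : g * x * g⁻¹ ∈ LL (g * z * g⁻¹) ↔ x ∈ LL z := by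
  constructor
  · intro h v hv
    have := h _ (ev_conj'.mpr hv)
    rw [O_mul_apply, O_mul_apply, O_inv_apply_apply] at this
    exact g.1.injective this
  · intro h v hv
    rw [O_mul_apply, O_mul_apply, h _ (ev_conj.mp hv), O_apply_inv_apply]

theorem cj_LL (g z : Φ.O) : cj g (LL z) = LL (g * z * g⁻¹) := by
  ext x
  rw [mem_cj, ← LL_conj (g := g)]
  simp [mul_assoc]

theorem finrank_ev_conj (g z : Φ.O) (a : F) :
    finrank F (ev (g * z * g⁻¹) a) = finrank F (ev z a) := by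
  have : ev (g * z * g⁻¹) a = (ev z a).map g.1.toLinearMap := by
    ext v
    rw [ev_conj, Submodule.mem_map]
    exact ⟨fun h => ⟨_, h, O_apply_inv_apply Φ g v⟩, by
      rintro ⟨w, hw, rfl⟩; rwa [LinearEquiv.coe_coe, O_inv_apply_apply]⟩
  rw [this, LinearEquiv.finrank_map_eq]

theorem comm_le_NN_LL {z x : Φ.O} (hx : Commute x z) : x ∈ normalizer (LL z : Set Φ.O) := by
  rw [mem_NN, cj_LL, hx.eq, mul_inv_cancel_right]

namespace Alt

variable (h : Alt Φ) {z : Φ.O} (hz : z * z = 1)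
include h hz

theorem dec : Dec Φ (ev z 1) (ev z (-1)) := dec_ev h.two hz

theorem sub_mem {g : Φ.O} (hg : g ∈ LL z) (v : V) : g.1 v - v ∈ ev z (-1) :=
  (h.dec hz).symm.mem_of_orth h.nd fun w hw => by
    rw [map_sub, ← hg w hw, O_B, hg w hw, sub_self]

theorem pres {g : Φ.O} (hg : g ∈ LL z) {v : V} (hv : v ∈ ev z (-1)) : g.1 v ∈ ev z (-1) := by
  simpa using add_mem (h.sub_mem hz hg v) hv

theorem comm {g : Φ.O} (hg : g ∈ LL z) : Commute z g :=
  (h.dec hz).ext (fun v hv => by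
      rw [O_mul_apply, O_mul_apply, hg v hv, mem_ev.mp hv, one_smul, hg v hv])
    (fun v hv => by
      rw [O_mul_apply, O_mul_apply, mem_ev.mp (h.pres hz hg hv), mem_ev.mp hv, map_smul])

theorem LL_ext {g g' : Φ.O} (hg : g ∈ LL z) (hg' : g' ∈ LL z)
    (e : ∀ v ∈ ev z (-1), g.1 v = g'.1 v) : g = g' :=
  (h.dec hz).ext (fun v hv => by rw [hg v hv, hg' v hv]) e

theorem mem_LL_of {g : Φ.O} (hg : ∀ v, g.1 v - v ∈ ev z (-1)) : g ∈ LL z := fun v hv => by
  rw [← sub_eq_zero]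
  refine h.nd _ fun w => ?_
  obtain ⟨w, rfl⟩ := g.1.surjective w
  rw [map_sub, LinearMap.sub_apply, O_B, ← map_sub, ← neg_sub, map_neg,
    (h.dec hz).orth v hv _ (hg w), neg_zero]

theorem cp_conj {x y g : Φ.O} (hx : Commute x z) (hy : y ∈ LL z)
    (e : ∀ v ∈ ev z (-1), y.1 v = x.1 v) (hg : g ∈ LL z) : x * g * x⁻¹ = y * g * y⁻¹ := by
  refine h.LL_ext hz (conj_mem_of_mem_NN (comm_le_NN_LL hx) hg)
    (mul_mem (mul_mem hy hg) (inv_mem hy)) fun v hv => ?_
  have h1 := h.pres hz (inv_mem hy) hv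
  have h2 : (x⁻¹).1 v = (y⁻¹).1 v := by
    conv_lhs => rw [← O_apply_inv_apply Φ y v, e _ h1, O_inv_apply_apply]
  simp only [O_mul_apply]
  rw [h2, e _ (h.pres hz hg h1)]

variable [FiniteDimensional F V]

theorem exists_cp {x : Φ.O} (hx : Commute x z) :
    ∃ y ∈ LL z, ∀ v ∈ ev z (-1), y.1 v = x.1 v :=
  ⟨(h.dec hz).ds (1, res x _ fun _ hv => ev_of_commute hx hv),
    fun v hv => (h.dec hz).ds_left _ ⟨v, hv⟩, fun v hv => (h.dec hz).ds_right _ ⟨v, hv⟩⟩

theorem LL_eq : LL z = ((h.dec hz).ds.comp (MonoidHom.inr _ _)).range := by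
  ext g
  constructor
  · intro hg
    exact ⟨res g _ fun _ hv => h.pres hz hg hv, (h.dec hz).ext
      (fun v hv => ((h.dec hz).ds_left _ ⟨v, hv⟩).trans (hg v hv).symm)
      (fun v hv => (h.dec hz).ds_right _ ⟨v, hv⟩)⟩
  · rintro ⟨k, rfl⟩ v hv
    exact (h.dec hz).ds_left _ ⟨v, hv⟩

theorem inr_inj : Function.Injective ((h.dec hz).ds.comp (MonoidHom.inr _ _)) :=
  (h.dec hz).ds_inj.comp fun _ _ e => congrArg Prod.snd e

theorem s2in [Fintype F] (h2 : finrank F (ev z (-1)) = 2) (p : ℕ) [Fact p.Prime] [CharP F p] :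
    S2In (LL z) z p := by
  obtain ⟨e, he⟩ := exists_sl2_equiv (h.restrict (h.dec hz).symm) h2
  have := s2in_of_hom h.two p (((h.dec hz).ds.comp (MonoidHom.inr _ _)).comp e.toMonoidHom)
    ((h.inr_inj hz).comp e.injective)
  rw [MonoidHom.range_comp, MonoidHom.range_eq_top.mpr e.surjective, ← MonoidHom.range_eq_map,
    ← h.LL_eq hz] at this
  convert this
  change z = (h.dec hz).ds (1, e (-1))
  rw [he]
  exact (h.dec hz).ext (fun v hv => by rw [(h.dec hz).ds_left _ ⟨v, hv⟩, mem_ev.mp hv]; simp)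
    (fun v hv => by rw [(h.dec hz).ds_right _ ⟨v, hv⟩, mem_ev.mp hv]; simp)

theorem card_LL [Fintype F] (h2 : finrank F (ev z (-1)) = 2) :
    Nat.card (LL z) = Fintype.card F * (Fintype.card F ^ 2 - 1) := by
  rw [h.LL_eq hz, ← Nat.card_congr (MonoidHom.ofInjective (h.inr_inj hz)).toEquiv,
    card_O_alt 1 _ (h.restrict (h.dec hz).symm).nd h.ε h.κ h2]
  simp

end Alt

/-- fundamental involution -/
def FI (z : Φ.O) : Prop := z * z = 1 ∧ finrank F (ev z (-1)) = 2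

theorem FI.conj {z : Φ.O} (hz : FI z) (g : Φ.O) : FI (g * z * g⁻¹) :=
  ⟨by rw [conj_mul, hz.1]; simp, by rw [finrank_ev_conj, hz.2]⟩

theorem FI.exists_ne {z : Φ.O} (hz : FI z) : ∃ v ∈ ev z (-1), v ≠ 0 := by
  haveI := Module.nontrivial_of_finrank_pos (R := F) (M := ev z (-1)) (by rw [hz.2]; norm_num)
  obtain ⟨v, hv⟩ := _root_.exists_ne (0 : ev z (-1))
  exact ⟨v, v.2, fun e => hv (Subtype.ext e)⟩

theorem Alt.eq_zero (h : Alt Φ) {z : Φ.O} {v : V} (h1 : v ∈ ev z 1) (h2 : v ∈ ev z (-1)) :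
    v = 0 := by
  rw [mem_ev] at h1 h2
  have : (2 : F) • v = 0 := by
    rw [h1] at h2
    rw [two_smul]; nth_rw 1 [← one_smul F v]; rw [h2]; simp
  exact (smul_eq_zero.mp this).resolve_left h.two

theorem FI.ne_one (h : Alt Φ) {z : Φ.O} (hz : FI z) : z ≠ 1 := by
  rintro rfl
  obtain ⟨v, hv, h0⟩ := hz.exists_ne
  exact h0 (h.eq_zero (by rw [mem_ev]; simp) hv)

/-- involutions with the same `-1`-eigenspace agree -/
theorem Alt.eq_of_ev_le [FiniteDimensional F V] (h : Alt Φ) {z y : Φ.O} (hz : FI z) (hy : FI y)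
    (e : ev z (-1) ≤ ev y (-1)) : z = y := by
  have e' : ev z (-1) = ev y (-1) := Submodule.eq_of_le_of_finrank_eq e (hz.2.trans hy.2.symm)
  refine h.LL_ext hz.1 (self_mem_LL z) (h.mem_LL_of hz.1 fun v => e' ▸ h.sub_mem hy.1
    (self_mem_LL y) v) fun v hv => ?_
  rw [mem_ev.mp hv, mem_ev.mp (e hv)]

end H9.Pn
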