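import Cfsg.Agent.H9.Pq2

/-! Subgroups of symplectic groups meeting fundamental subgroups in quaternion groups. -/

set_option autoImplicit false

namespace H9.Pn

open Module H23 H23.Form H22 H10 Subgroup Cfsg

variable {F V : Type*} [Field F] [AddCommGroup V] [Module F V] {Φ : Form (RingHom.id F) V}

/-- transvections -/
def Tv (c : Φ.O) : Prop := c ≠ 1 ∧ ∃ e : V, ∀ v, ∃ a : F, c.1 v - v = a • e

/-- `H` meets the fundamental subgroup of `z` in a quaternion Sylow subgroup -/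
structure QZ (H : Subgroup Φ.O) (z : Φ.O) : Prop where
  mem : z ∈ H
  fi : FI z
  q8 : Nonempty (↥(H ⊓ LL z) ≃* QuaternionGroup 2)
  syl : IsSylowIn 2 (H ⊓ LL z) (LL z)

theorem QZ.conj {H : Subgroup Φ.O} {z : Φ.O} (q : QZ H z) {g : Φ.O} (hg : g ∈ H) :
    QZ H (g * z * g⁻¹) := by
  have e : cj g (H ⊓ LL z) = H ⊓ LL (g * z * g⁻¹) := by rw [cj_inf, cj_eq_of_mem hg, cj_LL]
  refine ⟨mul_mem (mul_mem hg q.mem) (inv_mem hg), q.fi.conj g, ?_, ?_⟩
  · obtain ⟨f⟩ := q.q8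
    rw [← e]
    exact ⟨(cjEquiv g _).symm.trans f⟩
  · rw [← e, ← cj_LL]; exact q.syl.cj g

variable [FiniteDimensional F V] [Fintype F]

theorem QZ.ij (h : Alt Φ) {H : Subgroup Φ.O} {z : Φ.O} (q : QZ H z) :
    ∃ i ∈ H ⊓ LL z, ∃ j ∈ H ⊓ LL z, i * i = z ∧ j * j = z ∧ j * i = z * (i * j) ∧
      j ∉ zpowers i := by
  obtain ⟨p, hp⟩ := CharP.exists F
  haveI : Fact p.Prime := ⟨CharP.char_is_prime F p⟩
  have s := h.s2in q.fi.1 q.fi.2 p
  obtain ⟨e⟩ := q.q8
  obtain ⟨i, hi, j, hj, hi2, hji⟩ := H6.q8_exists e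
  obtain ⟨h1, h2, -⟩ := H6.q8_rel e hi hj hi2 hji
  have h3 : i * i = z := (s.inv _ (mul_mem hi.2 hi.2) (H6.q8_pow_four e hi)).resolve_left hi2
  refine ⟨i, hi, j, hj, h3, h2.trans h3, ?_, hji⟩
  have h4 : i⁻¹ = z * i := by
    rw [inv_eq_iff_mul_eq_one, ← mul_assoc, ← (s.zc i hi.2).eq, mul_assoc, h3, q.fi.1]
  rw [← mul_assoc, ← h4, ← h1, inv_mul_cancel_right]

omit [Fintype F] in
theorem iso_rad (h : Alt Φ) {z z' : Φ.O} (hz : FI z) (hz' : FI z')
    (hn : ¬ ((∀ v ∈ ev z (-1), v ∈ ev z' (-1) → v = 0) ∧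
      ∀ w ∈ ev z (-1) ⊔ ev z' (-1), w ∈ ev z 1 → w ∈ ev z' 1 → w = 0))
    {r : V} (hr : r ∈ ev z (-1) ⊔ ev z' (-1)) (hr1 : r ∈ ev z 1) : r ∈ ev z' 1 := by
  set W := ev z (-1) ⊔ ev z' (-1) with hW
  have hdec : ∀ w ∈ W, ∃ u ∈ ev z (-1), ∃ r ∈ W ⊓ ev z 1, w = u + r := fun w hw => by
    obtain ⟨a, b, rfl⟩ := (h.dec hz.1).exists_add w
    exact ⟨b, b.2, a, ⟨by simpa using sub_mem hw (Submodule.mem_sup_left b.2), a.2⟩, add_comm _ _⟩
  have d1 := Submodule.finrank_sup_add_finrank_inf_eq (ev z (-1)) (ev z' (-1))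
  have d2 := Submodule.finrank_sup_add_finrank_inf_eq (ev z (-1)) (W ⊓ ev z 1)
  have e1 : ev z (-1) ⊔ (W ⊓ ev z 1) = W := le_antisymm (sup_le le_sup_left inf_le_left)
    fun w hw => by
      obtain ⟨u, hu, r, hr, rfl⟩ := hdec w hw
      exact Submodule.add_mem_sup hu hr
  have e2 : ev z (-1) ⊓ (W ⊓ ev z 1) = ⊥ := eq_bot_iff.mpr fun v hv => h.eq_zero hv.2.2 hv.1
  rw [e1, e2, finrank_bot, hz.2] at d2
  rw [← hW, hz.2, hz'.2] at d1
  have hiso : ∀ a ∈ W ⊓ ev z 1, ∀ b ∈ W ⊓ ev z 1, Φ.B a b = 0 := by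
    intro a ha b hb
    rw [not_and_or] at hn
    rcases hn with hn | hn
    · push Not at hn
      obtain ⟨v, h1, h2, h3⟩ := hn
      have : 0 < finrank F ↥(ev z (-1) ⊓ ev z' (-1)) := by
        rw [Module.finrank_pos_iff_exists_ne_zero]
        exact ⟨⟨v, h1, h2⟩, fun e => h3 (congrArg Subtype.val e)⟩
      obtain ⟨t, ht⟩ := finrank_le_one_iff.mp (show finrank F ↥(W ⊓ ev z 1) ≤ 1 by omega)
      obtain ⟨c1, e1⟩ := ht ⟨a, ha⟩
      obtain ⟨c2, e2⟩ := ht ⟨b, hb⟩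
      rw [← show c1 • (t : V) = a from congrArg Subtype.val e1,
        ← show c2 • (t : V) = b from congrArg Subtype.val e2, B_smul_left, B_smul_right, h.self]
      simp
    · push Not at hn
      obtain ⟨w, h1, h2, h3, h4⟩ := hn
      have hw : ∀ x ∈ W, Φ.B w x = 0 := fun x hx => by
        obtain ⟨x1, hx1, x2, hx2, rfl⟩ := Submodule.mem_sup.mp hx
        rw [map_add, (h.dec hz.1).orth _ h2 _ hx1, (h.dec hz'.1).orth _ h3 _ hx2, add_zero]
      by_contra hab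
      have li : LinearIndependent F (![⟨w, h1, h2⟩, ⟨a, ha⟩, ⟨b, hb⟩] : Fin 3 → ↥(W ⊓ ev z 1)) := by
        rw [Fintype.linearIndependent_iff]
        intro g hg
        have e : g 0 • w + g 1 • a + g 2 • b = 0 := by
          simpa [Fin.sum_univ_three] using congrArg Subtype.val hg
        have e1 := congrArg (fun x => Φ.B x b) e
        have e2 := congrArg (fun x => Φ.B x a) e
        simp only [map_add, LinearMap.add_apply, B_smul_left, hw _ ha.1, hw _ hb.1, h.self,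
          h.skew a b, map_zero, LinearMap.zero_apply, RingHom.id_apply] at e1 e2
        have g1 : g 1 = 0 := by simpa [hab] using e1
        have g2 : g 2 = 0 := by simpa [hab] using e2
        have g0 : g 0 = 0 := by simpa [g1, g2, h4] using e
        intro i; fin_cases i <;> assumption
      have := li.fintype_card_le_finrank
      rw [Fintype.card_fin] at this
      omega
  refine (h.dec hz'.1).mem_of_orth h.nd fun u' hu' => ?_
  obtain ⟨u, hu, r', hr', rfl⟩ := hdec u' (Submodule.mem_sup_right hu')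
  rw [map_add, LinearMap.add_apply, (h.dec hz.1).symm.orth _ hu _ hr1, hiso _ hr' _ ⟨hr, hr1⟩,
    add_zero]

theorem QZ.nd (h : Alt Φ) {H : Subgroup Φ.O} {z z' : Φ.O} (q : QZ H z) (hT : ∀ c ∈ H, ¬ Tv c)
    (hz' : FI z') (hH : z' ∈ H) (hne : z ≠ z') :
    (∀ v ∈ ev z (-1), v ∈ ev z' (-1) → v = 0) ∧
      ∀ w ∈ ev z (-1) ⊔ ev z' (-1), w ∈ ev z 1 → w ∈ ev z' 1 → w = 0 := by
  by_contra hn
  have hz := q.fi
  have r1 := fun r => iso_rad h hz hz' hn (r := r)
  have r2 := fun r => iso_rad h hz' hz (fun H => hn ⟨fun v a b => H.1 v b a,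
    fun w a b c => H.2 w (by rwa [sup_comm]) c b⟩) (r := r)
  rw [sup_comm] at r2
  set U := ev z (-1) with hU
  set W := U ⊔ ev z' (-1) with hW
  set R := W ⊓ ev z 1 with hR
  have UW : ∀ u ∈ U, u ∈ W := fun u hu => Submodule.mem_sup_left hu
  have zz : ∀ v, z.1 (z.1 v) = v := fun v => by rw [← O_mul_apply, hz.1, O_one_apply]
  have zz' : ∀ v, z'.1 (z'.1 v) = v := fun v => by rw [← O_mul_apply, hz'.1, O_one_apply]
  have zW : ∀ v, z.1 v - v ∈ W := fun v => UW _ (h.sub_mem hz.1 (self_mem_LL z) v)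
  have zW' : ∀ v, z'.1 v - v ∈ W := fun v =>
    Submodule.mem_sup_right (h.sub_mem hz'.1 (self_mem_LL z') v)
  have RW : ∀ r ∈ R, ∀ w ∈ W, Φ.B r w = 0 := fun r hr x hx => by
    obtain ⟨x1, hx1, x2, hx2, rfl⟩ := Submodule.mem_sup.mp hx
    rw [map_add, (h.dec hz.1).orth _ hr.2 _ hx1, (h.dec hz'.1).orth _ (r1 r hr.1 hr.2) _ hx2,
      add_zero]
  let n := z * z'
  let X : V →ₗ[F] V := n.1.toLinearMap - LinearMap.id
  have hX : ∀ v, X v = n.1 v - v := fun v => rfl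
  have X1 : ∀ v, X v ∈ W := fun v => by
    have : X v = (z.1 (z'.1 v) - z'.1 v) + (z'.1 v - v) := by rw [hX, O_mul_apply]; abel
    rw [this]; exact add_mem (zW _) (zW' _)
  have X3 : ∀ r ∈ R, X r = 0 := fun r hr => by
    rw [hX, O_mul_apply, mem_ev.mp (r1 r hr.1 hr.2), one_smul, mem_ev.mp hr.2, one_smul, sub_self]
  have X2 : ∀ w ∈ W, X w ∈ R := fun w hw => by
    have a1 : z'.1 w + w ∈ R := by
      have b1 : z'.1 w + w ∈ W := by
        have := add_mem (zW' w) (add_mem hw hw)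
        rwa [← add_assoc, sub_add_cancel] at this
      exact ⟨b1, r2 _ b1 (by rw [mem_ev, map_add, zz', one_smul, add_comm])⟩
    have a2 : z.1 w + w ∈ R := by
      refine ⟨?_, mem_ev.mpr (by rw [map_add, zz, one_smul, add_comm])⟩
      have := add_mem (zW w) (add_mem hw hw)
      rwa [← add_assoc, sub_add_cancel] at this
    have : X w = (z'.1 w + w) - (z.1 w + w) := by
      have e := mem_ev.mp a1.2
      rw [map_add, one_smul] at e
      rw [hX, O_mul_apply, ← e]; abel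
    rw [this]; exact sub_mem a1 a2
  let ψ : V →ₗ[F] V := (2 : F)⁻¹ • ((LinearMap.id - z.1.toLinearMap) ∘ₗ X)
  have hψ : ∀ v, ψ v = (2 : F)⁻¹ • (X v - z.1 (X v)) := fun v => rfl
  have ψU : ∀ v, ψ v ∈ U := fun v => Submodule.smul_mem _ _ (by
    rw [← neg_sub]; exact neg_mem (h.sub_mem hz.1 (self_mem_LL z) _))
  have ψR : ∀ v, X v - ψ v ∈ R := fun v => ⟨sub_mem (X1 v) (UW _ (ψU v)), mem_ev.mpr (by
    rw [hψ, map_sub, map_smul, map_sub, zz]
    have := h.two
    match_scalars <;> field_simp <;> norm_num)⟩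
  have BX : ∀ u ∈ W, ∀ v, Φ.B (X u) v = -Φ.B u (ψ v) := fun u hu v => by
    have e := O_B Φ n u v
    rw [← sub_add_cancel (n.1 u) u, ← sub_add_cancel (n.1 v) v, ← hX, ← hX] at e
    simp only [map_add, LinearMap.add_apply, RW _ (X2 u hu) _ (X1 v)] at e
    have e2 := RW _ (ψR v) u hu
    rw [map_sub, LinearMap.sub_apply, h.skew u, h.skew u] at e2
    linear_combination e + e2
  -- the additive monoid of commutators
  let A : AddSubmonoid (V →ₗ[F] V) :=
    { carrier := {f | (∀ u ∈ U, f u ∈ U) ∧ ∃ c ∈ H, ∀ v, c.1 v = v + X (f (ψ v))}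
      zero_mem' := ⟨fun _ _ => zero_mem _, 1, one_mem _, fun v => by simp⟩
      add_mem' := by
        rintro f g ⟨f1, c, hc, f2⟩ ⟨g1, c', hc', g2⟩
        refine ⟨fun u hu => add_mem (f1 u hu) (g1 u hu), c * c', mul_mem hc hc', fun v => ?_⟩
        rw [O_mul_apply, g2, map_add, f2, f2 (X _), hψ (X _), X3 _ (X2 _ (UW _ (g1 _ (ψU v))))]
        simp only [map_zero, sub_self, smul_zero, add_zero, LinearMap.add_apply, map_add]
        abel }
  have memA : ∀ a ∈ H ⊓ LL z, a * a = z → (2 : F) • a.1.toLinearMap ∈ A := by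
    intro a ha ha2
    have aR : ∀ r ∈ R, a.1 r = r := fun r hr => ha.2 r hr.2
    let y := a * n * a⁻¹
    let Y : V →ₗ[F] V := y.1.toLinearMap - LinearMap.id
    have hY : ∀ v, Y v = a.1 (X ((a⁻¹).1 v)) := fun v => by
      change a.1 (n.1 ((a⁻¹).1 v)) - v = _
      rw [hX, map_sub, O_apply_inv_apply]
    have aU : ∀ v, (a⁻¹).1 v - v ∈ U := h.sub_mem hz.1 (inv_mem ha.2)
    have Y2 : ∀ w ∈ W, Y w = X ((a⁻¹).1 w) ∧ Y w ∈ R := fun w hw => by
      have := X2 _ (by simpa using add_mem (UW _ (aU w)) hw : (a⁻¹).1 w ∈ W)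
      rw [hY, aR _ this]; exact ⟨rfl, this⟩
    have Y3 : ∀ r ∈ R, Y r = 0 := fun r hr => by
      rw [hY, (inv_mem ha.2 : a⁻¹ ∈ LL z) r hr.2, X3 r hr, map_zero]
    have Y1 : ∀ v, Y v - a.1 (ψ v) ∈ R := fun v => by
      have e : Y v - a.1 (ψ v) = a.1 (X ((a⁻¹).1 v - v) + (X v - ψ v)) := by
        rw [hY]; simp only [map_sub, map_add]; abel
      have := add_mem (X2 _ (UW _ (aU v))) (ψR v)
      rwa [e, aR _ this]
    have Y0 : ∀ v, Y v ∈ W := fun v => by
      simpa using add_mem (Y1 v).1 (UW _ (h.pres hz.1 ha.2 (ψU v)))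
    have XY : ∀ v, X (Y v) = X (a.1 (ψ v)) := fun v => by
      rw [← sub_eq_zero, ← map_sub, X3 _ (Y1 v)]
    have YX : ∀ v, Y (X v) = -X (a.1 (ψ v)) := fun v => by
      have e1 : Y (X v) = Y (ψ v) := by rw [← sub_eq_zero, ← map_sub, Y3 _ (ψR v)]
      have e2 : (a⁻¹).1 (ψ v) = -a.1 (ψ v) := by
        apply a.1.injective
        rw [O_apply_inv_apply, map_neg, ← O_mul_apply, ha2, mem_ev.mp (ψU v)]; simp
      rw [e1, (Y2 _ (UW _ (ψU v))).1, e2, map_neg]
    refine ⟨fun u hu => Submodule.smul_mem _ _ (h.pres hz.1 ha.2 hu), n * y * (y * n)⁻¹,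
      mul_mem (mul_mem (mul_mem q.mem hH) (mul_mem (mul_mem ha.1 (mul_mem q.mem hH)) (inv_mem ha.1)))
        (inv_mem (mul_mem (mul_mem (mul_mem ha.1 (mul_mem q.mem hH)) (inv_mem ha.1))
          (mul_mem q.mem hH))), fun v' => ?_⟩
    obtain ⟨v, rfl⟩ := (y * n).1.surjective v'
    have en : ∀ v, n.1 v = v + X v := fun v => by rw [hX]; abel
    have ey : ∀ v, y.1 v = v + Y v := fun v => by change _ = v + (y.1 v - v); abel
    have e0 : ψ ((y * n).1 v) = ψ v := by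
      have : (y * n).1 v = v + (X v + Y (n.1 v)) := by rw [O_mul_apply, ey, en]; abel
      have hr := X2 _ (add_mem (X1 v) (Y0 (n.1 v)))
      rw [this, map_add, hψ (_ + _), mem_ev.mp hr.2]; simp
    rw [O_mul_apply, O_inv_apply_apply, e0, O_mul_apply _ n y, O_mul_apply _ y n, en, ey, ey, en]
    simp only [map_add, XY, YX, LinearMap.smul_apply, map_smul, LinearEquiv.coe_coe]
    module
  have fin : ∀ f ∈ A, (∃ e, ∀ v, ∃ a : F, f (ψ v) = a • e) →
      (∃ v v', Φ.B (f (ψ v)) (ψ v') ≠ 0) → False := by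
    rintro f ⟨f1, c, hc, f2⟩ ⟨e, he⟩ ⟨v, v', hv⟩
    refine hT c hc ⟨fun h1 => hv ?_, X e, fun w => ?_⟩
    · have := f2 v
      rw [h1, O_one_apply, left_eq_add] at this
      have e2 := BX _ (UW _ (f1 _ (ψU v))) v'
      rw [this] at e2
      simpa using e2
    · obtain ⟨a, ha⟩ := he w
      exact ⟨a, by rw [f2, ha, map_smul]; abel⟩
  obtain ⟨i, hi, j, hj, hi2, hj2, hij, -⟩ := q.ij h
  have hk2 : i * j * (i * j) = z := by
    calc _ = i * (j * i) * j := by group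
      _ = (i * z) * i * (j * j) := by rw [hij]; group
      _ = z := by rw [← (h.comm hz.1 hi.2).eq, mul_assoc z, hi2, hj2, hz.1, one_mul]
  have II : ∀ u ∈ U, i.1 (i.1 u) = -u := fun u hu => by
    rw [← O_mul_apply, hi2, mem_ev.mp hu, neg_one_smul]
  have JJ : ∀ u ∈ U, j.1 (j.1 u) = -u := fun u hu => by
    rw [← O_mul_apply, hj2, mem_ev.mp hu, neg_one_smul]
  have iU : ∀ u ∈ U, i.1 u ∈ U := fun u hu => h.pres hz.1 hi.2 hu
  have jU : ∀ u ∈ U, j.1 u ∈ U := fun u hu => h.pres hz.1 hj.2 hu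
  have JI : ∀ u ∈ U, j.1 (i.1 u) = -i.1 (j.1 u) := fun u hu => by
    rw [← O_mul_apply, hij, O_mul_apply, O_mul_apply, mem_ev.mp (iU _ (jU u hu)), neg_one_smul]
  have ndU : ∀ u ∈ U, (∀ u' ∈ U, Φ.B u u' = 0) → u = 0 := fun u hu H =>
    h.eq_zero ((h.dec hz.1).mem_of_orth h.nd fun w hw => Φ.B_eq_zero_symm (H w hw)) hu
  have line : ∀ u ∈ U, u ≠ 0 → ∀ w ∈ U, Φ.B u w = 0 → ∃ a : F, w = a • u := by
    intro u hu h0 w hw hb
    by_contra hc
    push Not at hc
    have li : LinearIndependent F (![⟨u, hu⟩, ⟨w, hw⟩] : Fin 2 → U) := by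
      rw [LinearIndependent.pair_iff' (fun e => h0 (congrArg Subtype.val e))]
      exact fun a e => hc a (congrArg Subtype.val e).symm
    let b := basisOfLinearIndependentOfCardEqFinrank li (by rw [hz.2]; simp)
    refine h0 (ndU u hu fun u' hu' => ?_)
    have := congrArg Subtype.val (b.sum_repr ⟨u', hu'⟩)
    simp only [Fin.sum_univ_two, b, coe_basisOfLinearIndependentOfCardEqFinrank] at this
    simp at this
    rw [← this, map_add, map_smul, map_smul, h.self, hb]; simp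
  have ψne : ∃ v, ψ v ≠ 0 := by
    by_contra hc
    push Not at hc
    apply hne
    symm
    refine h.eq_of_ev_le hz' hz fun u hu => ?_
    have : X u = 0 := h.nd _ fun v => by rw [BX u (Submodule.mem_sup_right hu), hc]; simp
    rw [hX, O_mul_apply, mem_ev.mp hu, map_smul, sub_eq_zero] at this
    rw [mem_ev]
    linear_combination (norm := module) -this
  by_cases hs : ∀ u ∈ U, ∃ v, ψ v = u
  · obtain ⟨p, hp⟩ := CharP.exists F
    haveI : NeZero p := ⟨(CharP.char_is_prime F p).ne_zero⟩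
    obtain ⟨a, b, hab⟩ := CharP.sq_add_sq F p (-1)
    push_cast at hab
    have hf := add_mem (add_mem (nsmul_mem (memA i hi hi2) a) (nsmul_mem (memA j hj hj2) b))
      (memA _ (mul_mem hi hj) hk2)
    set f := a • ((2 : F) • i.1.toLinearMap) + b • ((2 : F) • j.1.toLinearMap) +
      (2 : F) • (i * j).1.toLinearMap with hfd
    have fv : ∀ v, f v = (2 : F) • ((a : F) • i.1 v + (b : F) • j.1 v + i.1 (j.1 v)) := fun v => by
      simp only [hfd, LinearMap.add_apply, LinearMap.smul_apply, LinearEquiv.coe_coe, O_mul_apply,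
        ← Nat.cast_smul_eq_nsmul F]
      module
    have ff : ∀ u ∈ U, f (f u) = 0 := fun u hu => by
      simp only [fv, map_add, map_smul, II _ hu, JJ _ hu, JI _ hu, II _ (jU _ hu),
        JI _ (jU _ hu), map_neg]
      linear_combination (norm := module) hab • ((-4 : F) • u)
    obtain ⟨u0, hu0, h0⟩ : ∃ u ∈ U, f u ≠ 0 := by
      by_contra hc
      push Not at hc
      obtain ⟨u, hu, h0⟩ := hz.exists_ne
      have e1 := hc _ (iU _ (jU u hu))
      have e2 := congrArg (fun v => i.1 (j.1 v)) (hc u hu)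
      simp only [fv, map_add, map_smul, II _ hu, JJ _ hu, JI _ hu, II _ (jU _ hu),
        JI _ (jU _ hu), map_neg, map_zero] at e1 e2
      have : ((2 : F) * 2) • u = 0 := by linear_combination (norm := module) -e1 - e2
      exact h0 ((smul_eq_zero.mp this).resolve_left (mul_ne_zero h.two h.two))
    have fsym : ∀ u ∈ U, ∀ w ∈ U, Φ.B (f u) w = -Φ.B u (f w) := by
      have g1 : ∀ a : Φ.O, a * a = z → ∀ u, ∀ w ∈ U, Φ.B (a.1 u) w = -Φ.B u (a.1 w) := by
        intro a ha u w hw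
        rw [← O_B Φ a u, ← O_mul_apply, ha, mem_ev.mp hw, map_smul]; simp
      intro u _ w hw
      have := g1 _ hk2 u w hw
      simp only [O_mul_apply] at this
      simp only [fv, map_add, map_smul, LinearMap.add_apply, LinearMap.smul_apply, g1 i hi2 u w hw,
        g1 j hj2 u w hw, this, smul_eq_mul]
      ring
    refine fin f hf ⟨f u0, fun v => line _ (hf.1 _ hu0) h0 _ (hf.1 _ (ψU v)) ?_⟩ ?_
    · rw [h.skew, fsym _ (ψU v) _ (hf.1 _ hu0), ff _ hu0]; simp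
    · by_contra hc
      push Not at hc
      refine h0 (ndU _ (hf.1 _ hu0) fun u' hu' => ?_)
      obtain ⟨v, rfl⟩ := hs u0 hu0
      obtain ⟨v', rfl⟩ := hs u' hu'
      exact hc v v'
  · push Not at hs
    obtain ⟨u1, hu1, h1⟩ := hs
    obtain ⟨v0, h0⟩ := ψne
    have l1 : ∀ v, ∃ a : F, ψ v = a • ψ v0 := fun v => by
      refine line _ (ψU v0) h0 _ (ψU v) ?_
      by_contra hb
      have hb' : Φ.B (ψ v) (ψ v0) ≠ 0 := fun e => hb (Φ.B_eq_zero_symm e)
      obtain ⟨c, hc⟩ := line _ (ψU v0) h0 (u1 - (Φ.B (ψ v0) u1 / Φ.B (ψ v0) (ψ v)) • ψ v)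
        (sub_mem hu1 (Submodule.smul_mem _ _ (ψU v))) (by
          rw [map_sub, map_smul, smul_eq_mul, div_mul_cancel₀ _ hb, sub_self])
      exact h1 (c • v0 + (Φ.B (ψ v0) u1 / Φ.B (ψ v0) (ψ v)) • v) (by
        rw [map_add, map_smul, map_smul, ← hc, sub_add_cancel])
    have l2 : ∀ a ∈ H ⊓ LL z, a * a = z → Φ.B (ψ v0) (a.1 (ψ v0)) = 0 := fun a ha ha2 => by
      by_contra hb
      refine fin _ (memA a ha ha2) ⟨a.1 (ψ v0), fun v => ?_⟩ ⟨v0, v0, ?_⟩
      · obtain ⟨c, hc⟩ := l1 v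
        exact ⟨2 * c, by rw [hc]; simp [smul_smul, mul_comm]⟩
      · rw [LinearMap.smul_apply, B_smul_left]
        exact mul_ne_zero h.two fun e => hb (Φ.B_eq_zero_symm e)
    obtain ⟨c1, e1⟩ := line _ (ψU v0) h0 _ (iU _ (ψU v0)) (l2 i hi hi2)
    obtain ⟨c2, e2⟩ := line _ (ψU v0) h0 _ (jU _ (ψU v0)) (l2 j hj hj2)
    have e3 := JI _ (ψU v0)
    rw [e1, e2, map_smul, map_smul, e1, e2] at e3
    have e4 : (2 : F) • i.1 (j.1 (ψ v0)) = 0 := by
      rw [e2, map_smul, e1]; linear_combination (norm := module) e3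
    have e5 := (smul_eq_zero.mp e4).resolve_left h.two
    rw [LinearEquiv.map_eq_zero_iff, LinearEquiv.map_eq_zero_iff] at e5
    exact h0 e5

end H9.Pn
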