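import Cfsg.Agent.H9.Pq3

/-! Odd-order subgroups normalized by a fundamental quaternion group; the `Z*`-argument. -/

set_option autoImplicit false

namespace H9.Pn

open Module H23 H23.Form H22 H10 Subgroup Cfsg
open scoped commutatorElement

variable {F V : Type*} [Field F] [AddCommGroup V] [Module F V] {Φ : Form (RingHom.id F) V}
  [FiniteDimensional F V]

theorem not_comm_conj (h : Alt Φ) {z i x : Φ.O} (hz : FI z) (hi : i ∈ LL z) (hi2 : i * i = z)
    (hx : ∀ v ∈ ev z (-1), x.1 v ∈ ev z (-1) → v = 0) : ¬ Commute x (i * x * i⁻¹) := by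
  intro hc
  obtain ⟨w, hw, hxw⟩ : ∃ w ∈ ev z 1, x.1 w ∉ ev z 1 := by
    by_contra hn
    push Not at hn
    obtain ⟨u, hu, h0⟩ := hz.exists_ne
    refine h0 (hx u hu ((h.dec hz.1).symm.mem_of_orth h.nd fun w hw => ?_))
    obtain ⟨w', e⟩ := (res x _ hn).1.surjective ⟨w, hw⟩
    have e' : x.1 w' = w := congrArg Subtype.val e
    rw [← e', O_B, (h.dec hz.1).orth _ w'.2 _ hu]
  obtain ⟨w1, u, e⟩ := (h.dec hz.1).exists_add (x.1 w)
  have e1 : x.1 ((i * x * i⁻¹).1 w) = (i * x * i⁻¹).1 (x.1 w) := by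
    rw [← O_mul_apply, hc.eq, O_mul_apply]
  simp only [O_mul_apply] at e1
  rw [(inv_mem hi : i⁻¹ ∈ LL z) w hw, e] at e1
  simp only [map_add, hi w1 w1.2, (inv_mem hi : i⁻¹ ∈ LL z) w1 w1.2] at e1
  have e2 : (i⁻¹).1 u = -i.1 u := by
    apply i.1.injective
    rw [O_apply_inv_apply, map_neg, ← O_mul_apply, hi2, mem_ev.mp u.2]; simp
  rw [e2, map_neg, map_neg] at e1
  have a1 := h.sub_mem hz.1 hi (x.1 w1)
  have a2 := h.sub_mem hz.1 hi (x.1 (i.1 u))
  have e3 : x.1 ((2 : F) • i.1 u) = (i.1 (x.1 w1) - x.1 w1) - (i.1 (x.1 (i.1 u)) - x.1 (i.1 u)) := by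
    rw [map_smul]; linear_combination (norm := module) e1
  have := hx _ (Submodule.smul_mem _ _ (h.pres hz.1 hi u.2)) (e3 ▸ sub_mem a1 a2)
  have e5 := (smul_eq_zero.mp this).resolve_left h.two
  rw [LinearEquiv.map_eq_zero_iff] at e5
  exact hxw (by rw [e, e5, add_zero]; exact w1.2)

omit [FiniteDimensional F V] in
theorem pow_eq_one_of_sq (p : ℕ) [CharP F p] {a : Φ.O} (ha : ∀ v, a.1 (a.1 v - v) = a.1 v - v) :
    a ^ p = 1 := by
  refine O_ext _ fun v => ?_
  have : ∀ k : ℕ, (a ^ k).1 v = v + (k : F) • (a.1 v - v) := fun k => by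
    induction k with
    | zero => simp
    | succ k ih => rw [pow_succ', O_mul_apply, ih, map_add, map_smul, ha]; push_cast; module
  rw [this, CharP.cast_eq_zero, zero_smul, add_zero]; rfl

omit [FiniteDimensional F V] in
theorem exists_fixed (p : ℕ) [Fact p.Prime] [CharP F p] {y : Φ.O} {k : ℕ} (hy : y ^ p ^ k = 1)
    (h1 : y ≠ 1) : ∃ v, y.1 v - v ≠ 0 ∧ y.1 (y.1 v - v) = y.1 v - v := by
  let f : Module.End F V := y.1.toLinearMap - 1
  obtain ⟨v0, hv0⟩ : ∃ v, f v ≠ 0 := by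
    by_contra hn
    push Not at hn
    exact h1 (O_ext _ fun v => sub_eq_zero.mp (hn v))
  haveI : Nontrivial V := nontrivial_of_ne _ _ hv0
  haveI : CharP (Module.End F V) p :=
    charP_of_injective_algebraMap (FaithfulSMul.algebraMap_injective F _) p
  have hf : f ^ p ^ k = 0 := by
    have e : (y.1.toLinearMap : Module.End F V) ^ p ^ k = 1 := by
      have : ∀ n : ℕ, (y.1.toLinearMap : Module.End F V) ^ n = (y ^ n).1.toLinearMap := fun n => by
        induction n with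
        | zero => rfl
        | succ n ih => rw [pow_succ, pow_succ, ih]; rfl
      rw [this, hy]; rfl
    rw [sub_pow_char_pow_of_commute _ _ (Commute.one_right _), e, one_pow, sub_self]
  classical
  have hex : ∃ m, (f ^ (m + 1)) v0 = 0 := ⟨p ^ k, by rw [pow_succ', hf]; simp⟩
  have h0 : Nat.find hex ≠ 0 := fun e => hv0 (by simpa [e] using Nat.find_spec hex)
  obtain ⟨m, hm⟩ := Nat.exists_eq_succ_of_ne_zero h0
  have a1 := Nat.find_spec hex
  have a2 := Nat.find_min hex (m := m) (by omega)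
  rw [hm, pow_succ', pow_succ'] at a1
  rw [pow_succ'] at a2
  exact ⟨(f ^ m) v0, a2, sub_eq_zero.mp a1⟩

variable [Fintype F]

theorem QZ.fix_of_comm (h : Alt Φ) {H : Subgroup Φ.O} {z : Φ.O} (q : QZ H z) {O : Subgroup Φ.O}
    (hOH : O ≤ H) (ho : Odd (Nat.card O)) (hn : H ⊓ LL z ≤ normalizer (O : Set Φ.O)) {a : Φ.O}
    (ha : a ∈ O) (hc : Commute a z) : ∀ v ∈ ev z (-1), a.1 v = v := by
  obtain ⟨p, hp⟩ := CharP.exists F
  haveI : Fact p.Prime := ⟨CharP.char_is_prime F p⟩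
  haveI := finite_O (Φ := Φ)
  obtain ⟨y, hy, e⟩ := h.exists_cp q.fi.1 hc
  have hpow : ∀ n : ℕ, ∀ v ∈ ev z (-1), (y ^ n).1 v = (a ^ n).1 v := fun n => by
    induction n with
    | zero => intro v _; rfl
    | succ n ih =>
      intro v hv
      rw [pow_succ, pow_succ, O_mul_apply, O_mul_apply, ← e v hv, ih _ (h.pres q.fi.1 hy hv)]
  have h1 : y = 1 := (h.s2in q.fi.1 q.fi.2 p).cent q.syl hy
    (Odd.of_dvd_nat (Odd.of_dvd_nat ho (orderOf_dvd_natCard _ ha)) (orderOf_dvd_of_pow_eq_one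
      (h.LL_ext q.fi.1 (pow_mem hy _) (one_mem _) fun v hv => by
        rw [hpow _ v hv, pow_orderOf_eq_one]))) fun s hs => by
    have a1 : a * s * a⁻¹ * s⁻¹ ∈ O := by
      rw [mul_assoc, mul_assoc, ← mul_assoc s]
      exact mul_mem ha (conj_mem_of_mem_NN (hn hs) (inv_mem ha))
    have a2 : a * s * a⁻¹ * s⁻¹ ∈ H ⊓ LL z := mul_mem (mem_inf.mpr ⟨mul_mem (mul_mem (hOH ha) hs.1)
      (H.inv_mem (hOH ha)), conj_mem_of_mem_NN (comm_le_NN_LL hc) hs.2⟩) (inv_mem hs)
    have a3 := eq_one_of_odd_of_mem (Odd.of_dvd_nat ho (orderOf_dvd_natCard _ a1)) q.syl.isPGroup a2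
    rw [h.cp_conj q.fi.1 hc hy e hs.2, mul_inv_eq_one, mul_inv_eq_iff_eq_mul] at a3
    exact a3
  intro v hv
  rw [← e v hv, h1]; rfl

theorem QZ.cent_odd (h : Alt Φ) {H : Subgroup Φ.O} {z : Φ.O} (q : QZ H z) (hT : ∀ c ∈ H, ¬ Tv c)
    (n : ℕ) : ∀ O : Subgroup Φ.O, Nat.card O = n → O ≤ H → Odd (Nat.card O) →
      H ⊓ LL z ≤ normalizer (O : Set Φ.O) → ∀ x ∈ O, Commute z x := by
  obtain ⟨p, hp⟩ := CharP.exists F
  haveI hpp : Fact p.Prime := ⟨CharP.char_is_prime F p⟩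
  haveI : Fact (Nat.Prime 2) := ⟨Nat.prime_two⟩
  haveI := finite_O (Φ := Φ)
  induction n using Nat.strong_induction_on with
  | _ n ih =>
  intro O hO hOH ho hn
  have hz := q.fi
  have hzQ : z ∈ H ⊓ LL z := ⟨q.mem, self_mem_LL z⟩
  have hodd : ∀ x ∈ O, Odd (orderOf x) := fun x hx => Odd.of_dvd_nat ho (orderOf_dvd_natCard _ hx)
  have IH : ∀ O' < O, H ⊓ LL z ≤ normalizer (O' : Set Φ.O) → ∀ x ∈ O', Commute z x :=
    fun O' hlt hn' => ih _ (hO ▸ card_lt_of_lt hlt) O' rfl (hlt.le.trans hOH)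
      (Odd.of_dvd_nat ho (card_dvd_of_le hlt.le)) hn'
  have zi : z⁻¹ = z := inv_eq_of_mul_eq_one_right hz.1
  have h1 : ⁅zpowers z, O⁆ ≤ O := comm_le_right (zpowers_le.mpr (hn hzQ))
  rcases h1.lt_or_eq with h2 | h2
  · intro x hx
    have hy : ⁅z, x⁆ ∈ ⁅zpowers z, O⁆ := commutator_mem_commutator (mem_zpowers z) hx
    have a1 := IH _ h2 (le_NN_commutator (fun s hs => by
      rw [mem_NN, cj_zpowers, ← (h.comm hz.1 hs.2).eq, mul_inv_cancel_right]) hn) _ hy
    refine commutatorElement_eq_one_iff_commute.mp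
      (eq_one_of_odd_of_two (hodd _ (h1 hy)) (k := 1) ?_)
    rw [pow_one, pow_two]
    calc _ = (z * ⁅z, x⁆ * z⁻¹) * ⁅z, x⁆ := by rw [a1.eq, mul_inv_cancel_right]
      _ = (z * z) * x * (z * z)⁻¹ * x⁻¹ := by
        rw [commutatorElement_def]; group
      _ = 1 := by rw [hz.1]; group
  by_contra hc
  push Not at hc
  obtain ⟨x, hx, hzx⟩ := hc
  obtain ⟨r, hr, hrO⟩ : ∃ r, r.Prime ∧ IsPGroup r O := by
    by_contra hc
    push Not at hc
    have : (centralizer {z}).relIndex O = 1 := by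
      rw [Nat.eq_one_iff_not_exists_prime_dvd]
      intro r hr hd
      haveI : Fact r.Prime := ⟨hr⟩
      obtain ⟨k, hk⟩ := q.syl.isPGroup.exists_card_eq
      obtain ⟨P, hP⟩ := Cfsg.Agent.S0023.result _ O hn
        (hk ▸ Nat.Coprime.pow_left _ (Nat.coprime_two_left.mpr ho))
        (Or.inl (by haveI := q.syl.isPGroup.isNilpotent; infer_instance)) r
      have hs := isSylowIn_map_subtype P
      have h3 := IH _ (lt_of_le_of_ne hs.le fun e => hc r hr (e ▸ hs.isPGroup)) hP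
      exact hs.not_dvd_relIndex (hd.trans (relIndex_dvd_of_le_left O fun y hy =>
        mem_centralizer_singleton_iff.mpr (h3 y hy).symm))
    exact hzx (mem_centralizer_singleton_iff.mp (relIndex_eq_one.mp this hx)).symm
  haveI : Fact r.Prime := ⟨hr⟩
  have hne : ∀ x ∈ O, ¬ Commute z x → z ≠ x * z * x⁻¹ := fun x _ hc e =>
    hc (eq_mul_inv_iff_mul_eq.mp e)
  have hND := fun x hx hc => q.nd h hT (hz.conj x) (mul_mem (mul_mem (hOH hx) q.mem)
    (inv_mem (hOH hx))) (hne x hx hc)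
  by_cases hrp : r = p
  · subst hrp
    have hy : z * (x * z * x⁻¹) ∈ O := by
      have := mul_mem (conj_mem_of_mem_NN (hn hzQ) hx) (inv_mem hx)
      rwa [zi, mul_assoc, mul_assoc, ← mul_assoc x] at this
    obtain ⟨k, hk⟩ := hrO ⟨_, hy⟩
    obtain ⟨v, h0, hv⟩ := exists_fixed r (congrArg Subtype.val hk) (fun e => hne x hx hzx (by
      rw [← zi]; nth_rw 2 [zi]; exact (eq_inv_of_mul_eq_one_right e).symm))
    obtain ⟨a1, a2⟩ := hND x hx hzx
    have hz' := hz.conj x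
    set z' := x * z * x⁻¹
    set w := (z * z').1 v - v with hw
    have wW : w ∈ ev z (-1) ⊔ ev z' (-1) := by
      have : w = (z.1 (z'.1 v) - z'.1 v) + (z'.1 v - v) := by rw [hw, O_mul_apply]; abel
      rw [this]
      exact Submodule.add_mem_sup (h.sub_mem hz.1 (self_mem_LL z) _)
        (h.sub_mem hz'.1 (self_mem_LL z') _)
    have zz : ∀ v, z.1 (z.1 v) = v := fun v => by rw [← O_mul_apply, hz.1, O_one_apply]
    have zz' : ∀ v, z'.1 (z'.1 v) = v := fun v => by rw [← O_mul_apply, hz'.1, O_one_apply]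
    have e : z'.1 w = z.1 w := by
      conv_rhs => rw [← hv, O_mul_apply, zz]
    have a3 := a2 (w + z.1 w) (by
      have := add_mem (add_mem wW wW) (Submodule.mem_sup_left (h.sub_mem hz.1 (self_mem_LL z) w))
      rwa [add_assoc, add_sub_cancel] at this)
      (by rw [mem_ev, map_add, zz, one_smul, add_comm])
      (by rw [mem_ev, ← e, map_add, zz', one_smul, add_comm])
    have a4 : z.1 w = -w := eq_neg_of_add_eq_zero_right a3
    exact h0 (a1 w (by rw [mem_ev, a4, neg_one_smul]) (by rw [mem_ev, e, a4, neg_one_smul]))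
  · obtain ⟨A, hAO, hA1, hKA, hA⟩ := exists_comm_of_odd (K := O ⊔ (H ⊓ LL z)) le_sup_left
      (sup_le le_normalizer hn) ho (by rintro rfl; rw [mem_bot] at hx; exact hzx (hx ▸ Commute.one_right z))
    obtain ⟨i, hi, -, -, hi2, -⟩ := q.ij h
    have b1 : ∀ a ∈ A, Commute a z := fun a ha => by
      by_contra hc
      refine not_comm_conj h hz hi.2 hi2 (x := a) (fun v hv hav => ?_)
        (hA _ ha _ (conj_mem_of_mem_NN (hKA (mem_sup_right hi)) ha))
      have := (hND a (hAO ha) fun e => hc e.symm).1 _ hav (ev_conj'.mpr hv)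
      exact a.1.map_eq_zero_iff.mp this
    have b2 : ∀ a ∈ A, ∀ x ∈ O, ∀ v ∈ ev (x * z * x⁻¹) (-1), a.1 v = v := fun a ha x hx v hv => by
      have hm := conj_mem_of_mem_NN' (hKA (mem_sup_left hx)) ha
      have := q.fix_of_comm h hOH ho hn (hAO hm) (b1 _ hm) _ (ev_conj.mp hv)
      rw [O_mul_apply, O_mul_apply, O_apply_inv_apply] at this
      exact (x⁻¹).1.injective this
    let K : Subgroup Φ.O :=
      { carrier := {g | ∀ w, (∀ x ∈ O, w ∈ ev (x * z * x⁻¹) 1) → g.1 w = w}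
        mul_mem' := fun ha hb v hv => by rw [O_mul_apply, hb v hv, ha v hv]
        one_mem' := fun _ _ => rfl
        inv_mem' := fun {g} hg v hv => by
          conv_lhs => rw [← hg v hv]
          exact O_inv_apply_apply Φ g v }
    have hK : ∀ x ∈ O, x * z * x⁻¹ ∈ K := fun x hx w hw => by rw [mem_ev.mp (hw x hx), one_smul]
    have hzK : z ∈ K := by simpa using hK 1 (one_mem _)
    have b3 : O ≤ K := by
      rw [← h2, commutator_le]
      intro g hg x hx
      rw [commutatorElement_def, mul_assoc, mul_assoc, ← mul_assoc x]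
      refine mul_mem (zpowers_le.mpr hzK hg) ?_
      obtain ⟨k, rfl⟩ := hg
      rw [← zpow_neg, ← conj_zpow]
      exact zpow_mem (hK x hx) _
    obtain ⟨⟨a, ha⟩, ha1⟩ := ne_bot_iff_exists_ne_one.mp hA1
    have b4 : a ^ p = 1 := pow_eq_one_of_sq p fun v => b3 (hAO ha) _ fun x hx =>
      (h.dec (hz.conj x).1).mem_of_orth h.nd fun u hu => by
        rw [map_sub, ← b2 a ha x hx u hu, O_B, b2 a ha x hx u hu, sub_self]
    obtain ⟨k, hk⟩ := orderOf_eq_pow_of_mem hrO (hAO ha)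
    have := orderOf_dvd_of_pow_eq_one b4
    rw [hk] at this
    have hc : (r ^ k).Coprime p := Nat.Coprime.pow_left _ ((Nat.coprime_primes hr hpp.out).mpr hrp)
    exact ha1 (Subtype.ext (orderOf_eq_one_iff.mp (hk.trans (hc.eq_one_of_dvd this))))

omit [Fintype F] [FiniteDimensional F V] in
theorem le_one_of_comm (h : Alt Φ) {z z' : Φ.O} (hz : z * z = 1) (hc : Commute z z')
    (hd : ∀ v ∈ ev z (-1), v ∈ ev z' (-1) → v = 0) : ev z' (-1) ≤ ev z 1 := fun v hv => by
  have := hd _ (h.sub_mem hz (self_mem_LL z) v) (sub_mem (ev_of_commute hc hv) hv)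
  rw [mem_ev, one_smul, sub_eq_zero.mp this]

theorem QZ.comm_conj (h : Alt Φ) {H : Subgroup Φ.O} {z : Φ.O} (q : QZ H z) (hT : ∀ c ∈ H, ¬ Tv c)
    (hD : ∀ y ∈ H, (z * (y * z * y⁻¹)) ^ 4 = 1 → Commute z (y * z * y⁻¹)) {g : Φ.O} (hg : g ∈ H) :
    Commute z (g * z * g⁻¹) := by
  haveI := finite_O (Φ := Φ)
  have hz := q.fi
  have hz' := hz.conj g
  have hH' : g * z * g⁻¹ ∈ H := mul_mem (mul_mem hg q.mem) (inv_mem hg)
  refine hD g hg ?_
  by_cases hne : z = g * z * g⁻¹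
  · rw [← hne, hz.1, one_pow]
  set z' := g * z * g⁻¹
  obtain ⟨a1, a2⟩ := q.nd h hT hz' hH' hne
  set W := ev z (-1) ⊔ ev z' (-1) with hW
  have pz : ∀ v ∈ Φ.perp W, v ∈ ev z 1 := fun v hv =>
    (h.dec hz.1).mem_of_orth h.nd fun u hu => hv u (Submodule.mem_sup_left hu)
  have pz' : ∀ v ∈ Φ.perp W, v ∈ ev z' 1 := fun v hv =>
    (h.dec hz'.1).mem_of_orth h.nd fun u hu => hv u (Submodule.mem_sup_right hu)
  have d : Dec Φ W (Φ.perp W) := ⟨h.nd.isCompl_perp (Submodule.disjoint_def.mpr fun v h1 h2 =>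
    a2 v h1 (pz v h2) (pz' v h2)), fun u hu w hw => hw u hu⟩
  let c := d.ds (ng _, 1)
  have c1 : ∀ w ∈ W, c.1 w = -w := fun w hw => by rw [d.ds_left _ ⟨w, hw⟩]; simp
  have c2 : ∀ w ∈ Φ.perp W, c.1 w = w := fun w hw => d.ds_right _ ⟨w, hw⟩
  have cc : c * c = 1 := by rw [← map_mul, Prod.mk_mul_mk, ng_mul_ng, one_mul]; exact map_one _
  have c3 : ∀ v ∈ ev c 1, v ∈ Φ.perp W := fun v hv => fun w hw =>
    (h.dec cc).symm.orth w (by rw [mem_ev, c1 w hw, neg_one_smul]) v hv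
  have c4 : ∀ v ∈ ev c (-1), v ∈ W := fun v hv => d.mem_of_orth h.nd fun w hw =>
    (h.dec cc).orth w (by rw [mem_ev, c2 w hw, one_smul]) v hv
  have hLL : LL z ≤ LL c := fun x hx v hv => hx v (pz v (c3 v hv))
  have hW4 : finrank F W = 4 := by
    have := Submodule.finrank_sup_add_finrank_inf_eq (ev z (-1)) (ev z' (-1))
    rw [show ev z (-1) ⊓ ev z' (-1) = ⊥ from eq_bot_iff.mpr fun v hv => a1 v hv.1 hv.2, finrank_bot,
      hz.2, hz'.2] at this
    exact this
  obtain ⟨O, hOY, hYO, ho, hO⟩ := zstar_mod (Y := H ⊓ LL c) (c := c) (z := z)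
    (fun y hy => h.comm cc hy.2) cc ⟨q.mem, hLL (self_mem_LL z)⟩ hz.1 (hz.ne_one h) (by
      intro e
      obtain ⟨u, hu, h0⟩ := hz'.exists_ne
      exact h0 (a1 u (by rw [mem_ev, e, c1 u (Submodule.mem_sup_right hu), neg_one_smul]) hu))
    (fun y hy h4 => by
      have hc := hD y hy.1 h4
      by_cases e : y * z * y⁻¹ = z
      · exact Or.inl e
      right
      have hz'' := hz.conj y
      set z'' := y * z * y⁻¹
      have b1 := (q.nd h hT hz'' (mul_mem (mul_mem hy.1 q.mem) (inv_mem hy.1)) (Ne.symm e)).1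
      have b2 := le_one_of_comm h hz.1 hc b1
      have b3 := le_one_of_comm h hz''.1 hc.symm fun v a b => b1 v b a
      have b4 : z'' ∈ LL c := mul_mem (mul_mem hy.2 (hLL (self_mem_LL z))) (inv_mem hy.2)
      have b5 : ev z (-1) ⊔ ev z'' (-1) = W := by
        refine Submodule.eq_of_le_of_finrank_eq (sup_le le_sup_left fun v hv => c4 v ?_) ?_
        · have := Submodule.smul_mem _ (-(2 : F)⁻¹) (h.sub_mem cc b4 v)
          rw [mem_ev.mp hv] at this
          convert this using 1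
          have := h.two
          match_scalars; field_simp; norm_num
        · have := Submodule.finrank_sup_add_finrank_inf_eq (ev z (-1)) (ev z'' (-1))
          rw [show ev z (-1) ⊓ ev z'' (-1) = ⊥ from eq_bot_iff.mpr fun v hv => b1 v hv.1 hv.2,
            finrank_bot, hz.2, hz''.2] at this
          rw [hW4]; exact this
      refine d.ext (fun w hw => ?_) (fun w hw => ?_)
      · obtain ⟨u, hu, u', hu', rfl⟩ := Submodule.mem_sup.mp (b5 ▸ hw)
        rw [O_mul_apply _ c z, map_add, map_add, mem_ev.mp hu, mem_ev.mp hu', mem_ev.mp (b2 hu'),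
          mem_ev.mp (b3 hu), map_add, map_smul, map_smul, c1 u (Submodule.mem_sup_left hu),
          c1 u' (b5 ▸ Submodule.mem_sup_right hu')]
        module
      · rw [O_mul_apply _ c z, mem_ev.mp (pz w hw), one_smul, c2 w hw,
          b4 w (by rw [mem_ev, c2 w hw, one_smul])])
  have hcO := q.cent_odd h hT _ O rfl (hOY.trans inf_le_left) ho
    ((inf_le_inf_left H hLL).trans hYO)
  have zi : z⁻¹ = z := inv_eq_of_mul_eq_one_right hz.1
  have zi' : z'⁻¹ = z' := inv_eq_of_mul_eq_one_right hz'.1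
  have hw : Commute z (z * z' * z⁻¹ * z'⁻¹) := by
    rcases hO z' ⟨hH', fun v hv => by rw [mem_ev.mp (pz' v (c3 v hv)), one_smul]⟩ with e | e
    · exact hcO _ e
    · have := (h.comm cc (hLL (self_mem_LL z))).symm.mul_right (hcO _ e)
      rwa [← mul_assoc, cc, one_mul] at this
  rw [zi, zi'] at hw
  have e := hw.eq
  calc (z * z') ^ 4 = (z * z' * z * z' * z) * z' * z * z' := by
        rw [show 4 = 1 + 1 + 1 + 1 from rfl]; simp only [pow_succ, pow_zero, one_mul, mul_assoc]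
    _ = (z * z) * z' * z * (z' * z') * z * z' := by rw [← e]; simp only [mul_assoc]
    _ = 1 := by rw [hz.1, hz'.1]; simp only [one_mul, mul_one, mul_assoc, hz.1, hz'.1]

end H9.Pn
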