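import Cfsg.Agent.H9.Pq4
import Cfsg.Agent.H7.SymSyl

/-! Frames of fundamental involutions. -/

set_option autoImplicit false

namespace H9.Pn

open Module H23 H23.Form H22 H10 Subgroup Cfsg Equiv

theorem sylow_trans {ι : Type*} [Fintype ι] [DecidableEq ι] {k : ℕ} (hk : Fintype.card ι = 2 ^ k)
    {T : Subgroup (Perm ι)} (hT : IsSylowIn 2 T ⊤) (i j : ι) : ∃ t ∈ T, t i = j := by
  haveI : Fact (Nat.Prime 2) := ⟨Nat.prime_two⟩
  have h1 := hT.not_dvd_relIndex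
  rw [relIndex_top_right] at h1
  have h2 : (MulAction.stabilizer (Perm ι) i).index = 2 ^ k := by
    rw [MulAction.index_stabilizer_of_transitive, Nat.card_eq_fintype_card, hk]
  have h3 := relIndex_mul_index (inf_le_left : T ⊓ MulAction.stabilizer (Perm ι) i ≤ _)
  have h4 := relIndex_mul_index (inf_le_right : T ⊓ MulAction.stabilizer (Perm ι) i ≤ _)
  rw [h2, ← h3, inf_relIndex_left] at h4
  have h5 : 2 ^ k ∣ (MulAction.stabilizer (Perm ι) i).relIndex T :=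
    (Nat.Coprime.pow_left k ((Nat.Prime.coprime_iff_not_dvd Nat.prime_two).mpr h1)).dvd_of_dvd_mul_right
      ⟨_, by rw [← h4, mul_comm]⟩
  have h6 : (MulAction.stabilizer (Perm ι) i).relIndex T = (MulAction.orbit T i).ncard :=
    MulAction.index_stabilizer T i
  have h7 : MulAction.orbit T i = Set.univ := by
    refine Set.eq_of_subset_of_ncard_le (Set.subset_univ _) ?_
    rw [Set.ncard_univ, Nat.card_eq_fintype_card, hk]
    refine Nat.le_of_dvd ?_ (h6 ▸ h5)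
    rw [Set.ncard_pos]; exact ⟨i, MulAction.mem_orbit_self i⟩
  obtain ⟨t, ht⟩ : j ∈ MulAction.orbit T i := h7 ▸ Set.mem_univ j
  exact ⟨t, t.2, ht⟩

theorem swap_unique {ι : Type*} [Fintype ι] [DecidableEq ι] {T : Subgroup (Perm ι)}
    (hT : IsPGroup 2 T) {a b c : ι} (hab : a ≠ b) (hac : a ≠ c) (h1 : swap a b ∈ T)
    (h2 : swap a c ∈ T) : b = c := by
  by_contra hbc
  have h3 := (Perm.isThreeCycle_swap_mul_swap_same hab hac hbc)
  exact h3.ne_one (eq_one_of_odd_of_mem (by rw [h3.orderOf]; decide) hT (mul_mem h1 h2))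

variable {F V : Type*} [Field F] [AddCommGroup V] [Module F V] {Φ : Form (RingHom.id F) V}
  {ι : Type*}

/-- a frame of fundamental involutions -/
structure Fr (z : ι → Φ.O) : Prop where
  alt : Alt Φ
  fi : ∀ i, FI (z i)
  orth : ∀ i j, i ≠ j → ev (z j) (-1) ≤ ev (z i) 1
  span : ⨆ i, ev (z i) (-1) = ⊤

/-- components -/
def Cp (z x y : Φ.O) : Prop := y ∈ LL z ∧ ∀ v ∈ ev z (-1), y.1 v = x.1 v

/-- the base group of a frame -/
def BB (z : ι → Φ.O) : Subgroup Φ.O := centralizer (Set.range z)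

theorem mem_BB {z : ι → Φ.O} {g : Φ.O} : g ∈ BB z ↔ ∀ i, Commute g (z i) :=
  ⟨fun h i => (h _ ⟨i, rfl⟩).symm, by rintro h _ ⟨i, rfl⟩; exact (h i).symm⟩

/-- the stabilizer of a frame -/
def MM (z : ι → Φ.O) : Subgroup Φ.O where
  carrier := {g | ∃ π : Perm ι, ∀ i, g * z i * g⁻¹ = z (π i)}
  mul_mem' := by
    rintro a b ⟨π, ha⟩ ⟨π', hb⟩
    exact ⟨π * π', fun i => by rw [Perm.mul_apply, ← ha, ← hb]; group⟩
  one_mem' := ⟨1, fun i => by simp⟩
  inv_mem' := by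
    rintro a ⟨π, ha⟩
    exact ⟨π⁻¹, fun i => by
      conv_lhs => rw [← H7.papply_inv π i, ← ha]
      group⟩

theorem BB_le_MM {z : ι → Φ.O} : BB z ≤ MM z := fun g hg =>
  ⟨1, fun i => by rw [(mem_BB.mp hg i).eq, mul_inv_cancel_right]; rfl⟩

theorem MM_le_NN {z : ι → Φ.O} : MM z ≤ normalizer (BB z : Set Φ.O) := by
  rw [le_NN_iff]
  intro g hg x hx
  obtain ⟨π, hπ⟩ := inv_mem hg
  refine mem_BB.mpr fun i => ?_
  have := (mem_BB.mp hx (π i)).eq
  rw [← hπ] at this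
  change _ = _
  calc _ = g * (x * (g⁻¹ * z i * g⁻¹⁻¹)) * g⁻¹ := by group
    _ = _ := by rw [this]; group

/-- partial products of components -/
def Part [DecidableEq ι] (z : ι → Φ.O) (J : Finset ι) (b x : Φ.O) : Prop :=
  ∀ j, ∀ v ∈ ev (z j) (-1), x.1 v = if j ∈ J then b.1 v else v

namespace Fr

variable {z : ι → Φ.O} (f : Fr z)
include f

theorem ext {g g' : Φ.O} (h : ∀ i, ∀ v ∈ ev (z i) (-1), g.1 v = g'.1 v) : g = g' := by
  refine O_ext _ fun v => ?_
  have : v ∈ LinearMap.eqLocus g.1.toLinearMap g'.1.toLinearMap :=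
    (f.span.ge.trans (iSup_le fun i w hw => h i w hw)) trivial
  exact this

theorem eq_of_mem {i j : ι} {v : V} (h0 : v ≠ 0) (h1 : v ∈ ev (z i) (-1)) (h2 : v ∈ ev (z j) (-1)) :
    i = j := by
  by_contra h
  exact h0 (f.alt.eq_zero (f.orth i j h h2) h1)

theorem inj {i j : ι} (h : z i = z j) : i = j := by
  obtain ⟨v, hv, h0⟩ := (f.fi i).exists_ne
  exact f.eq_of_mem h0 hv (h ▸ hv)

theorem eq_zero {v : V} (h : ∀ i, v ∈ ev (z i) 1) : v = 0 := f.alt.nd v fun w => by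
  have : w ∈ LinearMap.ker (Φ.B v) :=
    (f.span.ge.trans (iSup_le fun i w hw => (f.alt.dec (f.fi i).1).orth _ (h i) _ hw)) trivial
  exact this

theorem mem_BB_of {g : Φ.O} (h : ∀ i, ∀ v ∈ ev (z i) (-1), g.1 v ∈ ev (z i) (-1)) : g ∈ BB z :=
  mem_BB.mpr fun i => f.ext fun j v hv => by
    rw [O_mul_apply, O_mul_apply]
    by_cases e : i = j
    · subst e; rw [mem_ev.mp hv, mem_ev.mp (h i v hv), map_smul]
    · rw [mem_ev.mp (f.orth i j e hv), mem_ev.mp (f.orth i j e (h j v hv)), map_smul]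

theorem fix {i j : ι} (h : i ≠ j) {g : Φ.O} (hg : g ∈ LL (z i)) {v : V} (hv : v ∈ ev (z j) (-1)) :
    g.1 v = v := hg v (f.orth i j h hv)

theorem LL_le (i : ι) : LL (z i) ≤ BB z := fun g hg => f.mem_BB_of fun j v hv => by
  by_cases e : i = j
  · subst e; exact f.alt.pres (f.fi i).1 hg hv
  · rwa [f.fix e hg hv]

theorem comm_LL {i j : ι} (h : i ≠ j) {g g' : Φ.O} (hg : g ∈ LL (z i)) (hg' : g' ∈ LL (z j)) :
    Commute g g' := f.ext fun l v hv => by
  rw [O_mul_apply, O_mul_apply]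
  by_cases e : i = l
  · subst e
    rw [f.fix h.symm hg' hv, f.fix h.symm hg' (f.alt.pres (f.fi i).1 hg hv)]
  · rw [f.fix e hg hv, f.fix e hg (ev_of_commute (mem_BB.mp (f.LL_le j hg') l) hv)]

omit f in
theorem part_empty [DecidableEq ι] (b : Φ.O) : Part z ∅ b 1 := fun _ _ _ => by simp

theorem part_univ [DecidableEq ι] [Fintype ι] {b x : Φ.O} (h : Part z Finset.univ b x) : x = b :=
  f.ext fun i v hv => by simpa using h i v hv

theorem part_single [DecidableEq ι] {b y : Φ.O} {i : ι} (h : Cp (z i) b y) : Part z {i} b y :=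
  fun j v hv => by
    split_ifs with e
    · rw [Finset.mem_singleton] at e; subst e; exact h.2 v hv
    · exact f.fix (fun e' => e (by simp [e'])) h.1 hv

omit f in
theorem part_union [DecidableEq ι] {b x x' : Φ.O} (hb : b ∈ BB z) {J J' : Finset ι}
    (hd : Disjoint J J') (h : Part z J b x) (h' : Part z J' b x') : Part z (J ∪ J') b (x * x') :=
  fun j v hv => by
    rw [O_mul_apply, h' j v hv]
    by_cases e : j ∈ J'
    · rw [if_pos e, h j _ (ev_of_commute (mem_BB.mp hb j) hv),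
        if_neg (Finset.disjoint_right.mp hd e), if_pos (Finset.mem_union_right _ e)]
    · rw [if_neg e, h j v hv]; simp [e]

theorem mem_of_cp [Fintype ι] {K : Subgroup Φ.O} {b : Φ.O} (hb : b ∈ BB z)
    (h : ∀ i, ∃ y ∈ K, Cp (z i) b y) : b ∈ K := by
  classical
  have : ∀ J : Finset ι, ∃ x ∈ K, Part z J b x := fun J => by
    induction J using Finset.induction_on with
    | empty => exact ⟨1, one_mem _, part_empty b⟩
    | insert i J hi ih =>
      obtain ⟨x, hx, h1⟩ := ih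
      obtain ⟨y, hy, h2⟩ := h i
      exact ⟨y * x, mul_mem hy hx, by
        rw [Finset.insert_eq]
        exact part_union hb (Finset.disjoint_singleton_left.mpr hi) (f.part_single h2) h1⟩
  obtain ⟨x, hx, h1⟩ := this Finset.univ
  exact f.part_univ h1 ▸ hx

theorem mem_MM_of [Finite ι] {g : Φ.O} (h : ∀ i, ∃ j, g * z i * g⁻¹ = z j) : g ∈ MM z := by
  choose π hπ using h
  have : Function.Injective π := fun i j e => f.inj (by
    have := (hπ i).trans (e ▸ (hπ j).symm)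
    simpa using this)
  exact ⟨Equiv.ofBijective π (Finite.injective_iff_bijective.mp this), hπ⟩

/-- the action on the frame -/
noncomputable def ρ : MM z →* Perm ι := MonoidHom.mk' (fun g => g.2.choose) fun a b =>
  Equiv.ext fun i => f.inj (by
    rw [Perm.mul_apply, ← (a * b).2.choose_spec, ← a.2.choose_spec, ← b.2.choose_spec]
    simp [mul_assoc])

theorem ρ_spec (g : MM z) (i : ι) : g * z i * (g : Φ.O)⁻¹ = z (f.ρ g i) := g.2.choose_spec i

theorem ρ_eq {g : MM z} {i j : ι} (h : g * z i * (g : Φ.O)⁻¹ = z j) : f.ρ g i = j :=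
  f.inj ((f.ρ_spec g i).symm.trans h)

theorem ρ_mem (g : MM z) {i : ι} {v : V} (hv : v ∈ ev (z i) (-1)) :
    g.1.1 v ∈ ev (z (f.ρ g i)) (-1) := by
  rw [← f.ρ_spec]; exact ev_conj'.mpr hv

theorem ρ_eq_one {g : MM z} : f.ρ g = 1 ↔ (g : Φ.O) ∈ BB z :=
  ⟨fun h => mem_BB.mpr fun i => by
    have := f.ρ_spec g i
    rw [h] at this
    exact mul_inv_eq_iff_eq_mul.mp this,
  fun h => Equiv.ext fun i => f.ρ_eq (by rw [(mem_BB.mp h i).eq, mul_inv_cancel_right]; rfl)⟩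

variable [FiniteDimensional F V]

theorem eq_z {y : Φ.O} (hy : FI y) (hB : y ∈ BB z) [Fintype F] : ∃ i, y = z i := by
  obtain ⟨p, hp⟩ := CharP.exists F
  haveI : Fact p.Prime := ⟨CharP.char_is_prime F p⟩
  by_contra hn
  push Not at hn
  refine hy.ne_one f.alt (f.ext fun i v hv => ?_)
  obtain ⟨c, hc, e⟩ := f.alt.exists_cp (f.fi i).1 (mem_BB.mp hB i)
  rcases (f.alt.s2in (f.fi i).1 (f.fi i).2 p).inv c hc (f.alt.LL_ext (f.fi i).1 (mul_mem hc hc)
    (one_mem _) fun w hw => by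
      rw [O_mul_apply, e w hw, e _ (ev_of_commute (mem_BB.mp hB i) hw), ← O_mul_apply, hy.1]) with
    h | h
  · rw [← e v hv, h]
  · exact absurd (f.alt.eq_of_ev_le (f.fi i) hy fun w hw => by
      rw [mem_ev, ← e w hw, h, mem_ev.mp hw]).symm (hn i)

theorem swap_ev {y : Φ.O} (hy : FI y) {i j : ι} (hij : i ≠ j) (h : y * z i * y⁻¹ = z j) :
    ∀ w ∈ ev y (-1), ∃ v ∈ ev (z i) (-1), w = v - y.1 v := by
  have yy : ∀ v, y.1 (y.1 v) = v := fun v => by rw [← O_mul_apply, hy.1, O_one_apply]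
  let φ : ev (z i) (-1) →ₗ[F] ev y (-1) :=
    (LinearMap.id - y.1.toLinearMap).restrict fun v _ => by
      rw [mem_ev]; simp [yy]
  have hφ : Function.Injective φ := by
    rw [← LinearMap.ker_eq_bot, eq_bot_iff]
    intro v hv
    have e : (v : V) - y.1 v = 0 := congrArg Subtype.val hv
    by_contra h0
    refine hij (f.eq_of_mem (fun e' => h0 (Subtype.ext e')) v.2 ?_)
    rw [← h, sub_eq_zero.mp e]
    exact ev_conj'.mpr v.2
  intro w hw
  obtain ⟨v, hv⟩ := (LinearMap.injective_iff_surjective_of_finrank_eq_finrank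
    ((f.fi i).2.trans hy.2.symm)).mp hφ ⟨w, hw⟩
  exact ⟨v, v.2, (congrArg Subtype.val hv).symm⟩

theorem swap_fix {y : Φ.O} (hy : FI y) {i j : ι} (hij : i ≠ j) (h : y * z i * y⁻¹ = z j)
    {l : ι} (h1 : l ≠ i) (h2 : l ≠ j) : ev (z l) (-1) ≤ ev y 1 := fun u hu =>
  (f.alt.dec hy.1).mem_of_orth f.alt.nd fun w hw => by
    obtain ⟨v, hv, rfl⟩ := f.swap_ev hy hij h w hw
    rw [map_sub, LinearMap.sub_apply, (f.alt.dec (f.fi l).1).orth _ (f.orth l i h1 hv) _ hu,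
      (f.alt.dec (f.fi l).1).orth _ (f.orth l j h2 (h ▸ ev_conj'.mpr hv)) _ hu, sub_zero]

theorem swap_LL {y : Φ.O} (hy : FI y) {i j : ι} (hij : i ≠ j) (h : y * z i * y⁻¹ = z j)
    {s : Φ.O} (hs : s ∈ MM z) (hL : s ∈ LL y) : s = 1 ∨ s = y := by
  have yy : ∀ v, y.1 (y.1 v) = v := fun v => by rw [← O_mul_apply, hy.1, O_one_apply]
  have a1 : ∀ l, l ≠ i → l ≠ j → f.ρ ⟨s, hs⟩ l = l := fun l h1 h2 => by
    obtain ⟨v, hv, h0⟩ := (f.fi l).exists_ne
    have := f.ρ_mem ⟨s, hs⟩ hv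
    rw [hL v (f.swap_fix hy hij h h1 h2 hv)] at this
    exact f.eq_of_mem h0 this hv
  have a2 : ∀ l, l = i ∨ l = j → f.ρ ⟨s, hs⟩ l = i ∨ f.ρ ⟨s, hs⟩ l = j := fun l hl => by
    by_contra hn
    push Not at hn
    have := (f.ρ ⟨s, hs⟩).injective (a1 _ hn.1 hn.2)
    rcases hl with rfl | rfl
    exacts [hn.1 this, hn.2 this]
  have a3 : ∀ v ∈ ev (z i) (-1), s.1 v + s.1 (y.1 v) = v + y.1 v := fun v _ => by
    rw [← map_add]; exact hL _ (by rw [mem_ev, map_add, yy, one_smul, add_comm])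
  have yv : ∀ v ∈ ev (z i) (-1), y.1 v ∈ ev (z j) (-1) := fun v hv => h ▸ ev_conj'.mpr hv
  have zero : ∀ v ∈ ev (z i) (-1), v ∈ ev (z j) (-1) → v = 0 := fun v h1 h2 => by
    by_contra h0; exact hij (f.eq_of_mem h0 h1 h2)
  have ne : f.ρ ⟨s, hs⟩ i ≠ f.ρ ⟨s, hs⟩ j := fun e => hij ((f.ρ ⟨s, hs⟩).injective e)
  rcases a2 i (Or.inl rfl) with e1 | e1 <;> rcases a2 j (Or.inr rfl) with e2 | e2
  · exact absurd (e1.trans e2.symm) ne
  · left
    refine f.alt.LL_ext hy.1 hL (one_mem _) fun w hw => ?_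
    obtain ⟨v, hv, rfl⟩ := f.swap_ev hy hij h w hw
    have b1 := f.ρ_mem ⟨s, hs⟩ hv
    have b2 := f.ρ_mem ⟨s, hs⟩ (yv v hv)
    rw [e1] at b1
    rw [e2] at b2
    have b3 : s.1 v - v = y.1 v - s.1 (y.1 v) := by linear_combination (norm := module) a3 v hv
    have b4 := zero _ (sub_mem b1 hv) (b3 ▸ sub_mem (yv v hv) b2)
    rw [map_sub, O_one_apply]
    linear_combination (norm := module) b4 + b4 - b3
  · right
    refine f.alt.LL_ext hy.1 hL (self_mem_LL y) fun w hw => ?_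
    obtain ⟨v, hv, rfl⟩ := f.swap_ev hy hij h w hw
    have b1 := f.ρ_mem ⟨s, hs⟩ hv
    have b2 := f.ρ_mem ⟨s, hs⟩ (yv v hv)
    rw [e1] at b1
    rw [e2] at b2
    have b3 : v - s.1 (y.1 v) = s.1 v - y.1 v := by linear_combination (norm := module) -a3 v hv
    have b4 := zero _ (sub_mem hv b2) (b3 ▸ sub_mem b1 (yv v hv))
    rw [map_sub, map_sub, yy]
    linear_combination (norm := module) b4 + b4 - b3
  · exact absurd (e1.trans e2.symm) ne

theorem fi_cases [Fintype F] {y : Φ.O} (hy : FI y) (hM : y ∈ MM z) :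
    (∃ i, y = z i) ∨ ∃ i j, i ≠ j ∧ y * z i * y⁻¹ = z j := by
  by_cases h : f.ρ ⟨y, hM⟩ = 1
  · exact Or.inl (f.eq_z hy (f.ρ_eq_one.mp h))
  · obtain ⟨i, hi⟩ : ∃ i, f.ρ ⟨y, hM⟩ i ≠ i := by
      by_contra hn
      push Not at hn
      exact h (Equiv.ext hn)
    exact Or.inr ⟨i, _, hi.symm, f.ρ_spec ⟨y, hM⟩ i⟩

end Fr

end H9.Pn
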