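import Cfsg.Agent.H9.Pq5

/-! Sylow subgroups stabilizing a frame. -/

set_option autoImplicit false

namespace H9.Pn

open Module H23 H23.Form H22 H10 Subgroup Cfsg Equiv

variable {F V : Type*} [Field F] [AddCommGroup V] [Module F V] {Φ : Form (RingHom.id F) V}
  {ι : Type*}

namespace Cp

variable (h : Alt Φ) {w : Φ.O} (hw : w * w = 1)
include h hw

theorem mul {x y x' y' : Φ.O} (a : Cp w x y) (b : Cp w x' y') : Cp w (x * x') (y * y') :=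
  ⟨mul_mem a.1 b.1, fun v hv => by
    rw [O_mul_apply, O_mul_apply, a.2 _ (h.pres hw b.1 hv), b.2 v hv]⟩

theorem inv {x y : Φ.O} (a : Cp w x y) : Cp w x⁻¹ y⁻¹ :=
  ⟨inv_mem a.1, fun v hv => x.1.injective (by
    rw [O_apply_inv_apply, ← a.2 _ (h.pres hw (inv_mem a.1) hv), O_apply_inv_apply])⟩

theorem pow {x y : Φ.O} (a : Cp w x y) (n : ℕ) : Cp w (x ^ n) (y ^ n) := by
  induction n with
  | zero => exact ⟨by simpa using one_mem _, fun _ _ => by simp⟩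
  | succ n ih => rw [pow_succ, pow_succ]; exact mul h hw ih a

theorem unique {x y y' : Φ.O} (a : Cp w x y) (b : Cp w x y') : y = y' :=
  h.LL_ext hw a.1 b.1 fun v hv => by rw [a.2 v hv, b.2 v hv]

omit h hw in
theorem conj {x y : Φ.O} (a : Cp w x y) (g : Φ.O) :
    Cp (g * w * g⁻¹) (g * x * g⁻¹) (g * y * g⁻¹) :=
  ⟨LL_conj.mpr a.1, fun v hv => by simp only [O_mul_apply]; rw [a.2 _ (ev_conj.mp hv)]⟩

theorem nn [Finite Φ.O] {x y : Φ.O} (a : Cp w x y) (hx : Commute x w) {Q : Subgroup Φ.O}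
    (hQ : Q ≤ LL w) (hn : x ∈ normalizer (Q : Set Φ.O)) : y ∈ normalizer (Q : Set Φ.O) :=
  mem_NN_of_conj_mem fun g hg => h.cp_conj hw hx a.1 a.2 (hQ hg) ▸ conj_mem_of_mem_NN hn hg

theorem mem [Finite Φ.O] {x y : Φ.O} (a : Cp w x y) (hx : Commute x w) {Q : Subgroup Φ.O}
    (hQ : IsSylowIn 2 Q (LL w)) (hn : x ∈ normalizer (Q : Set Φ.O)) {k : ℕ} (hk : x ^ 2 ^ k = 1) :
    y ∈ Q := by
  haveI : Fact (Nat.Prime 2) := ⟨Nat.prime_two⟩
  have h1 := a.pow h hw (2 ^ k)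
  rw [hk] at h1
  exact hQ.le_of_le_NN (isPGroup_zpowers (unique h hw h1 ⟨one_mem _, fun _ _ => rfl⟩))
    (zpowers_le.mpr a.1) (zpowers_le.mpr (a.nn h hw hx hQ.le hn)) (mem_zpowers y)

end Cp

theorem pow_two_pow_of_mem {G : Type*} [Group G] {S : Subgroup G} (hS : IsPGroup 2 S) {x : G}
    (hx : x ∈ S) : ∃ k, x ^ 2 ^ k = 1 := by
  obtain ⟨k, hk⟩ := hS ⟨x, hx⟩
  exact ⟨k, congrArg Subtype.val hk⟩

/-- a Sylow `2`-subgroup stabilizing a frame of `2`-power size -/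
structure SF [Fintype ι] (z : ι → Φ.O) (S : Subgroup Φ.O) : Prop where
  fr : Fr z
  syl : IsSylowIn 2 S ⊤
  le : S ≤ MM z
  surj : Function.Surjective fr.ρ
  card : ∃ k, Fintype.card ι = 2 ^ k

namespace SF

variable [Fintype ι] [Fintype F] [FiniteDimensional F V] {z : ι → Φ.O} {S : Subgroup Φ.O}
  (f : SF z S)
include f

theorem sylB : IsSylowIn 2 (S ⊓ BB z) (BB z) := by
  haveI : Fact (Nat.Prime 2) := ⟨Nat.prime_two⟩
  haveI : Finite Φ.O := finite_O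
  exact (f.syl.of_le f.le le_top).inf_normal BB_le_MM MM_le_NN

theorem sylQ (i : ι) : IsSylowIn 2 (S ⊓ LL (z i)) (LL (z i)) := by
  haveI : Fact (Nat.Prime 2) := ⟨Nat.prime_two⟩
  haveI : Finite Φ.O := finite_O
  have := f.sylB.inf_normal (f.fr.LL_le i) fun g hg => comm_le_NN_LL (mem_BB.mp hg i)
  rwa [inf_assoc, inf_eq_right.mpr (f.fr.LL_le i)] at this

theorem s2 (i : ι) : ∃ p : ℕ, ∃ (_ : Fact p.Prime) (_ : CharP F p), S2In (LL (z i)) (z i) p := by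
  obtain ⟨p, hp⟩ := CharP.exists F
  haveI : Fact p.Prime := ⟨CharP.char_is_prime F p⟩
  exact ⟨p, inferInstance, hp, f.fr.alt.s2in (f.fr.fi i).1 (f.fr.fi i).2 p⟩

omit [Fintype F] in
theorem cp {x : Φ.O} {i : ι} (hx : Commute x (z i)) : ∃ y, Cp (z i) x y :=
  f.fr.alt.exists_cp (f.fr.fi i).1 hx

theorem cp_nn {x y : Φ.O} {i : ι} (hx : Commute x (z i)) (hn : x ∈ normalizer (S : Set Φ.O))
    (a : Cp (z i) x y) : y ∈ normalizer ((S ⊓ LL (z i) : Subgroup Φ.O) : Set Φ.O) := by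
  haveI : Finite Φ.O := finite_O
  exact a.nn f.fr.alt (f.fr.fi i).1 hx inf_le_right (mem_NN_inf hn (comm_le_NN_LL hx))

theorem cp_mem {x y : Φ.O} {i : ι} (hx : Commute x (z i)) (hS : x ∈ S) (a : Cp (z i) x y) :
    y ∈ S := by
  haveI : Finite Φ.O := finite_O
  obtain ⟨k, hk⟩ := pow_two_pow_of_mem f.syl.isPGroup hS
  exact (a.mem f.fr.alt (f.fr.fi i).1 hx (f.sylQ i)
    (mem_NN_inf (le_normalizer hS) (comm_le_NN_LL hx)) hk).1

theorem z_mem (i : ι) : z i ∈ S := by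
  haveI : Fact (Nat.Prime 2) := ⟨Nat.prime_two⟩
  haveI : Finite Φ.O := finite_O
  refine ((f.sylQ i).le_of_le_NN (isPGroup_zpowers (k := 1) (by rw [pow_one, pow_two, (f.fr.fi i).1]))
    (zpowers_le.mpr (self_mem_LL _)) (zpowers_le.mpr (mem_NN_of_conj_mem fun g hg => ?_))
    (mem_zpowers _)).1
  rwa [(f.fr.alt.comm (f.fr.fi i).1 hg.2).eq, mul_inv_cancel_right]

theorem sylT : IsSylowIn 2 ((S.subgroupOf (MM z)).map f.fr.ρ) ⊤ := by
  haveI : Fact (Nat.Prime 2) := ⟨Nat.prime_two⟩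
  haveI : Finite Φ.O := finite_O
  exact (isSylowIn_subgroupOf_top (f.syl.of_le f.le le_top)).map_top f.surj

theorem trans (i j : ι) : ∃ s ∈ S, s * z i * s⁻¹ = z j := by
  classical
  obtain ⟨k, hk⟩ := f.card
  obtain ⟨_, ⟨s, hs, rfl⟩, e⟩ := sylow_trans hk f.sylT i j
  exact ⟨s, hs, e ▸ f.fr.ρ_spec s i⟩

theorem nn_le_MM : normalizer (S : Set Φ.O) ≤ MM z := fun g hg => f.fr.mem_MM_of fun i => by
  have hy := (f.fr.fi i).conj g
  have hS := conj_mem_of_mem_NN hg (f.z_mem i)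
  refine (f.fr.fi_cases hy (f.le hS)).resolve_right ?_
  rintro ⟨a, b, hab, e⟩
  obtain ⟨p, _, _, s⟩ := f.s2 i
  refine s.na _ (f.sylQ i) fun x hx y hy' => ?_
  have k : ∀ x ∈ S ⊓ LL (z i), x = 1 ∨ x = z i := fun x hx =>
    (f.fr.swap_LL hy hab e (f.le (conj_mem_of_mem_NN hg hx.1)) (LL_conj.mpr hx.2)).imp
      (fun e => by simpa using e) (fun e => by simpa using e)
  rcases k x hx with rfl | rfl
  · exact Commute.one_left _
  · exact s.zc y hy'.2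

theorem decomp {g : Φ.O} (hg : g ∈ normalizer (S : Set Φ.O)) : ∃ s ∈ S, g * s⁻¹ ∈ BB z := by
  classical
  have := H7.normalizer_sylow_perm f.sylT.toSylowTop (x := f.fr.ρ ⟨g, f.nn_le_MM hg⟩)
    (mem_NN_of_conj_mem (by
      rintro _ ⟨s, hs, rfl⟩
      exact ⟨⟨g, f.nn_le_MM hg⟩ * s * ⟨g, f.nn_le_MM hg⟩⁻¹, conj_mem_of_mem_NN hg hs, by simp⟩))
  obtain ⟨s, hs, e⟩ := this
  exact ⟨s, hs, (f.fr.ρ_eq_one (g := ⟨g, f.nn_le_MM hg⟩ * s⁻¹)).mp (by simp [e])⟩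

variable {b : Φ.O} (hb : b ∈ BB z) (hn : b ∈ normalizer (S : Set Φ.O))
include hb hn

theorem lemD {s y y' : Φ.O} (hs : s ∈ S) {i j : ι} (e : s * z i * s⁻¹ = z j) (a : Cp (z i) b y)
    (a' : Cp (z j) b y') : s * y * s⁻¹ * y'⁻¹ ∈ S := by
  have h1 := (e ▸ a.conj s).mul f.fr.alt (f.fr.fi j).1 (a'.inv f.fr.alt (f.fr.fi j).1)
  refine f.cp_mem (mem_BB.mp (mul_mem (conj_mem_of_mem_NN (MM_le_NN (f.le hs)) hb) (inv_mem hb)) j)
    ?_ h1
  rw [mul_assoc, mul_assoc, ← mul_assoc b]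
  exact mul_mem hs (conj_mem_of_mem_NN hn (inv_mem hs))

theorem lemE {x : Φ.O} (hx : x ∈ MM z) (h : ∀ i, ∀ a ∈ S ⊓ LL (z i), x * a * x⁻¹ ∈ S) :
    x * b * x⁻¹ * b⁻¹ ∈ S := by
  haveI : Finite Φ.O := finite_O
  refine f.fr.mem_of_cp (mul_mem (conj_mem_of_mem_NN (MM_le_NN hx) hb) (inv_mem hb)) fun j => ?_
  obtain ⟨π, hπ⟩ := hx
  obtain ⟨i, rfl⟩ := π.surjective j
  obtain ⟨y, a⟩ := f.cp (mem_BB.mp hb i)
  obtain ⟨y', a'⟩ := f.cp (mem_BB.mp hb (π i))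
  refine ⟨_, ?_, (hπ i ▸ a.conj x).mul f.fr.alt (f.fr.fi _).1 (a'.inv f.fr.alt (f.fr.fi _).1)⟩
  obtain ⟨s, hs, e⟩ := f.trans i (π i)
  have hc : Commute (s⁻¹ * x) (z i) := by
    change _ = _
    calc _ = s⁻¹ * (x * z i * x⁻¹) * x := by group
      _ = _ := by rw [hπ, ← e]; group
  obtain ⟨c, hc'⟩ := f.cp hc
  obtain ⟨p, _, _, t⟩ := f.s2 i
  have h1 := t.comm (f.sylQ i) hc'.1 (hc'.nn f.fr.alt (f.fr.fi i).1 hc inf_le_right
    (mem_NN_of_conj_mem fun g hg => ⟨?_, conj_mem_of_mem_NN (comm_le_NN_LL hc) hg.2⟩)) a.1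
    (f.cp_nn (mem_BB.mp hb i) hn a)
  · rw [← f.fr.alt.cp_conj (f.fr.fi i).1 hc hc'.1 hc'.2 a.1] at h1
    have := mul_mem (conj_mem_of_mem_NN (le_normalizer hs) h1.1) (f.lemD hb hn hs e a a')
    convert this using 1
    group
  · change _ ∈ S
    have := mul_mem (mul_mem (inv_mem hs) (h i g hg)) hs
    convert this using 1
    group

omit hb hn in
theorem comm_mem {g g' : Φ.O} (hg : g ∈ normalizer (S : Set Φ.O))
    (hg' : g' ∈ normalizer (S : Set Φ.O)) : g * g' * g⁻¹ * g'⁻¹ ∈ S := by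
  obtain ⟨s, hs, hb⟩ := f.decomp hg'
  have hn := mul_mem hg' (inv_mem (le_normalizer hs))
  have h1 := f.lemE hb hn (f.nn_le_MM hg) fun i a ha => conj_mem_of_mem_NN hg ha.1
  have := mul_mem h1 (conj_mem_of_mem_NN hn (mul_mem (conj_mem_of_mem_NN hg hs) (inv_mem hs)))
  convert this using 1
  group

end SF

end H9.Pn
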