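import Cfsg.Agent.H9.Pq6

/-! Overgroups of a Sylow subgroup meeting the fundamental subgroups in Sylow subgroups. -/

set_option autoImplicit false

namespace H9.Pn

open Module H23 H23.Form H22 H10 Subgroup Cfsg Equiv

variable {F V : Type*} [Field F] [AddCommGroup V] [Module F V] {Φ : Form (RingHom.id F) V}
  {ι : Type*}

theorem Alt.line (h : Alt Φ) {z : Φ.O} (hz : FI z) {u w : V} (hu : u ∈ ev z (-1)) (h0 : u ≠ 0)
    (hw : w ∈ ev z (-1)) (hb : Φ.B u w = 0) : ∃ a : F, w = a • u := by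
  by_contra hc
  push Not at hc
  have li : LinearIndependent F (![⟨u, hu⟩, ⟨w, hw⟩] : Fin 2 → ev z (-1)) := by
    rw [LinearIndependent.pair_iff' (fun e => h0 (congrArg Subtype.val e))]
    exact fun a e => hc a (congrArg Subtype.val e).symm
  let b := basisOfLinearIndependentOfCardEqFinrank li (by rw [hz.2]; simp)
  refine h0 (h.eq_zero ((h.dec hz.1).mem_of_orth h.nd fun u' hu' => Φ.B_eq_zero_symm ?_) hu)
  have := congrArg Subtype.val (b.sum_repr ⟨u', hu'⟩)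
  simp only [Fin.sum_univ_two, b, coe_basisOfLinearIndependentOfCardEqFinrank] at this
  simp at this
  rw [← this, map_add, map_smul, map_smul, h.self, hb]; simp

theorem Alt.tv_fix (h : Alt Φ) {c : Φ.O} {e : V} (he : ∀ v, ∃ a : F, c.1 v - v = a • e) :
    c.1 e = e := by
  obtain ⟨n, hn⟩ := he e
  rw [← sub_eq_zero, hn]
  refine h.nd _ fun v => ?_
  obtain ⟨a, ha⟩ := he v
  have := O_B Φ c e v
  rw [sub_eq_iff_eq_add.mp hn, sub_eq_iff_eq_add.mp ha] at this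
  simpa [h.self] using this

theorem Alt.tv_ne (h : Alt Φ) {c : Φ.O} {e : V} (he : ∀ v, ∃ a : F, c.1 v - v = a • e)
    (h1 : c ≠ 1) {v : V} (hv : Φ.B v e ≠ 0) : c.1 v ≠ v := fun hc => h1 (O_ext _ fun w => by
  obtain ⟨a, ha⟩ := he w
  have := O_B Φ c v w
  rw [hc, sub_eq_iff_eq_add.mp ha] at this
  have h0 : a = 0 := by simpa [hv] using this
  rw [O_one_apply, ← sub_eq_zero, ha, h0, zero_smul])

variable [FiniteDimensional F V]

theorem Alt.exists_fi (h : Alt Φ) {e e' : V} (hb : Φ.B e e' ≠ 0) :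
    ∃ y : Φ.O, FI y ∧ e ∈ ev y (-1) ∧ e' ∈ ev y (-1) := by
  have hy : Hyp Φ e ((Φ.B e e')⁻¹ • e') :=
    ⟨sing_alt h.ε h.κ _, sing_alt h.ε h.κ _, by rw [map_smul, smul_eq_mul, inv_mul_cancel₀ hb]⟩
  have d : Dec Φ _ _ := ⟨hy.isCompl h.nd, fun u hu w hw => hw u hu⟩
  set W := Submodule.span F {e, (Φ.B e e')⁻¹ • e'}
  have c1 : ∀ v ∈ W, (d.ds (ng _, 1)).1 v = -v := fun v hv => by rw [d.ds_left _ ⟨v, hv⟩]; simp
  have c2 : ∀ v ∈ Φ.perp W, (d.ds (ng _, 1)).1 v = v := fun v hv => by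
    rw [d.ds_right _ ⟨v, hv⟩]; simp
  have e1 : ev (d.ds (ng _, 1)) (-1) = W := by
    refine le_antisymm (fun v hv => ?_) fun v hv => by rw [mem_ev, c1 v hv, neg_one_smul]
    obtain ⟨u, w, rfl⟩ := d.exists_add v
    rw [mem_ev, map_add, c1 _ u.2, c2 _ w.2] at hv
    have : (2 : F) • (w : V) = 0 := by linear_combination (norm := module) hv
    rw [(smul_eq_zero.mp this).resolve_left h.two, add_zero]; exact u.2
  refine ⟨d.ds (ng _, 1), ⟨by rw [← map_mul, Prod.mk_mul_mk, ng_mul_ng, mul_one, Prod.mk_one_one,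
    map_one], by rw [e1, hy.finrank_span]⟩, ?_, ?_⟩ <;> rw [e1]
  · exact Submodule.subset_span (by simp)
  · have : (Φ.B e e')⁻¹ • e' ∈ W := Submodule.subset_span (by simp)
    simpa [smul_smul, hb] using W.smul_mem (Φ.B e e') this

variable [Fintype F]

theorem QZ.exists_B (h : Alt Φ) {H : Subgroup Φ.O} {z : Φ.O} (q : QZ H z) {e : V}
    (he : e ∉ ev z 1) : ∃ a ∈ H, Φ.B e (a.1 e) ≠ 0 := by
  have hz := q.fi
  obtain ⟨e0, u, rfl⟩ := (h.dec hz.1).exists_add e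
  have h0 : (u : V) ≠ 0 := fun e => he (by rw [e, add_zero]; exact e0.2)
  by_contra hc
  push Not at hc
  have k : ∀ a ∈ H ⊓ LL z, ∃ c : F, a.1 u = c • (u : V) := fun a ha => by
    refine h.line hz u.2 h0 (h.pres hz.1 ha.2 u.2) ?_
    have := hc a ha.1
    rw [map_add a.1, ha.2 _ e0.2] at this
    simpa [h.self, (h.dec hz.1).orth _ e0.2 _ (h.pres hz.1 ha.2 u.2),
      (h.dec hz.1).symm.orth _ u.2 _ e0.2] using this
  obtain ⟨i, hi, j, hj, -, -, hij, -⟩ := q.ij h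
  obtain ⟨c1, e1⟩ := k i hi
  obtain ⟨c2, e2⟩ := k j hj
  have e3 : j.1 (i.1 u) = -i.1 (j.1 u) := by
    rw [← O_mul_apply, hij, O_mul_apply, O_mul_apply,
      mem_ev.mp (h.pres hz.1 hi.2 (h.pres hz.1 hj.2 u.2)), neg_one_smul]
  rw [e1, e2, map_smul, map_smul, e1, e2] at e3
  have e4 : (2 : F) • i.1 (j.1 u) = 0 := by
    rw [e2, map_smul, e1]; linear_combination (norm := module) e3
  have e5 := (smul_eq_zero.mp e4).resolve_left h.two
  rw [LinearEquiv.map_eq_zero_iff, LinearEquiv.map_eq_zero_iff] at e5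
  exact h0 e5

namespace SF

variable [Fintype ι] {z : ι → Φ.O} {S : Subgroup Φ.O} (f : SF z S) {H : Subgroup Φ.O}
  (hH : S ≤ H) (q : ∀ i, QZ H (z i))
include f hH q

theorem no_tv : ∀ c ∈ H, ¬ Tv c := by
  rintro c hc ⟨h1, e, he⟩
  haveI : Fact (Nat.Prime 2) := ⟨Nat.prime_two⟩
  haveI : Finite Φ.O := finite_O
  have h := f.fr.alt
  obtain ⟨p, hp⟩ := CharP.exists F
  haveI : Fact p.Prime := ⟨CharP.char_is_prime F p⟩
  have hpo : Odd p := (Fact.out : p.Prime).odd_of_ne_two (by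
    rintro rfl
    exact h.two (CharP.cast_eq_zero F 2))
  obtain ⟨i, hi⟩ : ∃ i, e ∉ ev (z i) 1 := by
    by_contra hn
    push Not at hn
    refine h1 (O_ext _ fun v => ?_)
    obtain ⟨a, ha⟩ := he v
    rw [O_one_apply, ← sub_eq_zero, ha, f.fr.eq_zero hn, smul_zero]
  obtain ⟨a, ha, hb⟩ := (q i).exists_B h hi
  obtain ⟨y, hy, y1, y2⟩ := h.exists_fi hb
  have he' : ∀ v, ∃ b : F, (a * c * a⁻¹).1 v - v = b • a.1 e := fun v => by
    obtain ⟨b, hb⟩ := he ((a⁻¹).1 v)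
    exact ⟨b, by rw [← map_smul, ← hb, map_sub, O_apply_inv_apply]; rfl⟩
  have h1' : a * c * a⁻¹ ≠ 1 := by simpa using h1
  have L : ∀ {c : Φ.O} {e : V}, (∀ v, ∃ a : F, c.1 v - v = a • e) → e ∈ ev y (-1) →
      c ∈ LL y ∧ c ^ p = 1 := fun he hy' =>
    ⟨h.mem_LL_of hy.1 fun v => by obtain ⟨a, ha⟩ := he v; rw [ha]; exact Submodule.smul_mem _ _ hy',
      pow_eq_one_of_sq p fun v => by obtain ⟨a, ha⟩ := he v; rw [ha, map_smul, h.tv_fix he]⟩
  have hc' : a * c * a⁻¹ ∈ H := mul_mem (mul_mem ha hc) (inv_mem ha)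
  have nc : ¬ Commute c (a * c * a⁻¹) := fun hcm => by
    obtain ⟨m, hm⟩ := he (a.1 e)
    have e1 := congrArg (fun g : Φ.O => g.1 (a.1 e)) hcm.eq
    simp only [O_mul_apply _ c (a * c * a⁻¹), O_mul_apply _ (a * c * a⁻¹) c] at e1
    rw [h.tv_fix he', sub_eq_iff_eq_add.mp hm, map_add, map_smul, h.tv_fix he', add_left_inj] at e1
    have hm0 : m ≠ 0 := fun e0 => h.tv_ne he h1 (v := a.1 e) (fun e => hb (Φ.B_eq_zero_symm e))
      (by rw [← sub_eq_zero, hm, e0, zero_smul])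
    exact h.tv_ne he' h1' hb (smul_right_injective _ hm0 e1).symm
  have s := h.s2in hy.1 hy.2 p
  have m1 : c ∈ H ⊓ LL y := ⟨hc, (L he y1).1⟩
  have m2 : a * c * a⁻¹ ∈ H ⊓ LL y := ⟨hc', (L he' y2).1⟩
  have hyH : y ∈ H := by
    obtain ⟨x, hx, hx2⟩ := exists_orderOf_eq_of_dvd (p := 2) (even_iff_two_dvd.mp
      (Nat.not_odd_iff_even.mp (s.even inf_le_right m1 m2 (L he y1).2 (L he' y2).2 nc)))
    have := (s.inv x hx.2 (by rw [← pow_two, ← hx2, pow_orderOf_eq_one])).resolve_left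
      (ne_one_of_orderOf_eq hx2)
    exact this ▸ hx.1
  obtain ⟨R, hR, hyR⟩ := exists_isSylowIn_ge (p := 2) (L := H ⊓ LL y)
    (isPGroup_zpowers (k := 1) (by rw [pow_one, pow_two, hy.1]))
    (zpowers_le.mpr ⟨hyH, self_mem_LL y⟩)
  obtain ⟨g, hg, hgR⟩ := (f.syl.of_le hH le_top).exists_cj_le hR.isPGroup (hR.le.trans inf_le_left)
  have hRS : ∀ r ∈ R, g * r * g⁻¹ ∈ S := fun r hr => hgR (mem_cj'.mpr ⟨r, hr, rfl⟩)
  rcases f.fr.fi_cases (hy.conj g) (f.le (hRS y (hyR (mem_zpowers y)))) with ⟨l, hl⟩ | ⟨l, l', hl, e'⟩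
  · have := eq_one_of_odd_of_mem (x := g * c * g⁻¹) (Odd.of_dvd_nat hpo (orderOf_dvd_of_pow_eq_one
      (by rw [conj_pow, (L he y1).2]; simp))) (q l).syl.isPGroup
      ⟨H.mul_mem (H.mul_mem hg hc) (H.inv_mem hg), hl ▸ LL_conj.mpr m1.2⟩
    exact h1 (by simpa using this)
  · have hcyc : IsCyclic R := by
      have : R ≤ zpowers y := fun r hr => (H6.mem_zpowers_ord2 hy.1).mpr
        ((f.fr.swap_LL (hy.conj g) hl e' (f.le (hRS r hr)) (LL_conj.mpr (hR.le hr).2)).imp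
          (fun e => by simpa using e) (fun e => by simpa using e))
      exact isCyclic_of_injective (inclusion this) (inclusion_injective this)
    obtain ⟨O, hO1, -, hO3, hO4⟩ := exists_core_of_npc (H19.npc_of_isSylowIn hR hcyc)
    exact s.even (hO1.trans inf_le_right)
      (hO4 _ m1 (Odd.of_dvd_nat hpo (orderOf_dvd_of_pow_eq_one (L he y1).2)))
      (hO4 _ m2 (Odd.of_dvd_nat hpo (orderOf_dvd_of_pow_eq_one (L he' y2).2)))
      (L he y1).2 (L he' y2).2 nc hO3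

omit q in
theorem star {s : Φ.O} (hs : s ∈ S) (qs : QZ H s) {i j : ι} (hij : i ≠ j)
    (e : s * z i * s⁻¹ = z j) {a : Φ.O} (ha : a ∈ S ⊓ LL (z i)) :
    ∃ c ∈ H ⊓ LL s, (∀ v ∈ ev (z i) (-1),
      c.1 v = (2 : F)⁻¹ • (v + a.1 v) + (2 : F)⁻¹ • s.1 (v - a.1 v)) ∧
      ∀ v ∈ ev (z i) (-1),
        c.1 (s.1 v) = (2 : F)⁻¹ • (v - a.1 v) + (2 : F)⁻¹ • s.1 (v + a.1 v) := by
  haveI : Finite Φ.O := finite_O
  have h := f.fr.alt
  have ss : ∀ v, s.1 (s.1 v) = v := fun v => by rw [← O_mul_apply, qs.fi.1, O_one_apply]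
  have si : s⁻¹ = s := inv_eq_of_mul_eq_one_right qs.fi.1
  have aj : s * a * s⁻¹ ∈ LL (z j) := e ▸ LL_conj.mpr ha.2
  have hc : Commute (a * (s * a * s⁻¹)) s := by
    change _ = _
    conv_rhs => rw [(f.fr.comm_LL hij ha.2 aj).eq]
    rw [si]
    calc _ = a * s * a * (s * s) := by group
      _ = (s * s) * a * s * a := by rw [qs.fi.1]; group
      _ = _ := by group
  have hS : a * (s * a * s⁻¹) ∈ S := mul_mem ha.1 (mul_mem (mul_mem hs ha.1) (inv_mem hs))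
  obtain ⟨c, hcp⟩ := h.exists_cp qs.fi.1 hc
  obtain ⟨k, hk⟩ := pow_two_pow_of_mem f.syl.isPGroup hS
  have k1 : ∀ v ∈ ev (z i) (-1), c.1 v + c.1 (s.1 v) = v + s.1 v := fun v _ => by
    rw [← map_add]
    exact hcp.1 _ (by rw [mem_ev, map_add, ss, one_smul, add_comm])
  have k2 : ∀ v ∈ ev (z i) (-1), c.1 v - c.1 (s.1 v) = a.1 v - s.1 (a.1 v) := fun v hv => by
    rw [← map_sub, hcp.2 _ (by rw [mem_ev, map_sub, ss]; simp), O_mul_apply, map_sub,
      f.fr.fix hij.symm aj hv, O_mul_apply, O_mul_apply, O_inv_apply_apply, map_sub,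
      f.fr.fix hij ha.2 (v := s.1 (a.1 v)) (e ▸ ev_conj'.mpr (h.pres (f.fr.fi i).1 ha.2 hv))]
  have t : (2 : F)⁻¹ * 2 = 1 := inv_mul_cancel₀ h.two
  refine ⟨c, Cp.mem h qs.fi.1 hcp hc qs.syl (mem_NN_inf (le_normalizer (hH hS)) (comm_le_NN_LL hc))
    hk, fun v hv => ?_, fun v hv => ?_⟩
  · rw [map_sub]
    linear_combination (norm := module) (2 : F)⁻¹ • k1 v hv + (2 : F)⁻¹ • k2 v hv - t • c.1 v
  · rw [map_add]
    linear_combination (norm := module) (2 : F)⁻¹ • k1 v hv - (2 : F)⁻¹ • k2 v hv - t • c.1 (s.1 v)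

theorem five (hQ : ∀ i, H ⊓ LL (z i) = S ⊓ LL (z i)) {s : Φ.O} (hs : s ∈ S) (qs : QZ H s) {i j : ι}
    (hij : i ≠ j) (e : s * z i * s⁻¹ = z j) {x : Φ.O} (hx : x ∈ LL (z i))
    (hn : x ∈ normalizer ((S ⊓ LL (z i) : Subgroup Φ.O) : Set Φ.O)) : x * (s * x * s⁻¹) ∈ H := by
  haveI : Finite Φ.O := finite_O
  have h := f.fr.alt
  have hz := f.fr.fi i
  have ss : ∀ v, s.1 (s.1 v) = v := fun v => by rw [← O_mul_apply, qs.fi.1, O_one_apply]
  have Lj : ∀ a ∈ LL (z i), s * a * s⁻¹ ∈ LL (z j) := fun a ha => e ▸ LL_conj.mpr ha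
  let D : Subgroup Φ.O :=
    { carrier := {x | x ∈ LL (z i) ∧ x * (s * x * s⁻¹) ∈ H}
      one_mem' := ⟨one_mem _, by simp⟩
      mul_mem' := fun {a b} ha hb => ⟨mul_mem ha.1 hb.1, by
        have := mul_mem ha.2 hb.2
        rw [mul_assoc, ← mul_assoc _ b, ← (f.fr.comm_LL hij hb.1 (Lj a ha.1)).eq] at this
        convert this using 1
        group⟩
      inv_mem' := fun {a} ha => ⟨inv_mem ha.1, by
        have := inv_mem ha.2
        rw [(f.fr.comm_LL hij ha.1 (Lj a ha.1)).eq] at this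
        convert this using 1
        group⟩ }
  obtain ⟨I, hI, J, hJ, hi2, hj2, hIJ, hJI⟩ := (q i).ij h
  obtain ⟨I', hI', a1, a2⟩ := f.star hH hs qs hij e (hQ i ▸ hI)
  obtain ⟨J', hJ', b1, b2⟩ := f.star hH hs qs hij e (hQ i ▸ hJ)
  obtain ⟨K', hK', c1, c2⟩ := f.star hH hs qs hij e (hQ i ▸ inv_mem hJ)
  set U := ev (z i) (-1) with hU
  have II : ∀ u ∈ U, I.1 (I.1 u) = -u := fun u hu => by
    rw [← O_mul_apply, hi2, mem_ev.mp hu, neg_one_smul]
  have JJ : ∀ u ∈ U, J.1 (J.1 u) = -u := fun u hu => by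
    rw [← O_mul_apply, hj2, mem_ev.mp hu, neg_one_smul]
  have iU : ∀ u ∈ U, I.1 u ∈ U := fun u hu => h.pres hz.1 hI.2 hu
  have jU : ∀ u ∈ U, J.1 u ∈ U := fun u hu => h.pres hz.1 hJ.2 hu
  have JI : ∀ u ∈ U, J.1 (I.1 u) = -I.1 (J.1 u) := fun u hu => by
    rw [← O_mul_apply, hIJ, O_mul_apply, O_mul_apply, mem_ev.mp (iU _ (jU u hu)), neg_one_smul]
  have Ji : ∀ u ∈ U, (J⁻¹).1 u = -J.1 u := fun u hu => J.1.injective (by
    rw [O_apply_inv_apply, map_neg, JJ u hu, neg_neg])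
  have Ii : ∀ u ∈ U, (I⁻¹).1 u = -I.1 u := fun u hu => I.1.injective (by
    rw [O_apply_inv_apply, map_neg, II u hu, neg_neg])
  have sU : ∀ u ∈ U, s.1 u ∈ ev (z j) (-1) := fun u hu => e ▸ ev_conj'.mpr hu
  have Is : ∀ u ∈ U, I.1 (s.1 u) = s.1 u := fun u hu => f.fr.fix hij hI.2 (sU u hu)
  have t := h.two
  set g := s * (J' * (I * (I' * K'))) with hg
  have gH : g ∈ H := mul_mem (hH hs) (mul_mem hJ'.1 (mul_mem hI.1 (mul_mem hI'.1 hK'.1)))
  have g1 : ∀ v ∈ U, g.1 v = (2 : F)⁻¹ • (v + I.1 v + J.1 v + I.1 (J.1 v)) := fun v hv => by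
    simp (config := {maxDischargeDepth := 6}) only [hg, O_mul_apply, a1, a2, b1, b2, c1, c2, II, JJ,
      JI, Ji, Is, ss, iU, jU, hv, map_add, map_sub, map_neg, map_smul]
    match_scalars <;> field_simp <;> norm_num
  have g2 : ∀ v ∈ U, g.1 (s.1 v) = (2 : F)⁻¹ • s.1 (v + I.1 v - J.1 v - I.1 (J.1 v)) := fun v hv => by
    simp (config := {maxDischargeDepth := 6}) only [hg, O_mul_apply, a1, a2, b1, b2, c1, c2, II, JJ,
      JI, Ji, Is, ss, iU, jU, hv, map_add, map_sub, map_neg, map_smul]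
    match_scalars <;> field_simp <;> norm_num
  have g3 : ∀ l, l ≠ i → l ≠ j → ∀ v ∈ ev (z l) (-1), g.1 v = v := fun l h1 h2 v hv => by
    have := f.fr.swap_fix qs.fi hij e h1 h2 hv
    simp only [hg, O_mul_apply]
    rw [hK'.2 v this, hI'.2 v this, f.fr.fix h1.symm hI.2 hv, hJ'.2 v this, mem_ev.mp this, one_smul]
  have gU : ∀ v ∈ U, g.1 v ∈ U := fun v hv => by
    rw [g1 v hv]
    exact Submodule.smul_mem _ _ (add_mem (add_mem (add_mem hv (iU v hv)) (jU v hv)) (iU _ (jU v hv)))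
  have sj : ∀ v ∈ ev (z j) (-1), ∃ u ∈ U, v = s.1 u := fun v hv =>
    ⟨(s⁻¹).1 v, ev_conj.mp (e.symm ▸ hv), (O_apply_inv_apply Φ s v).symm⟩
  have gB : g ∈ BB z := f.fr.mem_BB_of fun l v hv => by
    by_cases h1 : l = i
    · subst h1; exact gU v hv
    by_cases h2 : l = j
    · subst h2
      obtain ⟨u, hu, rfl⟩ := sj v hv
      rw [g2 u hu]
      exact Submodule.smul_mem _ _ (sU _ (sub_mem (sub_mem (add_mem hu (iU u hu)) (jU u hu))
        (iU _ (jU u hu))))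
    · rwa [g3 l h1 h2 v hv]
  obtain ⟨w, hw⟩ := f.cp (mem_BB.mp gB i)
  have wN : w ∈ normalizer ((S ⊓ LL (z i) : Subgroup Φ.O) : Set Φ.O) := by
    rw [← hQ]
    exact hw.nn h hz.1 (mem_BB.mp gB i) inf_le_right
      (mem_NN_inf (le_normalizer gH) (comm_le_NN_LL (mem_BB.mp gB i)))
  have wI : w * I = J * w := h.LL_ext hz.1 (mul_mem hw.1 hI.2) (mul_mem hJ.2 hw.1)
      fun v (hv : v ∈ U) => by
    rw [O_mul_apply, O_mul_apply, hw.2 _ (iU v hv), hw.2 v hv, g1 _ (iU v hv), g1 v hv]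
    simp (config := {maxDischargeDepth := 6}) only [II, JJ, JI, iU, jU, hv, map_add, map_neg,
      map_smul]
    module
  have wQ : w ∉ S ⊓ LL (z i) := fun hwQ => hJI (by
    rw [← hQ] at hwQ
    obtain ⟨e8⟩ := (q i).q8
    rw [show J = w * I * w⁻¹ by rw [wI, mul_inv_cancel_right]]
    by_cases hm : w ∈ zpowers I
    · exact mul_mem (mul_mem hm (mem_zpowers I)) (inv_mem hm)
    · rw [(H6.q8_rel e8 hI hwQ (hi2 ▸ hz.ne_one h) hm).1]; exact inv_mem (mem_zpowers I))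
  have wD : w ∈ D := ⟨hw.1, by
    have : w * (s * w * s⁻¹) = (s * I * s⁻¹)⁻¹ * g * (s * I * s⁻¹) := by
      rw [mul_assoc _ g, eq_inv_mul_iff_mul_eq]
      refine f.fr.ext fun l v hv => ?_
      by_cases h1 : l = i
      · subst h1
        rw [O_mul_apply, O_mul_apply _ w, O_mul_apply _ g, f.fr.fix hij.symm (Lj _ hw.1) hv,
          f.fr.fix hij.symm (Lj _ hI.2) hv, f.fr.fix hij.symm (Lj _ hI.2) (h.pres hz.1 hw.1 hv),
          hw.2 v hv]
      by_cases h2 : l = j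
      · subst h2
        obtain ⟨u, hu, rfl⟩ := sj v hv
        rw [O_mul_apply, O_mul_apply _ w, O_mul_apply _ g,
          f.fr.fix hij hw.1 (h.pres (f.fr.fi l).1 (Lj _ hw.1) hv)]
        simp only [O_mul_apply _ _ s⁻¹, O_mul_apply _ s, O_inv_apply_apply]
        rw [g2 _ (iU u hu), hw.2 u hu, g1 u hu]
        simp (config := {maxDischargeDepth := 6}) only [II, JJ, JI, iU, jU, hu, map_add, map_neg,
          map_smul, map_sub]
        module
      · rw [O_mul_apply, O_mul_apply _ w, O_mul_apply _ g, f.fr.fix (Ne.symm h2) (Lj _ hw.1) hv,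
          f.fr.fix (Ne.symm h1) hw.1 hv, f.fr.fix (Ne.symm h2) (Lj _ hI.2) hv, g3 l h1 h2 v hv]
    have m : s * I * s⁻¹ ∈ H := mul_mem (mul_mem (hH hs) hI.1) (inv_mem (hH hs))
    rw [this]
    exact mul_mem (mul_mem (inv_mem m) gH) m⟩
  obtain ⟨p, _, _, s2⟩ := f.s2 i
  have : zpowers w ⊔ S ⊓ LL (z i) ≤ D := sup_le (zpowers_le.mpr wD) fun a ha =>
    ⟨ha.2, hH (mul_mem ha.1 (mul_mem (mul_mem hs ha.1) (inv_mem hs)))⟩
  exact (this (s2.gen (f.sylQ i) hw.1 wN wQ hx hn)).2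

end SF

end H9.Pn
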