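import Cfsg.Agent.H9.Pq7

/-! The strong pronormality property for symplectic groups of `2`-power dimension. -/

set_option autoImplicit false

namespace H9.Pn

open Module H23 H23.Form H22 H10 Subgroup Cfsg Equiv

/-- `N(S)/S` is abelian and elements of `N(S)` either normalize an overgroup `H` of `S` or
lie in the join of `H` with its conjugate -/
structure PP {G : Type*} [Group G] (S : Subgroup G) : Prop where
  syl : IsSylowIn 2 S ⊤
  comm : ∀ g ∈ normalizer (S : Set G), ∀ g' ∈ normalizer (S : Set G), g * g' * g⁻¹ * g'⁻¹ ∈ S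
  pp : ∀ H, S ≤ H → ∀ g ∈ normalizer (S : Set G), g ∈ H ⊔ cj g H ∨ g ∈ normalizer (H : Set G)

theorem two_inv {G : Type*} [Group G] {a b : G} (ha : a * a = 1) (hb : b * b = 1)
    (h : (a * b) ^ 4 = 1) : ∃ P : Subgroup G, IsPGroup 2 P ∧ a ∈ P ∧ b ∈ P ∧
      ∀ H : Subgroup G, a ∈ H → b ∈ H → P ≤ H := by
  haveI : Fact (Nat.Prime 2) := ⟨Nat.prime_two⟩
  have ai : a⁻¹ = a := inv_eq_of_mul_eq_one_right ha
  have bi : b⁻¹ = b := inv_eq_of_mul_eq_one_right hb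
  refine ⟨zpowers (a * b) ⊔ zpowers a, IsPGroup.to_sup_of_normal_left' (isPGroup_zpowers (k := 2) h)
    (isPGroup_zpowers (k := 1) (by rw [pow_one, pow_two, ha])) (zpowers_le.mpr ?_),
    mem_sup_right (mem_zpowers a), ?_, fun H h1 h2 =>
      sup_le (zpowers_le.mpr (mul_mem h1 h2)) (zpowers_le.mpr h1)⟩
  · rw [mem_NN, cj_zpowers, ← mul_assoc, ha, one_mul, ← zpowers_inv, mul_inv_rev, inv_inv, bi]
  · have := mul_mem (mem_sup_right (S := zpowers (a * b)) (mem_zpowers a))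
      (mem_sup_left (T := zpowers a) (mem_zpowers (a * b)))
    rwa [← mul_assoc, ha, one_mul] at this

variable {F V : Type*} [Field F] [AddCommGroup V] [Module F V] {Φ : Form (RingHom.id F) V}
  {ι : Type*} [FiniteDimensional F V]

theorem Fr.ρ_swap [DecidableEq ι] {z : ι → Φ.O} (f : Fr z) {y : Φ.O} (hy : FI y) (hM : y ∈ MM z)
    {i j : ι} (hij : i ≠ j) (e : y * z i * y⁻¹ = z j) : f.ρ ⟨y, hM⟩ = swap i j := by
  ext l
  by_cases h1 : l = i
  · subst h1; rw [swap_apply_left]; exact f.ρ_eq e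
  by_cases h2 : l = j
  · subst h2
    rw [swap_apply_right]
    refine f.ρ_eq ?_
    rw [← e]
    calc _ = (y * y) * z i * (y * y)⁻¹ := by group
      _ = _ := by rw [hy.1]; simp
  rw [swap_apply_of_ne_of_ne h1 h2]
  obtain ⟨v, hv, h0⟩ := (f.fi l).exists_ne
  have := f.ρ_mem ⟨y, hM⟩ hv
  rw [mem_ev.mp (f.swap_fix hy hij e h1 h2 hv), one_smul] at this
  exact f.eq_of_mem h0 this hv

namespace SF

variable [Fintype F] [Fintype ι] {z : ι → Φ.O} {S : Subgroup Φ.O} (f : SF z S) {H : Subgroup Φ.O}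
  (hH : S ≤ H) (q : ∀ i, QZ H (z i)) (hQ : ∀ i, H ⊓ LL (z i) = S ⊓ LL (z i))
  {b : Φ.O} (hb : b ∈ BB z) (hn : b ∈ normalizer (S : Set Φ.O))
include f hH q hQ hb hn

theorem tile {s : Φ.O} (hs : s ∈ S) (qs : QZ H s) {i j : ι} (hij : i ≠ j)
    (e : s * z i * s⁻¹ = z j) : b ∈ H := by
  classical
  set T := (S.subgroupOf (MM z)).map f.fr.ρ
  have key : ∀ l, ∃ l', l ≠ l' ∧ swap l l' ∈ T ∧ ∃ x ∈ H, Part z ({l} ∪ {l'}) b x := fun l => by
    obtain ⟨t, ht, e1⟩ := f.trans i l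
    have e2 := f.fr.ρ_spec ⟨t, f.le ht⟩ j
    set l' := f.fr.ρ ⟨t, f.le ht⟩ j
    have hl : l ≠ l' := fun h => hij (f.fr.inj (by
      have := e1.trans (h ▸ e2).symm
      simpa using this))
    have q' := qs.conj (hH ht)
    have hs' : t * s * t⁻¹ ∈ S := mul_mem (mul_mem ht hs) (inv_mem ht)
    have e3 : t * s * t⁻¹ * z l * (t * s * t⁻¹)⁻¹ = z l' := by
      rw [← e1, ← e2, ← e]; group
    obtain ⟨y, a⟩ := f.cp (mem_BB.mp hb l)
    obtain ⟨y', a'⟩ := f.cp (mem_BB.mp hb l')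
    refine ⟨l', hl, ⟨⟨_, f.le hs'⟩, hs', f.fr.ρ_swap q'.fi _ hl e3⟩, y * y', ?_,
      Fr.part_union hb (by simpa using hl) (f.fr.part_single a) (f.fr.part_single a')⟩
    have h1 := f.five hH q hQ hs' q' hl e3 a.1 (f.cp_nn (mem_BB.mp hb l) hn a)
    have h2 := hH (f.lemD hb hn hs' e3 a a')
    rw [(f.fr.comm_LL hl a.1 (e3 ▸ LL_conj.mpr a.1)).eq] at h1
    rw [(f.fr.comm_LL hl a.1 a'.1).eq]
    convert mul_mem (inv_mem h2) h1 using 1
    group
  have : ∀ J : Finset ι, ∃ J', J ⊆ J' ∧ (∀ l ∈ J', ∀ l', l ≠ l' → swap l l' ∈ T → l' ∈ J') ∧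
      ∃ x ∈ H, Part z J' b x := fun J => by
    induction J using Finset.induction_on with
    | empty => exact ⟨∅, le_rfl, by simp, 1, one_mem _, Fr.part_empty b⟩
    | insert a J ha ih =>
      obtain ⟨J', h1, h2, x, hx, h3⟩ := ih
      by_cases haJ : a ∈ J'
      · exact ⟨J', Finset.insert_subset haJ h1, h2, x, hx, h3⟩
      obtain ⟨a', k1, k2, x', hx', k3⟩ := key a
      have haJ' : a' ∉ J' := fun h => haJ (h2 a' h a k1.symm (by rwa [swap_comm]))
      refine ⟨J' ∪ ({a} ∪ {a'}), Finset.insert_subset (by simp)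
        (h1.trans Finset.subset_union_left), fun l hl l' h4 h5 => ?_, x * x', mul_mem hx hx',
        Fr.part_union hb (by simp [haJ, haJ']) h3 k3⟩
      simp only [Finset.mem_union, Finset.mem_singleton] at hl ⊢
      rcases hl with hl | rfl | rfl
      · exact Or.inl (h2 l hl l' h4 h5)
      · exact Or.inr (Or.inr (swap_unique f.sylT.isPGroup h4 k1 h5 k2))
      · exact Or.inr (Or.inl (swap_unique f.sylT.isPGroup h4 k1.symm h5 (by rwa [swap_comm])))
  obtain ⟨J', h1, -, x, hx, h3⟩ := this Finset.univ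
  rw [Finset.univ_subset_iff.mp h1] at h3
  exact f.fr.part_univ h3 ▸ hx

theorem le_MM (hbH : b ∉ H) : H ≤ MM z := by
  haveI : Fact (Nat.Prime 2) := ⟨Nat.prime_two⟩
  haveI : Finite Φ.O := finite_O
  have k1 : ∀ i, ∀ g ∈ H, g * z i * g⁻¹ ∈ S → g * z i * g⁻¹ ∈ BB z := fun i g hg hS => by
    have q' := (q i).conj hg
    rcases f.fr.fi_cases q'.fi (f.le hS) with ⟨l, hl⟩ | ⟨l, l', hl, e⟩
    · rw [hl]; exact f.fr.LL_le l (self_mem_LL _)
    · exact absurd (f.tile hH q hQ hb hn hS q' hl e) hbH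
  have k2 : ∀ i, ∀ g ∈ H, Commute (z i) (g * z i * g⁻¹) := fun i g hg => by
    refine (q i).comm_conj f.fr.alt (f.no_tv hH q) (fun y hy h4 => ?_) hg
    obtain ⟨P, hP, h1, h2, h3⟩ := two_inv (f.fr.fi i).1 ((f.fr.fi i).conj y).1 h4
    obtain ⟨x, hx, hxP⟩ := (f.syl.of_le hH le_top).exists_cj_le hP
      (h3 H (q i).mem ((q i).conj hy).mem)
    have a1 := hxP (mem_cj'.mpr ⟨_, h1, rfl⟩)
    have a2 := hxP (mem_cj'.mpr ⟨_, h2, rfl⟩)
    have b1 := k1 i x hx a1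
    have b2 := k1 i (x * y) (mul_mem hx hy) (by convert a2 using 1; group)
    obtain ⟨l, hl⟩ := f.fr.eq_z ((f.fr.fi i).conj x) b1
    have := (mem_BB.mp b2 l).eq
    rw [← hl] at this
    change _ = _
    calc _ = x⁻¹ * (x * z i * x⁻¹ * (x * y * z i * (x * y)⁻¹)) * x := by group
      _ = _ := by rw [← this]; group
  refine fun g hg => f.fr.mem_MM_of fun i => f.fr.eq_z ((f.fr.fi i).conj g) (mem_BB.mpr fun j => ?_)
  obtain ⟨t, ht, e⟩ := f.trans i j
  have := (k2 i (t⁻¹ * g) (mul_mem (inv_mem (hH ht)) hg)).eq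
  rw [← e]
  change _ = _
  calc _ = t * (t⁻¹ * g * z i * (t⁻¹ * g)⁻¹ * z i) * t⁻¹ := by group
    _ = _ := by rw [← this]; group

omit q hQ in
theorem ppB : b ∈ H ⊔ cj b H ∨ b ∈ normalizer (H : Set Φ.O) := by
  haveI : Finite Φ.O := finite_O
  by_cases hK : b ∈ H ⊔ cj b H
  · exact Or.inl hK
  right
  have k1 : ∀ i y, Cp (z i) b y → y ∉ H ⊔ cj b H := fun i y a hy => hK <|
    f.fr.mem_of_cp hb fun j => by
      obtain ⟨y', a'⟩ := f.cp (mem_BB.mp hb j)
      obtain ⟨s, hs, e⟩ := f.trans i j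
      have h1 : s ∈ H ⊔ cj b H := mem_sup_left (hH hs)
      have := mul_mem (inv_mem (mem_sup_left (T := cj b H) (hH (f.lemD hb hn hs e a a'))))
        (mul_mem (mul_mem h1 hy) (inv_mem h1))
      exact ⟨y', by convert this using 1; group, a'⟩
  have k2 : ∀ i, H ⊓ LL (z i) = S ⊓ LL (z i) ∧ QZ H (z i) := fun i => by
    obtain ⟨y, a⟩ := f.cp (mem_BB.mp hb i)
    obtain ⟨p, _, _, s⟩ := f.s2 i
    have hyn := f.cp_nn (mem_BB.mp hb i) hn a
    have e := (s.pp (f.sylQ i) (inf_le_inf_right _ hH) inf_le_right a.1 hyn).resolve_left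
      fun h => k1 i y a ((sup_le (inf_le_left.trans le_sup_left) (cj_le_of fun x hx => by
        rw [← f.fr.alt.cp_conj (f.fr.fi i).1 (mem_BB.mp hb i) a.1 a.2 hx.2]
        exact mem_sup_right (mem_cj'.mpr ⟨x, hx.1, rfl⟩)) : _ ≤ H ⊔ cj b H) h)
    exact ⟨e, hH (f.z_mem i), f.fr.fi i, e ▸ s.q8 (f.sylQ i) a.1 hyn
      fun h => k1 i y a (mem_sup_left (hH h.1)), e ▸ f.sylQ i⟩
  have hM := f.le_MM hH (fun i => (k2 i).2) (fun i => (k2 i).1) hb hn fun h => hK (mem_sup_left h)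
  refine mem_NN_of_conj_mem fun x hx => ?_
  have := hH (f.lemE hb hn (hM (inv_mem hx)) fun i a ha => by
    obtain ⟨π, hπ⟩ := hM (inv_mem hx)
    refine ((k2 (π i)).1.le ⟨H.mul_mem (H.mul_mem (H.inv_mem hx) (hH ha.1))
      (H.inv_mem (H.inv_mem hx)), ?_⟩).1
    rw [← hπ]; exact LL_conj.mpr ha.2)
  convert mul_mem hx this using 1
  group

omit hH q hQ hb hn in
theorem pp : PP S := ⟨f.syl, fun _ hg _ hg' => f.comm_mem hg hg', fun H hH g hg => by
  obtain ⟨s, hs, hb⟩ := f.decomp hg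
  have e : cj (g * s⁻¹) H = cj g H := by rw [cj_mul, cj_eq_of_mem (inv_mem (hH hs))]
  rcases f.ppB hH hb (mul_mem hg (inv_mem (le_normalizer hs))) with h | h
  · left
    rw [e] at h
    simpa using mul_mem h (mem_sup_left (hH hs))
  · right
    simpa using mul_mem h (le_normalizer (hH hs))⟩

end SF

end H9.Pn
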