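import Cfsg.Agent.H9.Pq8
import Mathlib.NumberTheory.Multiplicity

/-! The standard frame of a symplectic space and products. -/

set_option autoImplicit false

namespace H9.Pn

open Module H23 H23.Form H22 H10 Subgroup Cfsg Equiv

theorem val_prod {q : ℕ} (h1 : 1 < q) (h2 : ¬ 2 ∣ q) (m : ℕ) :
    padicValNat 2 (∏ i ∈ Finset.range m, (q ^ (2 * (i + 1)) - 1)) =
      padicValNat 2 ((q ^ 2 - 1) ^ m * m.factorial) := by
  haveI : Fact (Nat.Prime 2) := ⟨Nat.prime_two⟩
  have k : ∀ n, n ≠ 0 → q ^ n - 1 ≠ 0 := fun n hn => (Nat.sub_pos_of_lt (Nat.one_lt_pow hn h1)).ne'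
  induction m with
  | zero => simp
  | succ m ih =>
    have a1 := padicValNat.pow_two_sub_one h1 h2 (n := 2 * (m + 1)) (by omega) (by simp)
    have a2 := padicValNat.pow_two_sub_one h1 h2 (n := 2) (by omega) (by simp)
    rw [padicValNat.mul (by omega) (by omega)] at a1
    rw [Finset.prod_range_succ, padicValNat.mul (Finset.prod_ne_zero_iff.mpr fun i _ => k _ (by omega))
      (k _ (by omega)), ih, Nat.factorial_succ,
      show (q ^ 2 - 1) ^ (m + 1) * ((m + 1) * m.factorial) =
        (q ^ 2 - 1) ^ m * m.factorial * ((q ^ 2 - 1) * (m + 1)) by ring,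
      padicValNat.mul (a := _ * _) (mul_ne_zero (pow_ne_zero _ (k _ (by omega))) m.factorial_ne_zero)
        (mul_ne_zero (k _ (by omega)) (by omega)), padicValNat.mul (k 2 (by omega)) (by omega)]
    omega

section

variable {F V : Type*} [Field F] [AddCommGroup V] [Module F V] {Φ : Form (RingHom.id F) V}
  {ι : Type*} [FiniteDimensional F V] [Fintype F] [Fintype ι] {z : ι → Φ.O}

theorem Fr.card_BB (f : Fr z) :
    Nat.card (BB z) = (Fintype.card F * (Fintype.card F ^ 2 - 1)) ^ Fintype.card ι := by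
  classical
  have k : ∀ (b : BB z) i, ∃ y, Cp (z i) b y := fun b i =>
    f.alt.exists_cp (f.fi i).1 (mem_BB.mp b.2 i)
  choose c hc using k
  have : Function.Bijective fun (b : BB z) i => (⟨c b i, (hc b i).1⟩ : LL (z i)) := by
    refine ⟨fun b b' e => Subtype.ext (f.ext fun i v hv => ?_), fun y => ?_⟩
    · rw [← (hc b i).2 v hv, ← (hc b' i).2 v hv, show c b i = c b' i from
        congrArg Subtype.val (congrFun e i)]
    · have : ∀ J : Finset ι, ∃ x ∈ BB z, ∀ j, ∀ v ∈ ev (z j) (-1),
          x.1 v = if j ∈ J then (y j).1.1 v else v := fun J => by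
        induction J using Finset.induction_on with
        | empty => exact ⟨1, one_mem _, fun _ _ _ => by simp⟩
        | insert i J hi ih =>
          obtain ⟨x, hx, h1⟩ := ih
          refine ⟨x * y i, mul_mem hx (f.LL_le i (y i).2), fun j v hv => ?_⟩
          rw [O_mul_apply]
          by_cases e : i = j
          · subst e
            rw [h1 i _ (f.alt.pres (f.fi i).1 (y i).2 hv), if_neg hi, if_pos (by simp)]
          · rw [f.fix e (y i).2 hv, h1 j v hv]; simp [Ne.symm e]
      obtain ⟨x, hx, h1⟩ := this Finset.univ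
      exact ⟨⟨x, hx⟩, funext fun i => Subtype.ext (Cp.unique f.alt (f.fi i).1 (hc _ i)
        ⟨(y i).2, fun v hv => by rw [h1 i v hv]; simp⟩)⟩
  rw [Nat.card_eq_of_bijective _ this, Nat.card_pi]
  simp [f.alt.card_LL (f.fi _).1 (f.fi _).2]

theorem Fr.exists_SF (f : Fr z) (hs : Function.Surjective f.ρ) (hV : finrank F V = 2 * Fintype.card ι)
    (hk : ∃ k, Fintype.card ι = 2 ^ k) (hq : ¬ 2 ∣ Fintype.card F) : ∃ S, SF z S := by
  classical
  haveI : Fact (Nat.Prime 2) := ⟨Nat.prime_two⟩
  haveI : Finite Φ.O := finite_O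
  have h1 : Nat.card (MM z) = Nat.card (BB z) * (Fintype.card ι).factorial := by
    rw [← f.ρ.ker.card_mul_index, index_ker, MonoidHom.range_eq_top.mpr hs, card_top,
      Nat.card_eq_fintype_card (α := Perm ι), Fintype.card_perm,
      show f.ρ.ker = (BB z).subgroupOf (MM z) from Subgroup.ext fun g => f.ρ_eq_one,
      Nat.card_congr (subgroupOfEquivOfLe BB_le_MM).toEquiv]
  have h2 := (MM z).card_mul_index
  have h3 := congrArg (padicValNat 2) h2
  have q1 : 1 < Fintype.card F := Fintype.one_lt_card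
  have q0 : ∀ n, padicValNat 2 (Fintype.card F ^ n) = 0 := fun n =>
    padicValNat.eq_zero_of_not_dvd fun h => hq (Nat.prime_two.dvd_of_dvd_pow h)
  have k : ∀ n, n ≠ 0 → Fintype.card F ^ n - 1 ≠ 0 := fun n hn =>
    (Nat.sub_pos_of_lt (Nat.one_lt_pow hn q1)).ne'
  rw [padicValNat.mul Nat.card_pos.ne' index_ne_zero_of_finite, h1, f.card_BB,
    card_O_alt _ Φ f.alt.nd f.alt.ε f.alt.κ hV, mul_pow, mul_assoc,
    padicValNat.mul (by positivity) (mul_ne_zero (pow_ne_zero _ (k _ (by omega)))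
      (Nat.factorial_ne_zero _)), padicValNat.mul (a := _ ^ _ ^ 2) (by positivity)
      (Finset.prod_ne_zero_iff.mpr fun i _ => k _ (by omega)), val_prod q1 hq, q0, q0] at h3
  obtain ⟨S, hS⟩ := (H1.exists_sylow_le_iff (p := 2) (K := MM z)).mpr fun h => by
    have := one_le_padicValNat_of_dvd index_ne_zero_of_finite h
    omega
  exact ⟨S, f, isSylowIn_top S, hS, hs, hk⟩

end

section

variable (m : ℕ) (F : Type*) [Field F]

/-- the standard fundamental involutions -/
noncomputable def zz (i : Fin m) : (H22.spForm m F).O :=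
  ⟨LinearEquiv.ofInvolutive (LinearMap.pi fun k : Fin m ⊕ Fin m =>
      (if k.elim id id = i then (-1 : F) else 1) • LinearMap.proj k) fun v => by
      ext k; by_cases h : k.elim id id = i <;> simp [h],
    fun u v => by
      simp only [H22.spForm_B, H22.sympForm_eq]
      refine Finset.sum_congr rfl fun j _ => ?_
      by_cases h : j = i <;> simp [h], fun _ => rfl⟩

variable {m F}

theorem zz_apply (i : Fin m) (v : Fin m ⊕ Fin m → F) (k : Fin m ⊕ Fin m) :
    (zz m F i).1 v k = if k.elim id id = i then -v k else v k := by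
  change (if k.elim id id = i then (-1 : F) else 1) • v k = _
  split_ifs <;> simp

theorem mem_ev_zz (h2 : (2 : F) ≠ 0) {i : Fin m} {v : Fin m ⊕ Fin m → F} :
    v ∈ ev (zz m F i) (-1) ↔ ∀ k, k.elim id id ≠ i → v k = 0 := by
  rw [mem_ev, funext_iff]
  refine forall_congr' fun k => ?_
  rw [zz_apply]
  by_cases h : k.elim id id = i
  · simp [h]
  · simp only [h, if_false, Pi.smul_apply, smul_eq_mul, ne_eq, not_false_eq_true, forall_const]
    exact ⟨fun e => mul_left_cancel₀ h2 (by linear_combination e), fun e => by simp [e]⟩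

theorem fr_zz (h2 : (2 : F) ≠ 0) : Fr (zz m F) := by
  refine ⟨⟨H22.spForm_nondeg m, rfl, rfl, h2⟩, fun i => ⟨O_ext _ fun v => ?_, ?_⟩,
    fun i j hij v hv => ?_, eq_top_iff.mpr fun v _ => ?_⟩
  · ext k
    rw [O_mul_apply, zz_apply, zz_apply]
    split_ifs <;> simp
  · have hy : Hyp (H22.spForm m F) (Pi.single (.inr i) 1) (Pi.single (.inl i) 1) :=
      ⟨sing_alt rfl rfl _, sing_alt rfl rfl _, by
        simp [H22.spForm_B, H22.sympForm_eq, Pi.single_apply]⟩
    suffices e : ev (zz m F i) (-1) = _ by rw [e, hy.finrank_span]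
    ext v
    rw [mem_ev_zz h2, Submodule.mem_span_pair]
    constructor
    · intro h
      refine ⟨v (.inr i), v (.inl i), funext fun k => ?_⟩
      rcases k with k | k <;> by_cases e : k = i <;> simp [e, Pi.single_apply]
      · exact (h _ (by simpa using e)).symm
      · exact (h _ (by simpa using e)).symm
    · rintro ⟨a, b, rfl⟩ k hk
      rcases k with k | k <;> simp at hk <;> simp [Pi.single_apply, hk]
  · rw [mem_ev_zz h2] at hv
    rw [mem_ev, one_smul]
    ext k
    rw [zz_apply]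
    split_ifs with e
    · rw [hv k (by rw [e]; exact hij), neg_zero]
    · rfl
  · rw [← Finset.univ_sum_single v]
    refine Submodule.sum_mem _ fun k _ => Submodule.mem_iSup_of_mem (k.elim id id) ?_
    rw [mem_ev_zz h2]
    exact fun l hl => Pi.single_eq_of_ne (fun e => hl (by rw [e])) _

theorem surj_zz (h2 : (2 : F) ≠ 0) : Function.Surjective (fr_zz (m := m) h2).ρ := fun π => by
  let g : (H22.spForm m F).O := ⟨LinearEquiv.funCongrLeft F F (sumCongr π.symm π.symm), fun u v => by
    simp only [H22.spForm_B, H22.sympForm_eq]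
    exact Equiv.sum_comp π.symm fun i => u (.inr i) * v (.inl i) - u (.inl i) * v (.inr i),
    fun _ => rfl⟩
  have : ∀ i, g * zz m F i * g⁻¹ = zz m F (π i) := fun i => by
    rw [mul_inv_eq_iff_eq_mul]
    refine O_ext _ fun v => funext fun k => ?_
    rw [O_mul_apply, O_mul_apply, zz_apply]
    change (zz m F i).1 v (sumCongr π.symm π.symm k) = if _ then -v (sumCongr π.symm π.symm k)
      else v (sumCongr π.symm π.symm k)
    rw [zz_apply]
    rcases k with k | k <;> simp [symm_apply_eq]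
  exact ⟨⟨g, π, this⟩, Equiv.ext fun i => (fr_zz h2).ρ_eq (this i)⟩

theorem exists_pp [Fintype F] (hm : ∃ k, m = 2 ^ k) (hq : Odd (Fintype.card F)) :
    ∃ S : Subgroup (H22.spForm m F).O, PP S := by
  have h2 : (2 : F) ≠ 0 := fun h => by
    have := FiniteField.even_card_of_char_two (F := F)
      (CharP.ringChar_of_prime_eq_zero Nat.prime_two (by exact_mod_cast h))
    rw [Nat.odd_iff] at hq; omega
  obtain ⟨S, hS⟩ := (fr_zz h2).exists_SF (surj_zz h2) (by simp [two_mul]) (by simpa using hm)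
    (by rw [← even_iff_two_dvd, Nat.not_even_iff_odd]; exact hq)
  exact ⟨S, hS.pp⟩

end

theorem pronSyl_pi {ι : Type*} [Finite ι] {G : ι → Type*} [∀ i, Group (G i)] [∀ i, Finite (G i)]
    (h : ∀ i, ∃ S : Subgroup (G i), PP S) : H1.PronSyl 2 (∀ i, G i) := by
  classical
  haveI : Fact (Nat.Prime 2) := ⟨Nat.prime_two⟩
  choose S hS using h
  have sg : ∀ (g : ∀ i, G i) i (x : G i),
      g * Pi.mulSingle i x * g⁻¹ = Pi.mulSingle i (g i * x * (g i)⁻¹) := fun g i x => by
    ext j
    by_cases e : j = i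
    · subst e; simp
    · simp [Pi.mulSingle_eq_of_ne e]
  have m1 : ∀ i, ∀ x ∈ S i, Pi.mulSingle i x ∈ pi Set.univ S := fun i x hx j _ => by
    by_cases e : j = i
    · subst e; simpa using hx
    · rw [Pi.mulSingle_eq_of_ne e]; exact (S j).one_mem
  have hT : IsSylowIn 2 (pi Set.univ S) ⊤ := ⟨le_top, isPGroup_of_no_odd fun y hy ho => funext fun i =>
    eq_one_of_odd_of_mem (Odd.of_dvd_nat ho (orderOf_map_dvd (Pi.evalMonoidHom G i) y))
      (hS i).syl.isPGroup (hy i trivial), fun Q hQ h1 _ => le_antisymm (fun x hx i _ =>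
        ((hS i).syl.eq_of_le (hQ.map (Pi.evalMonoidHom G i))
          (fun s hs => ⟨_, h1 (m1 i s hs), by simp⟩) le_top).le ⟨x, hx, rfl⟩) h1⟩
  have nn : ∀ g ∈ normalizer ((pi Set.univ S : Subgroup (∀ i, G i)) : Set (∀ i, G i)), ∀ i,
      g i ∈ normalizer (S i : Set (G i)) := fun g hg i => mem_NN_of_conj_mem fun s hs => by
    simpa using conj_mem_of_mem_NN hg (m1 i s hs) i trivial
  refine pronSyl_of_one hT.toSylowTop fun A hA g hg K hK hgK => ?_
  change pi Set.univ S ≤ A at hA
  let B : ∀ i, Subgroup (G i) := fun i => A.comap (MonoidHom.mulSingle G i)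
  let w : ∀ i, G i := fun i => if Pi.mulSingle i (g i) ∈ K then g i else 1
  have hw : w ∈ K := pi_mem_of_mulSingle_mem w fun i => by
    simp only [w]
    split_ifs with e
    · exact e
    · simp
  have hBA : pi Set.univ B ≤ A := fun x hx => pi_mem_of_mulSingle_mem x fun i => hx i trivial
  have hSB : pi Set.univ S ≤ pi Set.univ B := fun x hx i _ => hA (m1 i _ (hx i trivial))
  have k1 : ∀ i, (w⁻¹ * g) i ∈ normalizer (S i : Set (G i)) ∧
      (w⁻¹ * g) i ∈ normalizer (B i : Set (G i)) := fun i => by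
    simp only [w, Pi.mul_apply, Pi.inv_apply]
    split_ifs with e
    · simp
    · rw [inv_one, one_mul]
      refine ⟨nn g hg i, ((hS i).pp (B i) (fun s hs => hA (m1 i s hs)) _ (nn g hg i)).resolve_left
        fun h => e ((sup_le (fun x hx => hK hx) (cj_le_of fun x hx => ?_) :
          _ ≤ K.comap (MonoidHom.mulSingle G i)) h)⟩
      exact (sg g i x ▸ hgK (mem_cj'.mpr ⟨_, hx, rfl⟩) :)
  refine ⟨w, hw, ?_⟩
  suffices e : w⁻¹ * g ∈ normalizer (A : Set (∀ i, G i)) by
    rw [← mul_inv_cancel_left w g, cj_mul, cj_eq_of_mem_NN e]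
  refine mem_NN_of_conj_mem fun a ha => ?_
  obtain ⟨b, hb, n, hn, rfl⟩ := (hT.of_le hSB le_top).frattini' hBA (le_NN_iff.mpr
    fun x hx y hy i _ => (sg x i (y i) ▸ mul_mem (mul_mem hx (hy i trivial)) (inv_mem hx) :)) ha
  set g' := w⁻¹ * g
  have a1 : g' * b * g'⁻¹ ∈ A := hBA fun i _ => conj_mem_of_mem_NN (k1 i).2 (hb i trivial)
  have a2 : g' * n * g'⁻¹ * n⁻¹ ∈ A := hA fun i _ => (hS i).comm _ (k1 i).1 _ (nn n hn.2 i)
  convert mul_mem (mul_mem a1 a2) hn.1 using 1
  group

end H9.Pn
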