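import Cfsg.Agent.H9.Sh4

/-! Primitive solvable linear groups: abelian normal subgroups and fixed spaces. -/

set_option autoImplicit false

namespace H9
open Module H2 Subgroup H15 Cfsg
open scoped commutatorElement

variable {G : Type*} [Group G] [Finite G]

theorem exists_ab_class_two (hG : Group.IsSolvable G) : ∃ A E : Subgroup G, A.Normal ∧ E.Normal ∧
    A ≤ E ∧ E ≤ 𝒞(A) ∧ ⁅E, E⁆ ≤ A ∧ 𝒞(E) ≤ A := by
  obtain ⟨A, ⟨hA, hA'⟩, -, hAm⟩ := H1.exists_maximal_ge (fun A : Subgroup G => A.Normal ∧ A ≤ 𝒞(A))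
    (N := ⊥) ⟨inferInstance, bot_le⟩
  obtain ⟨E, ⟨hE, h1, h2⟩, h3, hEm⟩ := H1.exists_maximal_ge
    (fun E : Subgroup G => E.Normal ∧ E ≤ 𝒞(A) ∧ ⁅E, E⁆ ≤ A) (N := A)
    ⟨hA, hA', comm_le_left (le_norm_self A)⟩
  refine ⟨A, E, hA, hE, h3, h1, h2, by_contra fun h => ?_⟩
  obtain ⟨M, ⟨m1, m2⟩, m3, m4⟩ := H1.exists_minimal_le (fun M : Subgroup G => M.Normal ∧ ¬ M ≤ A)
    (N := 𝒞(E)) ⟨inferInstance, h⟩
  have m5 : ⁅M, M⁆ ≤ A := by_contra fun h' => by
    have := H1.commutator_self_lt (N := M) inferInstance fun h0 => m2 (h0 ▸ bot_le)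
    exact this.ne (m4 _ ⟨inferInstance, h'⟩ this.le)
  have m6 : ⁅M, E⁆ ≤ A := (le_cent_iff_comm.1 m3).le.trans bot_le
  have m7 : M ≤ 𝒞(A) := m3.trans (cent_anti h3)
  have hs : ∀ {X Y Z : Subgroup G}, ⁅X, Z⁆ ≤ A → ⁅Y, Z⁆ ≤ A → ⁅X ⊔ Y, Z⁆ ≤ A := fun a b =>
    comm_sup_left_le a b le_normalizer_of_normal le_normalizer_of_normal
  have m8 : M ≤ E := le_sup_right.trans (hEm (E ⊔ M) ⟨inferInstance, sup_le h1 m7, hs
    (by rw [commutator_comm]; exact hs h2 m6)
    (by rw [commutator_comm]; exact hs (by rwa [commutator_comm]) m5)⟩ le_sup_left).le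
  refine m2 (le_sup_right.trans (hAm (A ⊔ M) ⟨inferInstance, ?_⟩ le_sup_left).le)
  rw [cent_sup]
  exact le_inf (sup_le hA' m7) (sup_le (cent_comm m7) (m3.trans (cent_anti m8)))

variable {F V : Type*} [Field F] [AddCommGroup V] [Module F V] {ρ : G →* End F V}

omit [Finite G] in
theorem map_fix_cj (g : G) (X : Subgroup G) : (fix ρ X).map (ρ g) = fix ρ cj(g, X) := by
  have key : ∀ (g : G) (X : Subgroup G), ∀ v ∈ fix ρ X, ρ g v ∈ fix ρ cj(g, X) := by
    rintro g X v hv _ ⟨x, hx, rfl⟩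
    show ρ (g * x * g⁻¹) (ρ g v) = ρ g v
    rw [← End.mul_apply, ← map_mul, inv_mul_cancel_right, map_mul, End.mul_apply, hv x hx]
  refine le_antisymm (by rintro _ ⟨v, hv, rfl⟩; exact key g X v hv) fun v hv => ⟨ρ g⁻¹ v, ?_, ?_⟩
  · have := key g⁻¹ _ v hv
    rwa [cj_inv_cj] at this
  · rw [← End.mul_apply, ← map_mul, mul_inv_cancel, map_one, End.one_apply]

omit [Finite G] in
theorem finrank_map_rep (g : G) (U : Submodule F V) : finrank F (U.map (ρ g)) = finrank F U :=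
  (LinearEquiv.ofLinear (ρ g) (ρ g⁻¹) (by rw [← End.mul_eq_comp, ← map_mul]; simp; rfl)
    (by rw [← End.mul_eq_comp, ← map_mul]; simp; rfl)).finrank_map_eq U

omit [Finite G] in
theorem indep_fix {ι : Type*} {A : Subgroup G} (hA : A ≤ 𝒞(A)) (B : ι → Subgroup G)
    (hB : ∀ i, B i ≤ A) (hne : ∀ i j, i ≠ j → ¬ B i ≤ B j)
    (hmax : ∀ i, ∀ b ∈ A, b ∉ B i → ∀ v ∈ fix ρ (B i), ρ b v = v → v = 0) :
    iSupIndep fun i => fix ρ (B i) := by
  classical
  rw [iSupIndep_iff_finsetSum_eq_zero_imp_eq_zero]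
  intro s
  induction s using Finset.induction_on with
  | empty => simp
  | insert j s hj ih =>
    intro v hv h0
    rw [Finset.sum_insert hj] at h0
    have h1 : ∀ i ∈ s, v i = 0 := fun i hi => by
      obtain ⟨b, hb, hb'⟩ := SetLike.not_le_iff_exists.1 (hne j i fun h => hj (h ▸ hi))
      refine hmax i b (hB j hb) hb' _ (hv i (Finset.mem_insert_of_mem hi)) (sub_eq_zero.1
        (ih (fun k => ρ b (v k) - v k) (fun k hk x hx => ?_) ?_ i hi))
      · have := hv k (Finset.mem_insert_of_mem hk) x hx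
        rw [map_sub, this, ← End.mul_apply, ← map_mul, mem_cent.1 (hA (hB j hb)) x (hB k hx),
          map_mul, End.mul_apply, this]
      · rw [Finset.sum_sub_distrib, ← map_sum, eq_neg_of_add_eq_zero_right h0, map_neg,
          hv j (Finset.mem_insert_self j s) b hb, sub_self]
    rw [Finset.sum_eq_zero h1, add_zero] at h0
    intro i hi
    rcases Finset.mem_insert.1 hi with rfl | hi
    exacts [h0, h1 i hi]

variable [FiniteDimensional F V]

theorem fix_eq_bot_of_prim (hρ : ρ.ker = ⊥)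
    (hirr : ∀ W : Submodule F V, (∀ g, W.map (ρ g) ≤ W) → W = ⊥ ∨ W = ⊤)
    (hprim : ∀ (m t : ℕ) (D : Fin t → Submodule F V), 2 ≤ t → 0 < m → (∀ i, finrank F (D i) = m) →
      iSupIndep D → iSup D = ⊤ → (∀ g, ∃ σ : Equiv.Perm (Fin t), ∀ i, (D i).map (ρ g) = D (σ i)) →
      False) {A : Subgroup G} [A.Normal] (hA : A ≤ 𝒞(A)) {a : G} (ha : a ∈ A) (ha1 : a ≠ 1) :
    fix ρ (zpowers a) = ⊥ := by
  by_contra h
  obtain ⟨B, ⟨h1, h2⟩, h3, hm⟩ := H1.exists_maximal_ge (fun B : Subgroup G => B ≤ A ∧ fix ρ B ≠ ⊥)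
    ⟨zpowers_le.2 ha, h⟩
  letI : MulAction G (Subgroup G) :=
    { smul := fun g X => cj(g, X), one_smul := cj_one, mul_smul := fun g k X => cj_mul g k X }
  let O := MulAction.orbit G B
  haveI : Finite O := Set.finite_range _
  obtain ⟨e⟩ : Nonempty (Fin (Nat.card O) ≃ O) := ⟨(Finite.equivFin O).symm⟩
  have hO : ∀ X : O, ∃ g, (X : Subgroup G) = cj(g, B) := fun X => by
    obtain ⟨g, hg⟩ := X.2; exact ⟨g, hg.symm⟩
  have hD : ∀ g, ∃ σ : Equiv.Perm (Fin (Nat.card O)), ∀ i,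
      (fix ρ (e i)).map (ρ g) = fix ρ (e (σ i)) := fun g =>
    ⟨e.symm.permCongr (MulAction.toPerm g), fun i => by
      rw [map_fix_cj, Equiv.permCongr_apply, Equiv.symm_symm, Equiv.apply_symm_apply]; rfl⟩
  have hle : fix ρ B ≤ ⨆ i, fix ρ (e i) := le_iSup_of_le (e.symm ⟨B, MulAction.mem_orbit_self B⟩)
    (by rw [Equiv.apply_symm_apply])
  have htop : ⨆ i, fix ρ (e i) = ⊤ := (hirr _ fun g => by
    obtain ⟨σ, hσ⟩ := hD g
    rw [Submodule.map_iSup]
    exact iSup_le fun i => le_iSup_of_le (σ i) (hσ i).le).resolve_left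
      fun h0 => h2 (le_bot_iff.1 (h0 ▸ hle))
  by_cases ht : 2 ≤ Nat.card O
  · refine hprim (finrank F (fix ρ B)) _ (fun i => fix ρ (e i)) ht
      (Nat.pos_of_ne_zero fun h0 => h2 (Submodule.finrank_eq_zero.1 h0)) (fun i => ?_)
      (indep_fix hA _ (fun i => ?_) (fun i j hij hc => hij (e.injective (Subtype.ext ?_)))
        fun i b hb hb' v hv hv' => ?_) htop hD
    · obtain ⟨g, hg⟩ := hO (e i)
      rw [hg, ← map_fix_cj, finrank_map_rep]
    · obtain ⟨g, hg⟩ := hO (e i)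
      rw [hg]; exact cj_le_of_mem_norm (le_normalizer_of_normal (mem_top g)) h1
    · obtain ⟨g, hg⟩ := hO (e i)
      obtain ⟨k, hk⟩ := hO (e j)
      exact eq_of_le_of_card_ge hc (by rw [hg, hk, card_cj, card_cj])
    · obtain ⟨g, hg⟩ := hO (e i)
      rw [hg] at hb' hv
      by_contra h0
      have h4 : ρ g⁻¹ v ∈ fix ρ cj(g⁻¹, cj(g, B) ⊔ zpowers b) := by
        rw [← map_fix_cj, fix_sup]; exact ⟨v, ⟨hv, mem_fix_zpowers.2 hv'⟩, rfl⟩
      rw [Subgroup.map_sup, cj_inv_cj, cj_zpowers, inv_inv] at h4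
      have h5 := hm _ ⟨sup_le h1 (zpowers_le.2 (H1.conj_mem_of_mem_normalizer'
        (le_normalizer_of_normal (mem_top g)) hb)), fun h5 => h0 (by
          rw [h5, Submodule.mem_bot] at h4
          rw [← End.one_apply (R := F) v, ← map_one ρ, ← mul_inv_cancel g, map_mul, End.mul_apply,
            h4, map_zero])⟩ le_sup_left
      exact hb' (mem_cj.2 (h5.le (mem_sup_right (mem_zpowers _))))
  · haveI : Subsingleton O := Finite.card_le_one_iff_subsingleton.1 (by omega)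
    have h4 : fix ρ B = ⊤ := by
      rw [eq_top_iff, ← htop]
      exact iSup_le fun i => by rw [Subsingleton.elim (e i) ⟨B, MulAction.mem_orbit_self B⟩]
    rw [fix_eq_top_iff, hρ] at h4
    exact ha1 (h4 (h3 (mem_zpowers a)))

theorem two_mul_finrank_fix_le (g e : G) : 2 * finrank F (fix ρ (zpowers g)) ≤
    finrank F V + finrank F (fix ρ (zpowers ⁅g, e⁆)) := by
  have h1 := Submodule.finrank_sup_add_finrank_inf_eq (fix ρ (zpowers g))
    ((fix ρ (zpowers g)).map (ρ e))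
  have h2 : fix ρ (zpowers g) ⊓ (fix ρ (zpowers g)).map (ρ e) ≤ fix ρ (zpowers ⁅g, e⁆) := by
    rintro _ ⟨h, w, hw, rfl⟩
    have h3 := hw _ (inv_mem (mem_zpowers g))
    rw [mem_fix_zpowers, ← End.mul_apply, ← map_mul, commutatorElement_def, inv_mul_cancel_right,
      map_mul, map_mul, End.mul_apply, End.mul_apply, h3]
    exact h g (mem_zpowers g)
  have h3 := Submodule.finrank_mono h2
  have h4 := Submodule.finrank_le (fix ρ (zpowers g) ⊔ (fix ρ (zpowers g)).map (ρ e))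
  rw [finrank_map_rep] at h1
  omega

theorem four_mul_finrank_fix_le (hG : Group.IsSolvable G)
    (h : ∀ A : Subgroup G, A.Normal → A ≤ 𝒞(A) → ∀ a ∈ A, a ≠ 1 → fix ρ (zpowers a) = ⊥) {g : G}
    (hg : g ≠ 1) : 4 * finrank F (fix ρ (zpowers g)) ≤ 3 * finrank F V := by
  obtain ⟨A, E, hA, hE, h1, h2, h3, h4⟩ := exists_ab_class_two hG
  have h5 := h A hA (h1.trans h2)
  have h6 : ∀ y ∈ E, y ≠ 1 → 2 * finrank F (fix ρ (zpowers y)) ≤ finrank F V := fun y hy hy1 => by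
    by_cases hyA : y ∈ A
    · rw [h5 y hyA hy1, finrank_bot]; omega
    obtain ⟨e, he, he'⟩ : ∃ e ∈ E, ⁅y, e⁆ ≠ 1 := by
      by_contra hc
      push Not at hc
      exact hyA (h4 (mem_cent.2 fun e he => (commutatorElement_eq_one_iff_mul_comm.1 (hc e he)).symm))
    have := two_mul_finrank_fix_le (ρ := ρ) y e
    rwa [h5 _ (h3 (commutator_mem_commutator hy he)) he', finrank_bot] at this
  by_cases hgE : g ∈ E
  · have := h6 g hgE hg; omega
  obtain ⟨e, he, he'⟩ : ∃ e ∈ E, ⁅g, e⁆ ≠ 1 := by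
    by_contra hc
    push Not at hc
    exact hgE (h1 (h4 (mem_cent.2 fun e he =>
      (commutatorElement_eq_one_iff_mul_comm.1 (hc e he)).symm)))
  have := two_mul_finrank_fix_le (ρ := ρ) g e
  have := h6 _ (comm_le_right le_normalizer_of_normal (commutator_mem_commutator (mem_top g) he)) he'
  omega

end H9
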