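import Cfsg.Agent.H9.Blackburn
import Cfsg.Agent.H13.MaxCl2
import Cfsg.Agent.H6.MaxCl

/-!
Odd `p`-groups without normal subgroups of order `p ^ 3` and exponent `p` are metacyclic or of
maximal class.
-/

set_option autoImplicit false

namespace H9

open Subgroup Cfsg
open scoped commutatorElement

universe u

variable {G : Type*} [Group G] {p : ℕ} [hp : Fact p.Prime]

/-- Every normal subgroup of exponent `p` has order at most `p ^ 2`. -/
def NoCube (p : ℕ) (G : Type*) [Group G] : Prop :=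
  ∀ S : Subgroup G, S.Normal → (∀ s ∈ S, s ^ p = 1) → Nat.card S ≤ p ^ 2

theorem exists_cube_of_not [Finite G] (hG : IsPGroup p G) (h : ¬ NoCube p G) :
    ∃ S : Subgroup G, S.Normal ∧ (∀ s ∈ S, s ^ p = 1) ∧ Nat.card S = p ^ 3 := by
  unfold NoCube at h
  push Not at h
  obtain ⟨S, hS, he, hc⟩ := h
  obtain ⟨K, hK, -, hKS, hc⟩ := exists_normal_card_eq_pow hG (M := S) (N := ⊥) bot_le (k := 3)
    (by rw [card_bot]; exact Nat.one_le_pow _ _ hp.out.pos)
    (pow_lt_of_not_le (hG.to_subgroup S) (not_le.2 hc))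
  exact ⟨K, hK, fun s hs => he s (hKS hs), hc⟩

theorem NoCube.mem [Finite G] (hp2 : p ≠ 2) (hG : IsPGroup p G) (h : NoCube p G)
    {V : Subgroup G} [V.Normal] (hV : IsElementaryAbelian p V) (hc : Nat.card V = p ^ 2) {x : G}
    (hx : x ∈ centralizer (V : Set G)) (hxp : x ^ p = 1) : x ∈ V := by
  refine alperin_mem hG (n := 1) (by simpa using hp2) V hV.1 (by simpa using hV.2) ?_ hx
    (by simpa using hxp)
  intro B hB _ hBe hVB
  exact (eq_of_le_of_card_ge hVB (hc ▸ h B hB (by simpa using hBe))).symm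

theorem NoCube.card_le [Finite G] (hp2 : p ≠ 2) (h : NoCube p G) {H R : Subgroup G} [hH : H.Normal]
    (hR : R ≤ center G) (hpow : ∀ a ∈ H, a ^ p ∈ R)
    (hc : ∀ a ∈ H, ∀ b ∈ H, ∀ c ∈ H, Commute c ⁅a, b⁆) : Nat.card H ≤ p ^ 2 * Nat.card R := by
  have hodd : Odd p := hp.out.odd_of_ne_two hp2
  have hmul : ∀ a ∈ H, ∀ b ∈ H, (a * b) ^ p = a ^ p * b ^ p := fun a ha b hb => by
    refine mul_pow_of_odd (hc b hb a ha a ha) (hc b hb a ha b hb) hodd ?_
    rw [← commutator_pow_left (hc b hb a ha b hb)]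
    exact commutatorElement_eq_one_iff_commute.2 (commute_of_mem_center (hR (hpow b hb)) a).symm
  let f : H →* G := MonoidHom.mk' (fun a => (a : G) ^ p) fun a b => hmul a a.2 b b.2
  have h1 : Nat.card f.range ≤ Nat.card R := card_le_of_le (by rintro _ ⟨a, rfl⟩; exact hpow a a.2)
  have h2 : Nat.card (f.ker.map H.subtype) ≤ p ^ 2 := by
    refine h _ ⟨?_⟩ ?_
    · rintro _ ⟨a, ha, rfl⟩ g
      refine ⟨⟨g * a * g⁻¹, hH.conj_mem _ a.2 g⟩, ?_, rfl⟩
      have : (a : G) ^ p = 1 := ha
      change (g * a * g⁻¹) ^ p = 1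
      rw [conj_pow, this]; simp
    · rintro _ ⟨a, ha, rfl⟩
      exact ha
  rw [card_map_of_injective H.subtype_injective] at h2
  rw [← card_mul_index f.ker, index_ker]
  exact Nat.mul_le_mul h2 h1

theorem comm_le_of_card_le_sq [Finite G] (hG : IsPGroup p G) {H K : Subgroup G} [K.Normal]
    (hKH : K ≤ H) (h : Nat.card H ≤ p ^ 2 * Nat.card K) : ⁅H, H⁆ ≤ K := by
  rw [le_iff_map_mk_eq_bot, Subgroup.map_commutator]
  set H' := H.map (QuotientGroup.mk' K)
  have h1 := H7.card_map_mul_card_inf_ker (QuotientGroup.mk' K) H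
  rw [QuotientGroup.ker_mk', inf_of_le_left hKH] at h1
  have h2 : Nat.card H' ≤ p ^ (0 + 2) :=
    Nat.le_of_mul_le_mul_right (h1.le.trans h) Nat.card_pos
  have h3 := congrArg (map H'.subtype)
    (lcs_eq_bot_of_card_le 0 ((hG.to_quotient K).to_subgroup H') h2)
  rwa [top_subtype_lowerCentralSeries, Subgroup.map_bot] at h3

theorem card_comap_mk [Finite G] (R : Subgroup G) [R.Normal] (E : Subgroup (G ⧸ R)) :
    Nat.card (E.comap (QuotientGroup.mk' R)) = Nat.card E * Nat.card R := by
  have h1 := H7.card_map_mul_card_inf_ker (QuotientGroup.mk' R) (E.comap (QuotientGroup.mk' R))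
  rw [map_comap_eq_self_of_surjective (QuotientGroup.mk'_surjective R),
    inf_of_le_left (ker_le_comap _ _), QuotientGroup.ker_mk'] at h1
  exact h1.symm

/-- The case where the quotient by a central subgroup of order `p` has a normal subgroup of order
`p ^ 3` and exponent `p`. -/
theorem NoCube.exists_small_cent [Finite G] (hp2 : p ≠ 2) (hG : IsPGroup p G) (h : NoCube p G)
    {H R : Subgroup G} [hH : H.Normal] (hR : R ≤ center G) (hRc : Nat.card R = p) (hRH : R ≤ H)
    (hHc : Nat.card H = p ^ 4) (hpow : ∀ a ∈ H, a ^ p ∈ R) :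
    ∃ x : G, Nat.card (centralizer ({x} : Set G)) ≤ p ^ 2 := by
  haveI := hG.isNilpotent
  have hp1 := hp.out.one_lt
  have hodd : Odd p := hp.out.odd_of_ne_two hp2
  have hn2 : ¬ ∀ a ∈ H, ∀ b ∈ H, ∀ c ∈ H, Commute c ⁅a, b⁆ := fun hc => by
    have := h.card_le hp2 hR hpow hc
    rw [hHc, hRc, ← pow_succ] at this
    exact absurd ((Nat.pow_le_pow_iff_right hp1).1 this) (by norm_num)
  have hZ : ∀ c ∈ H, c ∈ centralizer (H : Set G) → c ∈ R := fun c hc hcc => by
    by_contra hcR
    refine hn2 fun a ha b hb d hd => ?_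
    have h1 : R < H ⊓ centralizer (H : Set G) := lt_of_le_of_ne
      (le_inf hRH (hR.trans (center_le_centralizer _))) fun e => hcR (e ▸ ⟨hc, hcc⟩)
    have h2 := pow_lt_of_not_le (hG.to_subgroup (H ⊓ centralizer (H : Set G))) (k := 1)
      (by rw [pow_one, not_le, ← hRc]; exact H1.card_lt_of_lt h1)
    have h3 := comm_le_of_card_le_sq hG (K := H ⊓ centralizer (H : Set G)) inf_le_left
      (by rw [hHc]; calc p ^ 4 = p ^ 2 * p ^ (1 + 1) := by ring
        _ ≤ _ := Nat.mul_le_mul_left _ h2)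
    exact (h3 (commutator_mem_commutator ha hb)).2 d hd
  have hnc : ¬ IsCyclic H := fun hc => hn2 fun a ha b hb c _ => by
    have : IsMulCommutative H := hc.isMulCommutative
    rw [commutatorElement_eq_one_iff_commute.2 (H1.isMulCommutative_iff'.1 this a ha b hb)]
    exact Commute.one_right c
  obtain ⟨V, hVH, hVn, hV, hVc⟩ := exists_normal_rank_two hp2 hG H hnc
  set A := centralizer (V : Set G) with hA
  have hAi : A.index ≤ p := index_centralizer_le_prime hG V hVc
  have hHA : ¬ H ≤ A := fun e => by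
    have : V ≤ R := fun v hv => hZ v (hVH hv) (le_centralizer_iff.1 e hv)
    have := card_le_of_le this
    rw [hVc, hRc] at this
    nlinarith
  obtain ⟨x, hxH, hxA⟩ := SetLike.not_le_iff_exists.1 hHA
  set W := H ⊓ A with hW
  have hVW : V ≤ W := le_inf hVH (le_centralizer_iff_isMulCommutative.2 hV.1)
  have hWc : Nat.card W = p ^ 3 := by
    refine le_antisymm (le_pow_of_lt (hG.to_subgroup W) (hHc ▸ H1.card_lt_of_lt
      (lt_of_le_of_ne inf_le_left fun e => hHA (e.ge.trans inf_le_right)))) ?_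
    have := card_le_mul_card_inf_of_index_le hAi H
    rw [hHc, pow_succ'] at this
    exact Nat.le_of_mul_le_mul_left this hp.out.pos
  obtain ⟨w, hwW, hwp⟩ : ∃ w ∈ W, w ^ p ≠ 1 := by
    by_contra e
    push Not at e
    have := h W inferInstance e
    rw [hWc] at this
    exact absurd ((Nat.pow_le_pow_iff_right hp1).1 this) (by norm_num)
  have hwV : w ∉ V := fun e => hwp (hV.2 w e)
  have hWe := sup_zpowers_eq_of_card (p := p) hVW (by rw [hWc, hVc]; ring) hwW hwV
  have hWa : IsMulCommutative W := hWe ▸ isMulCommutative_sup_zpowers hV.1 hwW.2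
  have hHe := sup_zpowers_eq_of_card (p := p) (inf_le_left : W ≤ H) (by rw [hHc, hWc]; ring) hxH
    fun e => hxA e.2
  have hWV : ⁅W, (⊤ : Subgroup G)⁆ ≤ V := by
    obtain ⟨K, -, -, hKW, hKc, hK, -⟩ := exists_normal_card_eq_mul hG
      (lt_of_le_of_ne hVW fun e => hwV (e ▸ hwW))
    rwa [eq_of_le_of_card_ge hKW (by rw [hWc, hKc, hVc]; exact le_of_eq (by ring))] at hK
  have hRw : zpowers (w ^ p) = R :=
    (H7.eq_or_eq_bot_of_card_prime hRc (zpowers_le.2 (hpow w hwW.1))).resolve_left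
      (by rwa [zpowers_eq_bot])
  have key : centralizer ({x} : Set G) ⊓ A ≤ R := by
    rintro c ⟨hcx, hcA⟩
    by_contra hcR
    obtain ⟨j, hd, hdp⟩ := exists_pow_not_mem_pow_mem hG hcR
    have hdx : c ^ p ^ j ∈ centralizer ({x} : Set G) := pow_mem hcx _
    have hdA : c ^ p ^ j ∈ A := pow_mem hcA _
    generalize c ^ p ^ j = d at hd hdp hdx hdA
    rw [← hRw] at hdp
    obtain ⟨k, hk⟩ := mem_zpowers_iff.1 hdp
    have hb : w ^ (-k) ∈ W := zpow_mem hwW _
    have hcV : ⁅w ^ (-k), d⁆ ∈ V := hWV (commutator_mem_commutator hb (mem_top d))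
    have he : (d * w ^ (-k)) ^ p = 1 := by
      rw [mul_pow_of_odd (hdA _ hcV).symm (hb.2 _ hcV).symm hodd (hV.2 _ hcV), ← hk,
        ← zpow_natCast (w ^ (-k)), ← zpow_mul, ← zpow_natCast w, ← zpow_mul, ← zpow_add]
      simp [mul_comm]
    have heV := h.mem hp2 hG hV hVc (mul_mem hdA hb.2) he
    have hdW : d ∈ W := by simpa using mul_mem (hVW heV) (inv_mem hb)
    refine hd (hZ d hdW.1 ?_)
    rw [← hHe, centralizer_sup_zpowers]
    exact ⟨le_centralizer_iff_isMulCommutative.2 hWa hdW, hdx⟩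
  refine ⟨x, (card_le_mul_card_inf_of_index_le hAi _).trans ?_⟩
  rw [pow_two]
  exact Nat.mul_le_mul_left _ (hRc ▸ card_le_of_le key)

/-- The case where the quotient by a central subgroup of order `p` has maximal class. -/
theorem NoCube.lc_ne_bot [Finite G] (hp2 : p ≠ 2) (hG : IsPGroup p G) (h : NoCube p G)
    {R : Subgroup G} [R.Normal] (hR : R ≤ center G) (hRc : Nat.card R = p) {k : ℕ}
    (hc : Nat.card (G ⧸ R) = p ^ (k + 4)) (hl : H13.lc (G ⧸ R) (k + 2) ≠ ⊥) :
    H13.lc G (k + 3) ≠ ⊥ := by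
  intro h0
  have hp1 := hp.out.one_lt
  have hodd : Odd p := hp.out.odd_of_ne_two hp2
  have hs := QuotientGroup.mk'_surjective R
  obtain ⟨hM, hcard⟩ := H13.MC.of_class hc (by omega) hl
  have hcen : ∀ z ∈ H13.lc G (k + 2), z ∈ center G := fun z hz => H13.mem_center_of_lc h0 hz
  have hexp : H13.lc G (k + 2) ≤ omegaAb (center G) inferInstance p := by
    change ⁅H13.lc G (k + 1), ⊤⁆ ≤ _
    refine commutator_le.2 fun a ha g _ => ?_
    have h1 : ⁅a, g⁆ ∈ center G := hcen _ (commutator_mem_commutator ha (mem_top g))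
    refine mem_omegaAb.2 ⟨h1, ?_⟩
    rw [← commutator_pow_right (commute_of_mem_center h1 g)]
    have h2 := hM.pow_mem_lc_one (H13.lc_ne_bot_of_le hl (by omega)) (g : G ⧸ R)
    rw [← H13.lc_map hs] at h2
    obtain ⟨g', hg', e⟩ := h2
    have h3 : g'⁻¹ * g ^ p ∈ R := QuotientGroup.eq.1 e
    have h4 : g ^ p = g' * (g'⁻¹ * g ^ p) := by group
    have h5 : ⁅a, g'⁆ = 1 := by
      have := H13.comm_mem_lc ha hg'
      rwa [show k + 1 + 1 + 1 = k + 3 by ring, h0, mem_bot] at this
    rw [h4, commutatorElement_eq_one_iff_commute]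
    exact (commutatorElement_eq_one_iff_commute.1 h5).mul_right (commute_of_mem_center (hR h3) a)
  obtain ⟨v, hv, hvR⟩ : ∃ v ∈ H13.lc G (k + 2), v ∉ R := by
    refine SetLike.not_le_iff_exists.1 fun e => hl ?_
    rw [← H13.lc_map hs, ← le_iff_map_mk_eq_bot]
    exact e
  have hvp : v ^ p = 1 := (mem_omegaAb.1 (hexp hv)).2
  set V := R ⊔ zpowers v with hVd
  have hVZ : V ≤ center G := sup_le hR (zpowers_le.2 (hcen v hv))
  haveI : V.Normal := normal_of_le_center hVZ
  have hVc : Nat.card V = p ^ 2 := by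
    rw [hVd, card_sup_zpowers hp.out (by rw [normalizer_eq_top]; trivial) hvR
      (hvp ▸ one_mem R), hRc, pow_two]
  have hV : IsElementaryAbelian p V := by
    refine elementary_sup ⟨H1.isMulCommutative_iff'.2 fun a ha b _ =>
      (commute_of_mem_center (hR ha) b).symm, fun a ha => ?_⟩ (elementary_zpowers hvp)
      fun a ha b _ => (commute_of_mem_center (hR ha) b).symm
    have := pow_card_eq_one' (G := R) (x := ⟨a, ha⟩)
    rw [hRc] at this
    exact congrArg Subtype.val this
  have hom : ∀ x : G, x ^ p = 1 → x ∈ V := fun x hx =>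
    h.mem hp2 hG hV hVc (fun z hz => (commute_of_mem_center (hVZ hz) x).symm) hx
  have hnc : ¬ IsCyclic (⊤ : Subgroup (G ⧸ V)) := fun e => by
    haveI := isCyclic_iff_top.1 e
    have h1 := commutative_of_cyclic_center_quotient (QuotientGroup.mk' V)
      (by rw [QuotientGroup.ker_mk']; exact hVZ)
    have h2 : H13.lc G 1 = ⊥ := by
      change ⁅(⊤ : Subgroup G), ⊤⁆ = ⊥
      rw [commutator_eq_bot_iff_le_centralizer]
      exact fun a _ b _ => h1 b a
    have := H13.lc_anti (G := G) (show 1 ≤ k + 2 by omega) hv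
    rw [h2, mem_bot] at this
    exact hvR (this ▸ one_mem R)
  obtain ⟨E, -, hEn, hE, hEc⟩ := exists_normal_rank_two hp2 (hG.to_quotient V) ⊤ hnc
  set U := E.comap (QuotientGroup.mk' V) with hU
  haveI hUn : U.Normal := hEn.comap _
  have hUc : Nat.card U = p ^ 4 := by rw [hU, card_comap_mk, hEc, hVc]; ring
  have hUV : ∀ a ∈ U, ∀ b ∈ U, ⁅a, b⁆ ∈ V := fun a ha b hb => by
    rw [← QuotientGroup.eq_one_iff]
    change QuotientGroup.mk' V ⁅a, b⁆ = 1
    rw [map_commutatorElement, commutatorElement_eq_one_iff_commute]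
    exact H1.isMulCommutative_iff'.1 hE.1 _ ha _ hb
  have hUp : ∀ a ∈ U, a ^ p ∈ V := fun a ha => by
    rw [← QuotientGroup.eq_one_iff]
    exact hE.2 _ ha
  have hUG : ∀ a ∈ U, ∀ g : G, ⁅a, g⁆ ∈ V := fun a ha g => by
    refine hom _ ?_
    have hb : g * a⁻¹ * g⁻¹ ∈ U := hUn.conj_mem _ (inv_mem ha) g
    have h1 := hUV _ hb _ ha
    have h2 : ⁅a, g⁆ = a * (g * a⁻¹ * g⁻¹) := by simp only [commutatorElement_def]; group
    rw [h2, mul_pow_of_odd (commute_of_mem_center (hVZ h1) _) (commute_of_mem_center (hVZ h1) _)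
      hodd (hV.2 _ h1), conj_pow, inv_pow,
      (commute_of_mem_center (inv_mem (hVZ (hUp a ha))) g).eq]
    simp
  have h1 : U.map (QuotientGroup.mk' R) ≤ H13.lc (G ⧸ R) (k + 1) := by
    refine le_trans ?_ (hM.upper_two_le hl)
    rintro _ ⟨a, ha, rfl⟩
    rw [Subgroup.mem_upperCentralSeries_succ_iff]
    intro y
    obtain ⟨g, rfl⟩ := hs y
    rw [Subgroup.upperCentralSeries_one, mem_center_iff]
    intro t
    obtain ⟨t, rfl⟩ := hs t
    have := (commute_of_mem_center (hVZ (hUG a ha g)) t).map (QuotientGroup.mk' R)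
    simpa only [map_commutatorElement] using this.eq
  have h2 := card_le_of_le h1
  have h3 := H7.card_map_mul_card_inf_ker (QuotientGroup.mk' R) U
  have hRU : R ≤ U := le_sup_left.trans (by
    simpa only [QuotientGroup.ker_mk'] using ker_le_comap (QuotientGroup.mk' V) E)
  rw [QuotientGroup.ker_mk', inf_of_le_left hRU, hRc, hUc] at h3
  rw [hcard _ (by omega), show k + 4 - 1 - (k + 1) = 2 by omega] at h2
  have h4 : p ^ 4 ≤ p ^ 3 := by rw [← h3, pow_succ]; exact Nat.mul_le_mul_right _ h2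
  exact absurd ((Nat.pow_le_pow_iff_right hp1).1 h4) (by norm_num)

theorem NoCube.index_le_or (hp2 : p ≠ 2) (n : ℕ) : ∀ (G : Type u) [Group G] [Finite G],
    Nat.card G = p ^ n → NoCube p G →
      (powerClosure p 1 (⊤ : Subgroup G)).index ≤ p ^ 2 ∨ (2 ≤ n ∧ H13.lc G (n - 2) ≠ ⊥) := by
  induction n with
  | zero =>
    intro G _ _ hc _
    exact Or.inl ((Nat.le_of_dvd Nat.card_pos (index_dvd_card _)).trans
      (hc ▸ Nat.pow_le_pow_right hp.out.pos (by omega)))
  | succ n ih =>
    intro G _ _ hc h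
    have hG := IsPGroup.of_card hc
    haveI := hG.isNilpotent
    have hp1 := hp.out.one_lt
    by_cases h0 : powerClosure p 1 (⊤ : Subgroup G) = ⊥
    · left
      rw [h0, index_bot, ← card_top]
      refine h ⊤ inferInstance fun s hs => ?_
      have := pow_mem_powerClosure_one (p := p) hs
      rwa [h0, mem_bot] at this
    obtain ⟨r, hr, hrZ, hro⟩ := exists_mem_center_orderOf_eq hG h0
    set R := zpowers r with hRd
    have hR : R ≤ center G := zpowers_le.2 hrZ
    haveI : R.Normal := normal_of_le_center hR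
    have hRc : Nat.card R = p := by rw [hRd, Nat.card_zpowers, hro]
    have hQ : Nat.card (G ⧸ R) = p ^ n := by
      have := card_eq_card_quotient_mul_card_subgroup R
      rw [hc, hRc, pow_succ] at this
      exact (Nat.eq_of_mul_eq_mul_right hp.out.pos this).symm
    have hs := QuotientGroup.mk'_surjective R
    by_cases hN : NoCube p (G ⧸ R)
    · have hi : (powerClosure p 1 (⊤ : Subgroup (G ⧸ R))).index =
          (powerClosure p 1 (⊤ : Subgroup G)).index := by
        rw [← map_top_of_surjective _ hs, ← map_powerClosure]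
        exact index_map_eq _ hs (by rw [QuotientGroup.ker_mk']; exact zpowers_le.2 hr)
      by_cases hi2 : (powerClosure p 1 (⊤ : Subgroup G)).index ≤ p ^ 2
      · exact Or.inl hi2
      rw [← hi] at hi2
      obtain ⟨h1, h2⟩ := (ih (G ⧸ R) hQ hN).resolve_left hi2
      have h4 : 4 ≤ n := by
        by_contra h3
        have h5 := card_mul_index (powerClosure p 1 (⊤ : Subgroup (G ⧸ R)))
        by_cases h6 : powerClosure p 1 (⊤ : Subgroup (G ⧸ R)) = ⊥
        · refine hi2 ?_
          rw [h6, index_bot, ← card_top]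
          refine hN ⊤ inferInstance fun s hs => ?_
          have := pow_mem_powerClosure_one (p := p) hs
          rwa [h6, mem_bot] at this
        · have h7 := prime_le_card ((hG.to_quotient R).to_subgroup _) h6
          have h8 : p ^ n ≤ p ^ 3 := Nat.pow_le_pow_right hp.out.pos (by omega)
          rw [hQ] at h5
          refine hi2 (Nat.le_of_mul_le_mul_left ?_ hp.out.pos)
          calc _ ≤ _ := Nat.mul_le_mul_right _ h7
            _ ≤ p ^ 3 := h5.le.trans h8
            _ = _ := by ring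
      obtain ⟨k, rfl⟩ := Nat.exists_eq_add_of_le' h4
      exact Or.inr ⟨by omega, h.lc_ne_bot hp2 hG hR hRc hQ h2⟩
    · obtain ⟨S, hS, hSe, hSc⟩ := exists_cube_of_not (hG.to_quotient R) hN
      haveI := hS.comap (QuotientGroup.mk' R)
      obtain ⟨x, hx⟩ := h.exists_small_cent hp2 hG (H := S.comap (QuotientGroup.mk' R)) hR hRc
        (by simpa only [QuotientGroup.ker_mk'] using ker_le_comap (QuotientGroup.mk' R) S)
        (by rw [card_comap_mk, hSc, hRc]; ring) fun a ha => by
          rw [← QuotientGroup.eq_one_iff]; exact hSe _ ha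
      have h3 : 3 ≤ n := by
        have := card_le_of_le (le_top : S ≤ ⊤)
        rw [card_top, hQ, hSc] at this
        exact (Nat.pow_le_pow_iff_right hp1).1 this
      obtain ⟨k, rfl⟩ := Nat.exists_eq_add_of_le' h3
      have := H6.class_of_card_cent (k + 2) G x hc hx
      refine Or.inr ⟨by omega, fun e => ?_⟩
      have := Subgroup.lowerCentralSeries_eq_bot_iff_nilpotencyClass_le.1 e
      omega

end H9
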