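import Cfsg.Agent.H9.HH4
import Cfsg.Agent.H2.BG25
import Cfsg.Agent.H5.Radical
import Cfsg.Agent.H15.Syl

/-! Nilpotent residuals, Fitting height and towers for coprime operator groups. -/

set_option autoImplicit false

namespace H9
open Module H2 Subgroup H15 Cfsg
open scoped commutatorElement

universe u

section Nres
variable {G : Type*} [Group G]

/-- nilpotent residual -/
def nres (D : Subgroup G) : Subgroup G := ⨅ k, D.lowerCentralSeries k

theorem nres_le_lcs (D : Subgroup G) (k : ℕ) : nres D ≤ D.lowerCentralSeries k := iInf_le _ k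

theorem nres_le (D : Subgroup G) : nres D ≤ D := nres_le_lcs D 0

theorem exists_lcs_eq_nres [Finite G] (D : Subgroup G) :
    ∃ k, ∀ m, k ≤ m → D.lowerCentralSeries m = nres D := by
  obtain ⟨k, hk⟩ := WellFoundedLT.antitone_chain_condition (D.lowerCentralSeries_antitone)
  refine ⟨k, fun m hm => le_antisymm (le_iInf fun j => ?_) (nres_le_lcs D m)⟩
  rcases le_total j m with h | h
  · exact D.lowerCentralSeries_antitone h
  · rw [← hk m hm, hk j (hm.trans h)]

theorem comm_nres [Finite G] (D : Subgroup G) : ⁅nres D, D⁆ = nres D := by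
  obtain ⟨k, hk⟩ := exists_lcs_eq_nres D
  conv_lhs => rw [← hk k le_rfl]
  exact hk (k + 1) (Nat.le_succ k)

theorem nres_eq_bot_iff [Finite G] {D : Subgroup G} : nres D = ⊥ ↔ Group.IsNilpotent D := by
  rw [isNilpotent_iff_lowerCentralSeries]
  obtain ⟨k, hk⟩ := exists_lcs_eq_nres D
  exact ⟨fun h => ⟨k, (hk k le_rfl).trans h⟩, fun ⟨n, hn⟩ => le_bot_iff.1 (hn ▸ nres_le_lcs D n)⟩

theorem lcs_mono' {D E : Subgroup G} (h : D ≤ E) (k : ℕ) :
    D.lowerCentralSeries k ≤ E.lowerCentralSeries k := by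
  induction k with
  | zero => exact h
  | succ k ih => exact commutator_mono ih h

theorem nres_mono {D E : Subgroup G} (h : D ≤ E) : nres D ≤ nres E :=
  iInf_mono fun k => lcs_mono' h k

theorem map_nres [Finite G] {G' : Type*} [Group G'] [Finite G'] (f : G →* G') (D : Subgroup G) :
    (nres D).map f = nres (D.map f) := by
  obtain ⟨k, hk⟩ := exists_lcs_eq_nres D
  obtain ⟨k', hk'⟩ := exists_lcs_eq_nres (D.map f)
  rw [← hk (k + k') (by omega), ← hk' (k + k') (by omega), map_lowerCentralSeries]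

theorem map_nres_iter [Finite G] {G' : Type*} [Group G'] [Finite G'] (f : G →* G') (n : ℕ)
    (D : Subgroup G) : (nres^[n] D).map f = nres^[n] (D.map f) := by
  induction n with
  | zero => rfl
  | succ n ih => rw [Function.iterate_succ_apply', Function.iterate_succ_apply', map_nres, ih]

theorem lcs_normal' (D : Subgroup G) [D.Normal] (k : ℕ) : (D.lowerCentralSeries k).Normal := by
  induction k with
  | zero => assumption
  | succ k ih => rw [Subgroup.lowerCentralSeries_succ]; infer_instance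

instance nres_normal (D : Subgroup G) [D.Normal] : (nres D).Normal :=
  ⟨fun n hn g => mem_iInf.2 fun k => (lcs_normal' D k).conj_mem n (mem_iInf.1 hn k) g⟩

theorem nres_iter_normal (D : Subgroup G) [D.Normal] (n : ℕ) : (nres^[n] D).Normal := by
  induction n with
  | zero => assumption
  | succ n ih => rw [Function.iterate_succ_apply']; infer_instance

theorem nres_iter_mono {D E : Subgroup G} (h : D ≤ E) (n : ℕ) : nres^[n] D ≤ nres^[n] E := by
  induction n with
  | zero => exact h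
  | succ n ih => rw [Function.iterate_succ_apply', Function.iterate_succ_apply']; exact nres_mono ih

theorem nres_iter_anti (D : Subgroup G) : Antitone fun n => nres^[n] D :=
  antitone_nat_of_succ_le fun n => by rw [Function.iterate_succ_apply']; exact nres_le _

theorem chain_of_nres [Finite G] {n : ℕ} (h : nres^[n] (⊤ : Subgroup G) = ⊥) :
    ∃ F : Fin (n + 1) → Subgroup G, F 0 = ⊥ ∧ F (Fin.last n) = ⊤ ∧ Monotone F ∧
      (∀ i, (F i).Normal) ∧ ∀ i : Fin n, ∃ k : ℕ, (F i.succ).lowerCentralSeries k ≤ F i.castSucc := by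
  refine ⟨fun i => nres^[n - i] ⊤, by simpa using h, by simp, fun i j hij =>
    nres_iter_anti ⊤ (Nat.sub_le_sub_left hij n), fun i => nres_iter_normal ⊤ _, fun i => ?_⟩
  obtain ⟨k, hk⟩ := exists_lcs_eq_nres (nres^[n - (i.succ : ℕ)] (⊤ : Subgroup G))
  refine ⟨k, ?_⟩
  have e : n - (i.castSucc : ℕ) = (n - (i.succ : ℕ)) + 1 := by
    have := i.2
    simp only [Fin.val_castSucc, Fin.val_succ]; omega
  simp only [e, Function.iterate_succ_apply']
  exact (hk k le_rfl).le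

theorem nres_of_chain {n : ℕ} (F : Fin (n + 1) → Subgroup G) (h0 : F 0 = ⊥)
    (h1 : F (Fin.last n) = ⊤)
    (h : ∀ i : Fin n, ∃ k : ℕ, (F i.succ).lowerCentralSeries k ≤ F i.castSucc) :
    nres^[n] (⊤ : Subgroup G) = ⊥ := by
  have key : ∀ j (hj : j ≤ n), nres^[j] (⊤ : Subgroup G) ≤ F ⟨n - j, by omega⟩ := by
    intro j
    induction j with
    | zero => intro _; exact h1.ge
    | succ j ih =>
      intro hj
      obtain ⟨k, hk⟩ := h ⟨n - (j + 1), by omega⟩
      rw [Function.iterate_succ_apply']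
      refine (nres_mono (ih (by omega))).trans ((nres_le_lcs _ k).trans (le_of_eq_of_le ?_ hk))
      congr 2
      ext; simp only [Fin.val_succ]; omega
  have := key n le_rfl
  simp only [Nat.sub_self] at this
  exact le_bot_iff.1 (this.trans h0.le)

variable [Finite G]

theorem core_le_comm {D X : Subgroup G} (hD : Group.IsNilpotent D) (hX : X ≤ 𝒩(D))
    (h : D ≤ ⁅D, X⁆) (π : Set ℕ) : piCoreOf π D ≤ ⁅piCoreOf π D, X⁆ := by
  set Q := piCoreOf π D
  set O := piCoreOf πᶜ D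
  have hXQ : X ≤ 𝒩(Q) := le_norm_piCoreOf π hX
  have hXO : X ≤ 𝒩(O) := le_norm_piCoreOf πᶜ hX
  have hOC : O ≤ 𝒞(⁅Q, X⁆) := (piCoreOf_compl_le_cent π D).trans (cent_anti (comm_le_left hXQ))
  have hQn : Q ≤ 𝒩(⁅Q, X⁆) := normalizer_commutator_ge_left Q X
  have h1 : D ≤ O ⊔ ⁅Q, X⁆ := by
    refine h.trans ?_
    conv_lhs => rw [← piCoreOf_sup_compl hD π]
    exact comm_sup_left_le le_sup_right ((comm_le_left hXO).trans le_sup_left)
      (le_norm_sup ((piCoreOf_le π D).trans (le_norm_piCoreOf_self _ D)) hQn)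
      (le_norm_sup (le_norm_self O) (le_norm_of_le_cent hOC))
  refine le_of_isPi_of_idx (isPi_piCoreOf π D) ((piCoreOf_le π D).trans h1)
    (sup_le (le_norm_of_le_cent hOC) (le_norm_self _)) ?_
  exact H1.IsPiNat.of_dvd (isPi_piCoreOf πᶜ D).nat (relIndex_sup_dvd' (le_norm_of_le_cent hOC))

theorem hall_le_comm_sup {D X B R : Subgroup G} [X.Normal] (hX : nres D ≤ X) (hB : B ≤ 𝒩(D))
    (h : D ≤ ⁅D, B⁆) {π : Set ℕ} (hR : IsPiHallOf π R D) : R ≤ ⁅R, B⁆ ⊔ X := by
  have hn : Group.IsNilpotent (D.map (QuotientGroup.mk' X)) := by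
    rw [← nres_eq_bot_iff, ← map_nres, Subgroup.map_eq_bot_iff, QuotientGroup.ker_mk']; exact hX
  have h1 := core_le_comm hn (H1.le_normalizer_map hB _)
    (by rw [← map_commutator]; exact map_mono h) π
  rw [← (hR.map (QuotientGroup.mk' X)).eq_piCoreOf_of_nilpotent hn, ← map_commutator,
    map_le_iff_le_comap, comap_map_eq, QuotientGroup.ker_mk'] at h1
  exact h1

theorem exists_prime_relIndex {E X C D : Subgroup G} [E.Normal] [X.Normal] [C.Normal] {l : ℕ}
    [hl : Fact l.Prime] (hXE : X < E) (hpw : ∀ x ∈ E, x ^ l ∈ X) (hE : E ≤ ⁅E, D⁆)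
    (hC : ⁅E, C⁆ ≤ X) : ∃ q : ℕ, q.Prime ∧ q ≠ l ∧ q ∣ C.relIndex D := by
  by_contra hc
  push Not at hc
  obtain ⟨P, hP⟩ := exists_syl l D
  have h1 : P ⊔ (C ⊓ D) = D := hP.sup_eq_of_idx inf_le_right (by
    rw [inf_relIndex_right]
    exact fun q hq hd => by_contra fun h => hc q hq h hd)
  let f := QuotientGroup.mk' X
  have hEp : IsPGroup l (E.map f) := H1.isPGroup_of_pow_eq_one (by
    rintro _ ⟨x, hx, rfl⟩
    rw [← map_pow]; exact (QuotientGroup.eq_one_iff _).2 (hpw x hx))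
  haveI : (E.map f).Normal := Normal.map inferInstance _ (QuotientGroup.mk'_surjective X)
  have hK : IsPGroup l (E.map f ⊔ P.map f : Subgroup _) :=
    IsPGroup.to_sup_of_normal_left hEp (hP.isPGroup.map f)
  have h2 := H1.commutator_lt_of_isNilpotent (N := E.map f) hK.isNilpotent le_sup_left
    le_normalizer_of_normal (fun h => hXE.not_ge (by
      rwa [Subgroup.map_eq_bot_iff, QuotientGroup.ker_mk'] at h))
  refine h2.not_ge ((map_mono hE).trans ?_)
  rw [map_commutator, ← h1, Subgroup.map_sup, commutator_comm]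
  refine comm_sup_left_le ((commutator_comm _ _).le.trans (commutator_mono le_rfl le_sup_right)) ?_
    (le_norm_comm le_normalizer_of_normal (le_norm_of_le le_sup_right)) ?_
  · rw [commutator_comm, ← map_commutator]
    refine le_trans (le_of_eq ((Subgroup.map_eq_bot_iff _).2 ?_)) bot_le
    rw [QuotientGroup.ker_mk']
    exact (commutator_mono le_rfl inf_le_left).trans hC
  · refine le_norm_of_le_cent ((cent_comm (le_cent_iff_comm.2 ?_)).trans
      (cent_anti (comm_le_left le_normalizer_of_normal)))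
    rw [← map_commutator, Subgroup.map_eq_bot_iff, QuotientGroup.ker_mk']
    exact (commutator_mono le_rfl inf_le_left).trans hC

theorem comm_ker_nrmRep {F : Type*} [Field F] (T : Subgroup G) [T.Normal] :
    ⁅T, (nrmRep F T).ker⁆ ≤ homKer F T := commutator_le.2 fun t ht g hg => by
  have := mem_ker_nrmRep.1 (inv_mem hg) t⁻¹ (inv_mem ht)
  simpa [commutatorElement_def, mul_assoc] using this

theorem le_ker_nrmRep_of {F : Type*} [Field F] {T X : Subgroup G} [T.Normal]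
    (h : ⁅T, X⁆ ≤ homKer F T) : X ≤ (nrmRep F T).ker := fun g hg => mem_ker_nrmRep.2 fun t ht => by
  have := h (commutator_mem_commutator (inv_mem ht) (inv_mem hg))
  simpa [commutatorElement_def, mul_assoc] using this

theorem homKer_normal (F : Type*) [Field F] (T : Subgroup G) [T.Normal] : (homKer F T).Normal :=
  normalizer_eq_top_iff.1 (top_le_iff.1 (le_normalizer_of_normal.trans
    (normalizer_le_normalizer_homKer T)))

theorem homKer_lt_of_isPGroup (F : Type*) [Field F] {q : ℕ} [Fact q.Prime] [CharP F q]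
    {Q : Subgroup G} (hQ : IsPGroup q Q) (h : Q ≠ ⊥) : homKer F Q < Q := by
  rw [homKer_eq_frattini hQ]; exact H1.frattiniOf_lt h

theorem le_cent_of_le_ker {F : Type*} [Field F] {q : ℕ} [Fact q.Prime] [CharP F q]
    {Q R : Subgroup G} [Q.Normal] (hQ : IsPGroup q Q) (hR : (Nat.card R).Coprime q)
    (h : R ≤ (nrmRep F Q).ker) : R ≤ 𝒞(Q) := by
  refine H1.le_centralizer_of_commutator_le_frattini le_normalizer_of_normal ?_ ?_
  · obtain ⟨k, hk⟩ := IsPGroup.iff_card.1 (hQ.to_subgroup (frattini Q))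
    rw [hk]; exact hR.pow_right k
  · rw [← homKer_eq_frattini (F := F) hQ]
    exact (commutator_mono le_rfl h).trans (comm_ker_nrmRep Q)

end Nres

variable {G : Type u} [Group G] [Finite G]

/-- coprime fixed-point-free operator group on a solvable normal subgroup -/
structure Op (K A : Subgroup G) : Prop where
  nrm : K.Normal
  solv : Group.IsSolvable K
  sup : K ⊔ A = ⊤
  cop : (Nat.card A).Coprime (Nat.card K)
  fpf : K ⊓ 𝒞(A) = ⊥

theorem Op.le_norm {K A : Subgroup G} (h : Op K A) : A ≤ 𝒩(K) :=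
  haveI := h.nrm; le_normalizer_of_normal

theorem Op.map {G' : Type u} [Group G'] [Finite G'] {K A : Subgroup G} (h : Op K A) {f : G →* G'}
    (hf : Function.Surjective f) : Op (K.map f) (A.map f) where
  nrm := h.nrm.map f hf
  solv := H1.isSolvable_map h.solv f
  sup := by rw [← Subgroup.map_sup, h.sup, map_top_of_surjective f hf]
  cop := (h.cop.coprime_dvd_left (card_map_dvd _ _)).coprime_dvd_right (card_map_dvd _ _)
  fpf := by
    rw [← H1.map_inf_centralizer_of_coprime f h.le_norm h.cop (Or.inr h.solv), h.fpf,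
      Subgroup.map_bot]

theorem Op.normal_of {K A D : Subgroup G} (h : Op K A) (hK : K ≤ 𝒩(D)) (hA : A ≤ 𝒩(D)) :
    D.Normal := normalizer_eq_top_iff.1 (top_le_iff.1 (h.sup ▸ sup_le hK hA))

theorem Op.cop' {K A X B : Subgroup G} (h : Op K A) (hX : X ≤ K) (hB : B ≤ A) :
    (Nat.card B).Coprime (Nat.card X) :=
  (h.cop.coprime_dvd_left (card_dvd_of_le hB)).coprime_dvd_right (card_dvd_of_le hX)

theorem Op.solv' {K A X : Subgroup G} (h : Op K A) (hX : X ≤ K) : Group.IsSolvable X :=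
  H1.isSolvable_of_le h.solv hX

theorem Op.fpf' {K A X : Subgroup G} (h : Op K A) (hX : X ≤ K) : X ⊓ 𝒞(A) = ⊥ :=
  le_bot_iff.1 ((inf_le_inf_right _ hX).trans h.fpf.le)

theorem Op.le_comm {K A X : Subgroup G} (h : Op K A) (hX : X ≤ K) (hA : A ≤ 𝒩(X)) :
    X ≤ ⁅X, A⁆ := by
  have := H1.commutator_sup_centralizer hA (h.cop' hX le_rfl) (Or.inr (h.solv' hX))
  rw [h.fpf' hX, sup_bot_eq] at this
  exact this.ge

theorem Op.inf_eq {K A : Subgroup G} (h : Op K A) : K ⊓ A = ⊥ :=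
  H1.inf_eq_bot_of_coprime' h.cop.symm

/-- first level of a tower -/
theorem Op.tower {K A D : Subgroup G} (h : Op K A) [D.Normal] (hDK : D ≤ K) (hD : nres D ≠ ⊥) :
    ∃ (N : Subgroup G) (_ : N.Normal) (F : Type) (_ : Field F) (_ : IsAlgClosed F) (W : Type u)
      (_ : AddCommGroup W) (_ : Module F W) (_ : FiniteDimensional F W) (ρ : G ⧸ N →* End F W)
      (q : ℕ), N ≤ K ∧ nres D ≤ N ∧ ρ.ker ⊓ K.map (QuotientGroup.mk' N) = ⊥ ∧
        fix ρ (A.map (QuotientGroup.mk' N)) = ⊥ ∧ (Nat.card A : F) ≠ 0 ∧ q.Prime ∧ (q : F) ≠ 0 ∧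
        q ∣ Nat.card (D.map (QuotientGroup.mk' N)) ∧
        ∀ X ≤ K, (∀ x ∈ ⁅nres D, X⁆, (orderOf x : F) ≠ 0) → X ≤ N := by
  haveI := h.nrm
  set E := nres D
  have hEK : E ≤ K := (nres_le D).trans hDK
  obtain ⟨l, hl, hlE, hlt⟩ := exists_homKer_lt (H1.commutator_self_lt (h.solv' hEK) hD)
  haveI : Fact l.Prime := ⟨hl⟩
  let F := AlgebraicClosure (ZMod l)
  let ρ0 := nrmRep F E
  let N := ρ0.ker ⊓ K
  haveI := homKer_normal F E
  obtain ⟨q, hq, hql, hqd⟩ := exists_prime_relIndex (C := N) (D := D) (hlt F)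
    (fun x hx => pow_mem_homKer E l hx) (comm_nres D).ge
    ((commutator_mono le_rfl inf_le_left).trans (comm_ker_nrmRep E))
  have hAF : (Nat.card A : F) ≠ 0 :=
    natCast_ne_zero_of_coprime F hl hlE (h.cop' hEK le_rfl).symm
  refine ⟨N, inferInstance, F, inferInstance, inferInstance, homSp F E ⊥, inferInstance,
    inferInstance, inferInstance, QuotientGroup.lift N ρ0 fun x hx => hx.1, q, inf_le_right,
    le_inf le_ker_nrmRep hEK, ?_, ?_, hAF, hq,
    natCast_ne_zero_of_coprime' F ((Nat.coprime_primes hq hl).2 hql), ?_, ?_⟩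
  · rw [eq_bot_iff]
    rintro _ ⟨h1, x, hx, rfl⟩
    exact (QuotientGroup.eq_one_iff x).2 ⟨h1, hx⟩
  · rw [← fix_comp]
    have := homFix_eq_bot (F := F) (k := l) (A := E) (R := A) le_normalizer_of_normal
      (h.cop' hEK le_rfl) (Or.inr (h.solv' hEK)) hAF (h.fpf' hEK)
    rw [← this]
    exact fix_resRep (conjRep F G) _
      (fun k _ hu => conjRep_mem (le_normalizer_of_normal (mem_top k)) hu) A
  · rwa [H1.card_map_mk'_eq_relIndex]
  · intro X hX hx
    refine le_inf (le_ker_nrmRep_of fun x hxx => ?_) hX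
    have hxE : x ∈ E := comm_le_left le_normalizer_of_normal hxx
    refine ⟨hxE, fun f hf => ?_⟩
    have := homSp_pow hf hxE (orderOf x)
    rw [pow_orderOf_eq_one, homSp_one hf] at this
    exact (mul_eq_zero.1 this.symm).resolve_left (hx x hxx)

/-- upper levels of a tower -/
theorem Op.tower_up {K A D : Subgroup G} (h : Op K A) [D.Normal] (hDK : D ≤ K)
    (hn : nres (nres D) = ⊥) {q : ℕ} (hq : q.Prime) (hd : q ∣ Nat.card (nres D)) :
    ∃ (Q R : Subgroup G) (r : ℕ), Q.Normal ∧ Q ≤ K ∧ IsPGroup q Q ∧ r.Prime ∧ r ≠ q ∧ R ≤ K ∧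
      IsPGroup r R ∧ A ≤ 𝒩(R) ∧ ¬ R ≤ 𝒞(Q) ∧ ∀ B ≤ A, D ≤ ⁅D, B⁆ → ¬ ⁅R, B⁆ ≤ 𝒞(Q) := by
  haveI : Fact q.Prime := ⟨hq⟩
  have hE := nres_eq_bot_iff.1 hn
  set E := nres D
  set Q := piCoreOf {q} E
  haveI hQn : Q.Normal := normalizer_eq_top_iff.1 (top_le_iff.1
    (le_norm_piCoreOf _ le_normalizer_of_normal))
  have hQp : IsPGroup q Q := (isPi_piCoreOf _ E).isPGroup
  have hQ0 : Q ≠ ⊥ := piCoreOf_ne_bot_of_nilpotent hE hq rfl hd
  have hQD : Q ≤ ⁅Q, D⁆ := core_le_comm hE le_normalizer_of_normal (comm_nres D).ge _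
  let C := (nrmRep (ZMod q) Q).ker
  haveI := homKer_normal (ZMod q) Q
  have hCC : 𝒞(Q) ≤ C := le_ker_nrmRep_of (by
    rw [commutator_comm, le_cent_iff_comm.1 le_rfl]; exact bot_le)
  have hEC : E ≤ C := by
    rw [← piCoreOf_sup_compl hE {q}]
    exact sup_le le_ker_nrmRep ((piCoreOf_compl_le_cent _ E).trans hCC)
  obtain ⟨r, hr, hrq, hrd⟩ := exists_prime_relIndex (C := C) (D := D)
    (homKer_lt_of_isPGroup (ZMod q) hQp hQ0) (fun x hx => pow_mem_homKer Q q hx) hQD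
    (comm_ker_nrmRep Q)
  haveI : Fact r.Prime := ⟨hr⟩
  obtain ⟨R, hR, hAR⟩ := H1.exists_invariant_sylowOf r (K := D) (A := A) le_normalizer_of_normal
    (h.cop' hDK le_rfl) (Or.inr (h.solv' hDK))
  have hRC : ¬ R ≤ C := fun hc =>
    hR.not_dvd_idx hr rfl (hrd.trans (relIndex_dvd_of_le_left D hc))
  refine ⟨Q, R, r, hQn, (piCoreOf_le _ E).trans ((nres_le D).trans hDK), hQp, hr, hrq,
    hR.le.trans hDK, hR.isPGroup, hAR, fun hc => hRC (hc.trans hCC), fun B _ hB hc => hRC ?_⟩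
  exact (hall_le_comm_sup hEC le_normalizer_of_normal hB hR).trans (sup_le (hc.trans hCC) le_rfl)

/-- configuration produced by a minimal nontrivial action -/
structure MinA (L B Q : Subgroup G) : Prop where
  norm : L ≤ 𝒩(Q)
  comm : ⁅Q, B⁆ = Q
  der : ⁅Q, Q⁆ = Q ⊓ 𝒞(B)
  lt : ⁅Q, Q⁆ < Q
  cent : Q ≤ 𝒞(⁅Q, Q⁆)
  min : ∀ Y < Q, L ≤ 𝒩(Y) → B ≤ 𝒞(Y)
  ex : ∃ q : ℕ, q.Prime ∧ IsPGroup q Q ∧ ∀ x ∈ Q, x ^ q ∈ ⁅Q, Q⁆

theorem exists_minA {L B T : Subgroup G} (hLT : L ≤ 𝒩(T)) (hBL : B ≤ L) (hLB : L ≤ 𝒩(B))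
    (hcop : (Nat.card L).Coprime (Nat.card T)) (hs : Group.IsSolvable T) (hn : ¬ B ≤ 𝒞(T)) :
    ∃ Q ≤ T, MinA L B Q := by
  obtain ⟨Q, ⟨h1, h2⟩, hQT, hmin⟩ := H1.exists_minimal_le
    (fun Q : Subgroup G => L ≤ 𝒩(Q) ∧ ¬ B ≤ 𝒞(Q)) ⟨hLT, hn⟩
  have hm : ∀ Y < Q, L ≤ 𝒩(Y) → B ≤ 𝒞(Y) := fun Y hY hL =>
    by_contra fun hc => hY.ne (hmin Y ⟨hL, hc⟩ hY.le)
  obtain ⟨q, a, b, c, d, e, f, g⟩ := min_action h1 hBL hLB
    (hcop.coprime_dvd_right (card_dvd_of_le hQT)) (Or.inr (H1.isSolvable_of_le hs hQT)) h2 hm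
  exact ⟨Q, hQT, h1, c, d, e, f, hm, q, a, b, g⟩

end H9
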