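import Cfsg.Agent.H9.Sh1

/-! Representation-theoretic core of Shult's theorem. -/

set_option autoImplicit false

namespace H9
open Module H2 Subgroup H15 Cfsg
open scoped commutatorElement

theorem arith_two {ι : Type*} [Fintype ι] (n : ι → ℕ) {h q m : ℕ} (hh : Fintype.card ι = h)
    (hq : ∑ i, n i = q) (hs : ∑ i, n i ^ 2 ≤ 1 + m) (hm : q ^ 2 = 1 + h * m) (hq1 : q ≠ 1)
    {i j : ι} (hij : i ≠ j) (hi : n i = 0) (hj : n j = 0) : False := by
  classical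
  have h1 := (arith25 n hh hq hs hm).2 hq1 ⟨i, hi⟩
  have e : ∀ f : ι → ℕ, f i = 0 → f j = 0 →
      ∑ k, f k = ∑ k ∈ (Finset.univ.erase i).erase j, f k := fun f a b => by
    rw [Finset.sum_erase _ b, Finset.sum_erase _ a]
  have h2 := sq_sum_le_card_mul_sum_sq (s := (Finset.univ.erase i).erase j) (f := n)
  rw [← e n hi hj, ← e (fun k => n k ^ 2) (by simp [hi]) (by simp [hj]), hq,
    Finset.card_erase_of_mem (Finset.mem_erase.2 ⟨hij.symm, Finset.mem_univ _⟩),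
    Finset.card_erase_of_mem (Finset.mem_univ _), Finset.card_univ, hh, h1] at h2
  rw [h1] at hm
  obtain ⟨k, rfl⟩ : ∃ k, q = k + 1 := ⟨q - 1, by
    rcases Nat.eq_zero_or_pos q with h0 | h0
    · rw [h0] at hm; omega
    · omega⟩
  simp only [Nat.add_sub_cancel] at h2
  have h3 : m = k := by nlinarith
  subst h3
  nlinarith [Nat.mul_le_mul_left m hs]

section Core
variable {F W : Type*} [Field F] [AddCommGroup W] [Module F W] {P H : Type*} [Group P] [Group H]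
  [IsAlgClosed F] [FiniteDimensional F W] [Finite P] [Finite H] [Nontrivial W]

theorem core25w_simp {σ : P →* End F W} {Z : Subgroup P} (h : Heis σ Z) (hs : IsSimp σ)
    (τ : H →* End F W) (φ : H →* MulAut P) (hc : ∀ r k, τ r * σ k = σ (φ r k) * τ r)
    (hP : (Nat.card P : F) ≠ 0) (hH : (Nat.card H : F) ≠ 0) (hab : _root_.commutator H = ⊥)
    (hfree : ∀ l : P →* Fˣ, (∀ z ∈ Z, l z = 1) → l ≠ 1 → ∀ r, r ≠ 1 →
      l.comp (φ r).toMonoidHom ≠ l) (hZ : Z ≠ ⊤) (h0 : fix τ ⊤ = ⊥) :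
    (Nat.card H - 1) ^ 2 = Z.index ∧ ∀ l : H →* Fˣ, l ≠ 1 → wsp τ l ≠ ⊥ := by
  have := h.normal
  obtain ⟨m, h1, h2, -⟩ := wt_free (endRep σ σ) (endRep τ τ) φ (endRep_compat σ τ φ hc) hP hH
    (fun l hl hl0 r hr => hfree l (fun z hz => eq_one_of_wsp hl0 (h.endRep_eq_one hz)) hl r hr)
  have h3 : finrank F (fix (endRep σ σ) ⊤) = 1 := by
    rw [← wsp_one]; exact h.finrank_wsp hs hP 1 fun _ _ => rfl
  rw [fix_eq_top_iff.2 (fun z hz => h.endRep_eq_one (h.comm hz))] at h1 h2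
  rw [finrank_top, Module.finrank_linearMap, h3, ← sq] at h1
  rw [top_inf_eq] at h2
  have h4 : finrank F (fix (endRep τ τ) ⊤) ≤ 1 + m := by
    rw [h2, ← h3]
    exact Nat.add_le_add_right (Submodule.finrank_mono inf_le_left) _
  have := Fintype.ofFinite H
  have := finite_weights hH
  have := Fintype.ofFinite (H →* Fˣ)
  have hH' : (Fintype.card H : F) ≠ 0 := by rwa [← Nat.card_eq_fintype_card]
  have h5 := sum_finrank_wsp τ hH'
  rw [hab, fix_bot, finrank_top] at h5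
  have h6 : Fintype.card (H →* Fˣ) = Nat.card H := by
    rw [← Nat.card_eq_fintype_card, card_weights hH, hab, Subgroup.index_bot]
  have hq1 : finrank F W ≠ 1 := fun hq => hZ (by
    rw [← Subgroup.index_eq_one, ← h.finrank_sq hs hP, hq, one_pow])
  have h7 : finrank F (wsp τ 1) = 0 := by rw [wsp_one, h0, finrank_bot]
  have h8 := (sum_sq_le_finrank_fix τ hH').trans h4
  refine ⟨?_, fun l hl hl0 => arith_two _ h6 h5 h8 h1 hq1 hl (by rw [hl0, finrank_bot]) h7⟩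
  rw [(arith25 _ h6 h5 h8 h1).2 hq1 ⟨1, h7⟩, Nat.add_sub_cancel, h.finrank_sq hs hP]

theorem core25w {σ : P →* End F W} {Z : Subgroup P} (h : Heis σ Z)
    (τ : H →* End F W) (φ : H →* MulAut P) (hc : ∀ r k, τ r * σ k = σ (φ r k) * τ r)
    (hP : (Nat.card P : F) ≠ 0) (hH : (Nat.card H : F) ≠ 0) (hcyc : IsCyclic H)
    (hfree : ∀ l : P →* Fˣ, (∀ z ∈ Z, l z = 1) → l ≠ 1 → ∀ r, r ≠ 1 →
      l.comp (φ r).toMonoidHom ≠ l) (hZ : Z ≠ ⊤) (h0 : fix τ ⊤ = ⊥) :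
    (Nat.card H - 1) ^ 2 = Z.index ∧ ∀ l : H →* Fˣ, l ≠ 1 → wsp τ l ≠ ⊥ := by
  obtain ⟨g, hg⟩ := IsCyclic.exists_monoid_generator (α := H)
  obtain ⟨U, hU, hU0, hs, hgU⟩ := h.exists_inv_simp hP (φ g⁻¹).toMonoidHom (rep_inv_mul τ g)
    (fun x => by
      rw [hc, MulEquiv.coe_toMonoidHom, ← MulAut.mul_apply, ← map_mul, mul_inv_cancel, map_one,
        MulAut.one_apply])
  have hU' : ∀ r, ∀ u ∈ U, τ r u ∈ U := fun r => by
    obtain ⟨n, rfl⟩ := hg r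
    induction n with
    | zero => intro u hu; simpa using hu
    | succ n ih =>
      intro u hu
      simp only [pow_succ, map_mul, End.mul_apply]
      exact ih _ (hgU u hu)
  have : Nontrivial U := Submodule.nontrivial_iff_ne_bot.2 hU0
  obtain ⟨a, b⟩ := core25w_simp (h.res U hU hU0) hs (resRep τ U hU') φ
    (fun r k => by ext u; exact LinearMap.congr_fun (hc r k) u) hP hH
    (by have := hcyc.isMulCommutative; exact commutator_eq_bot H) hfree hZ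
    (by rw [fix_resRep, h0, Submodule.comap_bot, Submodule.ker_subtype])
  refine ⟨a, fun l hl hl0 => b l hl (eq_bot_iff.2 fun u hu => ?_)⟩
  have : (u : W) ∈ wsp τ l := fun k => congrArg Subtype.val (hu k)
  rw [hl0] at this
  exact Subtype.ext this

end Core

variable {F W G : Type*} [Field F] [AddCommGroup W] [Module F W] [Group G] {ρ : G →* End F W}

theorem wt_norm [Finite G] {A S : Subgroup G} (hA : (Nat.card A : F) ≠ 0) (hAS : A ≤ 𝒩(S))
    {U : Submodule F W} (hU : A ≤ stabOn ρ U) (χ : A →* Fˣ)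
    (h0 : ∀ u ∈ U, (∀ a : A, ρ a u = (χ a : F) • u) → u = 0) {l : G → F} {v : W} (hvU : v ∈ U)
    (hv : v ∈ wt ρ S l) (hχ : ∀ a : A, (a : G) ∈ wstab S l → ρ a v = (χ a : F) • v) : v = 0 := by
  classical
  haveI := Fintype.ofFinite A
  have h1 := h0 (∑ a : A, ((χ a)⁻¹ : Fˣ).val • ρ a v)
    (U.sum_mem fun a _ => U.smul_mem _ (stabOn_apply (hU a.2) hvU)) (fun b => by
      rw [map_sum, Finset.smul_sum, ← Equiv.sum_comp (Equiv.mulLeft b)
        (fun a => (χ b : F) • ((χ a)⁻¹ : Fˣ).val • ρ a v)]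
      refine Finset.sum_congr rfl fun a _ => ?_
      simp only [Equiv.coe_mulLeft, map_mul, coe_mul, End.mul_apply, map_smul, smul_smul,
        mul_inv_rev, Units.val_mul]
      congr 1
      rw [mul_left_comm, Units.mul_inv, mul_one])
  rw [← Finset.sum_filter_add_sum_filter_not _ (fun a : A => (a : G) ∈ wstab S l),
    Finset.sum_congr rfl (g := fun _ => v) (fun a ha => by
      rw [hχ a (Finset.mem_filter.1 ha).2, smul_smul, Units.inv_mul, one_smul]),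
    Finset.sum_const, ← Nat.cast_smul_eq_nsmul F] at h1
  have h2 := eq_zero_of_wt (ρ := ρ) _ (fun (a : A) k => l ((a : G)⁻¹ * k * a)) (fun a ha => by
    by_contra hc
    push Not at hc
    exact (Finset.mem_filter.1 ha).2 ⟨hAS a.2, hc⟩) _ (Submodule.smul_mem _ _ hv)
    (fun a _ => Submodule.smul_mem _ _ (wt_apply (hAS a.2) hv)) h1
  refine (smul_eq_zero.1 h2).resolve_left (natCast_ne_zero_of_dvd hA ?_)
  have := card_subgroup_dvd_card ((wstab S l).subgroupOf A)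
  rwa [Nat.card_eq_fintype_card, Fintype.card_subtype] at this

theorem wt_fix_eq_bot [Finite G] {A S : Subgroup G} (hA : (Nat.card A : F) ≠ 0) (hAS : A ≤ 𝒩(S))
    {U : Submodule F W} (hU : A ≤ stabOn ρ U) (h0 : U ⊓ fix ρ A = ⊥) (l : G → F) :
    U ⊓ wt ρ S l ⊓ fix ρ (A ⊓ wstab S l) = ⊥ :=
  eq_bot_iff.2 fun v hv => wt_norm hA hAS hU 1
    (fun u hu h => (Submodule.mem_bot F).1 (h0 ▸ ⟨hu, fun a ha => by simpa using h ⟨a, ha⟩⟩))
    hv.1.1 hv.1.2 fun a ha => by simpa using hv.2 a ⟨a.2, ha⟩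

theorem wstab_ne_bot [Finite G] {A S : Subgroup G} (hA : (Nat.card A : F) ≠ 0) (hAS : A ≤ 𝒩(S))
    {U : Submodule F W} (hU : A ≤ stabOn ρ U) (h0 : U ⊓ fix ρ A = ⊥) {l : G → F}
    (hl : U ⊓ wt ρ S l ≠ ⊥) : A ⊓ wstab S l ≠ ⊥ := fun h => hl (by
  have := wt_fix_eq_bot hA hAS hU h0 l
  rwa [h, fix_bot, inf_top_eq] at this)

theorem exists_char_zpowers [Finite G] (x : G) {c : F} (hc : c ^ orderOf x = 1) :
    ∃ χ : zpowers x →* Fˣ, ∀ j : ℕ, (χ (⟨x, mem_zpowers x⟩ ^ j) : F) = c ^ j := by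
  have hc0 : c ≠ 0 := by
    rintro rfl
    rw [zero_pow (orderOf_pos x).ne'] at hc
    exact zero_ne_one hc
  have hg : ∀ a : zpowers x, a ∈ zpowers (⟨x, mem_zpowers x⟩ : zpowers x) := by
    rintro ⟨_, k, rfl⟩
    exact ⟨k, rfl⟩
  refine ⟨monoidHomOfForallMemZpowers hg (g' := Units.mk0 c hc0) ?_, fun j => ?_⟩
  · rw [orderOf_mk, orderOf_dvd_iff_pow_eq_one]
    exact Units.ext hc
  · rw [map_pow, monoidHomOfForallMemZpowers_apply_gen]; rfl

theorem rep_pow_of_eigen {x : G} {c : F} {v : W} (h : ρ x v = c • v) (j : ℕ) :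
    ρ (x ^ j) v = c ^ j • v := by
  induction j with
  | zero => simp
  | succ j ih => rw [pow_succ, map_mul, End.mul_apply, h, map_smul, ih, smul_smul, pow_succ']

theorem cyc_norm [Finite G] {S : Subgroup G} {x : G} (hA : (orderOf x : F) ≠ 0) (hxS : x ∈ 𝒩(S))
    {U : Submodule F W} (hU : x ∈ stabOn ρ U) {c : F} (hc : c ^ orderOf x = 1)
    (h0 : ∀ u ∈ U, ρ x u = c • u → u = 0) {l : G → F} {m : ℕ} (hm : ∀ j, x ^ j ∈ wstab S l ↔ m ∣ j)
    {v : W} (hvU : v ∈ U) (hv : v ∈ wt ρ S l) (h : ρ (x ^ m) v = c ^ m • v) : v = 0 := by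
  obtain ⟨χ, hχ⟩ := exists_char_zpowers x hc
  refine wt_norm (A := zpowers x) (by rwa [Nat.card_zpowers]) (zpowers_le.2 hxS) (zpowers_le.2 hU)
    χ (fun u hu hu' => h0 u hu ?_) hvU hv fun a ha => ?_
  · have h1 := hu' ⟨x, mem_zpowers x⟩
    have h2 := hχ 1
    rw [pow_one, pow_one] at h2
    rwa [h2] at h1
  · obtain ⟨a, ha'⟩ := a
    obtain ⟨j, rfl⟩ := mem_powers_iff_mem_zpowers.2 ha'
    obtain ⟨i, rfl⟩ := (hm j).1 ha
    have h2 := hχ (m * i)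
    have h3 := rep_pow_of_eigen h i
    rw [← pow_mul, ← pow_mul, ← h2] at h3
    exact h3

theorem mem_fix_zpowers [Finite G] {x : G} {v : W} : v ∈ fix ρ (zpowers x) ↔ ρ x v = v := by
  refine ⟨fun h => h x (mem_zpowers x), fun h a ha => ?_⟩
  obtain ⟨j, rfl⟩ := mem_powers_iff_mem_zpowers.2 ha
  simpa using rep_pow_of_eigen (c := 1) (ρ := ρ) (x := x) (by simpa using h) j

theorem relC_comm_le {Q Y : Subgroup G} (h : Q ≤ 𝒩(Y)) : ⁅relC Q Y, Q⁆ ≤ Y :=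
  commutator_le.2 fun _ ha b hb => ((mem_relC h).1 ha).2 b hb

theorem le_stabOn_rad {Q : Subgroup G} {U : Submodule F W} (hQU : Q ≤ stabOn ρ U) (l : G → F) :
    Q ≤ stabOn ρ (U ⊓ wt ρ (relC Q (kerOn ρ U)) l) :=
  le_stabOn fun a ha w hw => ⟨stabOn_apply (hQU ha) hw.1, fun k hk => by
    rw [(comm_mem_kerOn_iff (hQU (relC_le _ _ hk)) (hQU ha)).1
      (((mem_relC (hQU.trans (stabOn_le_norm_kerOn U))).1 hk).2 a ha) w hw.1, hw.2 k hk, map_smul]⟩

theorem der_le_rad {Q : Subgroup G} {U : Submodule F W} (hQU : Q ≤ stabOn ρ U)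
    (hsc : ∀ z ∈ ⁅Q, Q⁆, ∃ c : F, ∀ w ∈ U, ρ z w = c • w) : ⁅Q, Q⁆ ≤ relC Q (kerOn ρ U) :=
  fun z hz => (mem_relC (hQU.trans (stabOn_le_norm_kerOn U))).2
    ⟨comm_le_left (le_norm_self Q) hz, fun a ha => comm_mem_kerOn_of_scalar (hQU ha) (hsc z hz)⟩

theorem heis_setup [Finite G] {Q B : Subgroup G} {U : Submodule F W} (hQU : Q ≤ stabOn ρ U)
    (hBU : B ≤ stabOn ρ U) (hBQ : B ≤ 𝒩(Q)) (hcop : (Nat.card B).Coprime (Nat.card Q))
    (hs : Group.IsSolvable B ∨ Group.IsSolvable Q)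
    (hsc : ∀ z ∈ ⁅Q, Q⁆, ∃ c : F, ∀ w ∈ U, ρ z w = c • w) {l : G → F}
    (hl : U ⊓ wt ρ (relC Q (kerOn ρ U)) l ≠ ⊥) :
    Heis (resRep (ρ.comp (⁅Q, B⁆ ⊔ relC Q (kerOn ρ U)).subtype) (U ⊓ wt ρ (relC Q (kerOn ρ U)) l)
      (fun k _ hu => stabOn_apply (le_stabOn_rad hQU l
        (sup_le (comm_le_left hBQ) (relC_le _ _) k.2)) hu))
      ((relC Q (kerOn ρ U)).subgroupOf (⁅Q, B⁆ ⊔ relC Q (kerOn ρ U))) := by
  set R := relC Q (kerOn ρ U) with hR
  have hQY : Q ≤ 𝒩(kerOn ρ U) := hQU.trans (stabOn_le_norm_kerOn U)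
  have hRQ : R ≤ Q := relC_le _ _
  have hPQ : ⁅Q, B⁆ ⊔ R ≤ Q := sup_le (comm_le_left hBQ) hRQ
  have hQU2 := le_stabOn_rad hQU l
  exact
    { comm := by
        rw [← map_le_map_iff_of_injective (⁅Q, B⁆ ⊔ R).subtype_injective, map_subtype_commutator,
          map_subgroupOf le_sup_right]
        exact (commutator_mono hPQ hPQ).trans (der_le_rad hQU hsc)
      scal := fun z hz => ⟨l z, by ext u; exact u.2.2 z hz⟩
      nondeg := fun k hk => by
        have h1 : ∀ a ∈ ⁅Q, B⁆, ⁅(k : G), a⁆ ∈ kerOn ρ U := fun a ha =>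
          mem_kerOn_of_scalar hl inf_le_left (hsc _ (commutator_mem_commutator (hPQ k.2)
            (hPQ (mem_sup_left ha)))) ((comm_mem_kerOn_iff (hQU2 (hPQ k.2))
              (hQU2 (hPQ (mem_sup_left ha)))).2 fun w hw =>
            congrArg Subtype.val (LinearMap.congr_fun (hk ⟨a, mem_sup_left ha⟩) ⟨w, hw⟩))
        have h2 : ∀ c ∈ Q ⊓ 𝒞(B), ⁅(k : G), c⁆ ∈ kerOn ρ U := fun c hc => by
          have : ⁅⁅Q, B⁆ ⊔ R, zpowers c⁆ ≤ kerOn ρ U := comm_sup_left_le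
            (commutator_le.2 fun a ha b hb => comm_cent_le_kerOn hQU hBU
              hBQ hsc (zpowers_le.2 hc hb) a ha)
            (commutator_le.2 fun a ha b hb => ((mem_relC hQY).1 ha).2 b (zpowers_le.2 hc hb).1)
            ((le_sup_left.trans hPQ).trans hQY) (hRQ.trans hQY)
          exact this (commutator_mem_commutator k.2 (mem_zpowers c))
        refine (mem_relC hQY).2 ⟨hPQ k.2, fun a ha => ?_⟩
        obtain ⟨u, hu, c, hc, rfl⟩ := H1.exists_commutator_mul_centralizer hBQ hcop hs ha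
        have : ⁅(k : G), u * c⁆ = ⁅(k : G), u⁆ * (u * ⁅(k : G), c⁆ * u⁻¹) := by
          simp only [commutatorElement_def]; group
        show ⁅(k : G), u * c⁆ ∈ _
        rw [this]
        exact mul_mem (h1 u hu) (H1.conj_mem_of_mem_normalizer
          (hQY (hPQ (mem_sup_left hu))) (h2 c hc)) }

variable [IsAlgClosed F] [FiniteDimensional F W] [Finite G]

omit [FiniteDimensional F W] in
theorem exists_rad_wt {Q : Subgroup G} {U : Submodule F W} (hU0 : U ≠ ⊥) (hQU : Q ≤ stabOn ρ U)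
    (hQF : (Nat.card Q : F) ≠ 0) : ∃ l, U ⊓ wt ρ (relC Q (kerOn ρ U)) l ≠ ⊥ := by
  obtain ⟨l, hl⟩ := exists_wt (X := ⊥) (natCast_ne_zero_of_dvd hQF (card_dvd_of_le (relC_le _ _)))
    ((relC_le _ _).trans hQU) ((commutator_mono le_rfl (relC_le _ _)).trans
      (relC_comm_le (hQU.trans (stabOn_le_norm_kerOn U)))) (fun h => hU0 (le_bot_iff.1 h))
  exact ⟨l, by rwa [le_bot_iff] at hl⟩

theorem sq_relIndex {Q B : Subgroup G} {U : Submodule F W} (hU0 : U ≠ ⊥) (hQU : Q ≤ stabOn ρ U)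
    (hBU : B ≤ stabOn ρ U) (hBQ : B ≤ 𝒩(Q)) (hcop : (Nat.card B).Coprime (Nat.card Q))
    (hs : Group.IsSolvable B ∨ Group.IsSolvable Q) (hQF : (Nat.card Q : F) ≠ 0)
    (hsc : ∀ z ∈ ⁅Q, Q⁆, ∃ c : F, ∀ w ∈ U, ρ z w = c • w) :
    ∃ m : ℕ, (relC Q (kerOn ρ U)).relIndex (⁅Q, B⁆ ⊔ relC Q (kerOn ρ U)) = m ^ 2 := by
  obtain ⟨l, hl⟩ := exists_rad_wt hU0 hQU hQF
  have : Nontrivial ↥(U ⊓ wt ρ (relC Q (kerOn ρ U)) l) := Submodule.nontrivial_iff_ne_bot.2 hl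
  have heis := heis_setup hQU hBU hBQ hcop hs hsc hl
  obtain ⟨X, hX, hX0, -, hs⟩ := exists_isSimp (resRep (ρ.comp (⁅Q, B⁆ ⊔ relC Q (kerOn ρ U)).subtype)
    (U ⊓ wt ρ (relC Q (kerOn ρ U)) l) (fun k _ hu => stabOn_apply (le_stabOn_rad hQU l
      (sup_le (comm_le_left hBQ) (relC_le _ _) k.2)) hu)) ⊤ (fun _ _ _ => Submodule.mem_top)
    top_ne_bot
  have : Nontrivial X := Submodule.nontrivial_iff_ne_bot.2 hX0
  exact ⟨_, ((heis.res X hX hX0).finrank_sq hs (natCast_ne_zero_of_dvd hQF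
    (card_dvd_of_le (sup_le (comm_le_left hBQ) (relC_le _ _))))).symm⟩

theorem shult_core {p : ℕ} (hp : p.Prime) (hpF : (p : F) ≠ 0) {x : G} {n : ℕ}
    (hx : x ^ p ^ (n + 1) = 1) {Q : Subgroup G} (hQF : (Nat.card Q : F) ≠ 0)
    (hQ : (Nat.card Q).Coprime p) (hxQ : x ∈ 𝒩(Q)) {U : Submodule F W} (hU0 : U ≠ ⊥)
    (hQU : Q ≤ stabOn ρ U) (hxU : x ∈ stabOn ρ U)
    (hsc : ∀ z ∈ ⁅Q, Q⁆, ∃ c : F, ∀ w ∈ U, ρ z w = c • w) (h0 : U ⊓ fix ρ (zpowers x) = ⊥) :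
    ⁅Q, zpowers (x ^ p ^ n)⁆ ≤ kerOn ρ U ∨ (¬ ⁅Q, zpowers (x ^ p ^ n)⁆ ≤ relC Q (kerOn ρ U) ∧
      ∃ t ≤ n, (relC Q (kerOn ρ U)).relIndex (⁅Q, zpowers (x ^ p ^ n)⁆ ⊔ relC Q (kerOn ρ U)) =
        (p ^ (n + 1 - t) - 1) ^ 2 ∧
        ∀ c : F, c ^ p ^ (n + 1) = 1 → c ^ p ^ t ≠ 1 → ∃ u ∈ U, u ≠ 0 ∧ ρ x u = c • u) := by
  classical
  haveI : Fact p.Prime := ⟨hp⟩
  set y := x ^ p ^ n with hy
  set B := zpowers y with hB
  set R := relC Q (kerOn ρ U) with hR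
  have hN := stabOn_le_norm_kerOn (ρ := ρ) U
  have hQY : Q ≤ 𝒩(kerOn ρ U) := hQU.trans hN
  have hRQ : R ≤ Q := relC_le _ _
  have hXQ : zpowers x ≤ 𝒩(Q) := zpowers_le.2 hxQ
  have hXU : zpowers x ≤ stabOn ρ U := zpowers_le.2 hxU
  have hXR : zpowers x ≤ 𝒩(R) := le_norm_relC hQY hXQ (hXU.trans hN)
  have hBX : B ≤ zpowers x := zpowers_le.2 (pow_mem (mem_zpowers x) _)
  have hxR : x ∈ 𝒩(R) := hXR (mem_zpowers x)
  have hRF : (Nat.card R : F) ≠ 0 := natCast_ne_zero_of_dvd hQF (card_dvd_of_le hRQ)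
  have hRR : ⁅R, R⁆ ≤ kerOn ρ U := (commutator_mono le_rfl hRQ).trans (relC_comm_le hQY)
  have hXp : IsPGroup p (zpowers x) := isPGroup_zpowers_of_pow hx
  have hoF : (orderOf x : F) ≠ 0 := natCast_ne_zero_of_dvd (n := p ^ (n + 1))
    (by rw [Nat.cast_pow]; exact pow_ne_zero _ hpF) (orderOf_dvd_of_pow_eq_one hx)
  have hcop : (Nat.card B).Coprime (Nat.card Q) :=
    H1.IsPGroup.coprime_card (hXp.to_le hBX) hQ
  have hBs : Group.IsSolvable B := inferInstance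
  have h0' : ∀ u ∈ U, ρ x u = (1 : F) • u → u = 0 := fun u hu h =>
    (Submodule.mem_bot F).1 (h0 ▸ ⟨hu, mem_fix_zpowers.2 (by simpa using h)⟩)
  have hper : ∀ l : G → F, U ⊓ wt ρ R l ≠ ⊥ → ∃ t ≤ n, ∀ j, x ^ j ∈ wstab R l ↔ p ^ t ∣ j := by
    intro l hl
    obtain ⟨s, hs, hs'⟩ := exists_period hp hx (wstab R l)
    refine ⟨s, ?_, hs'⟩
    by_contra hc
    obtain rfl : s = n + 1 := by omega
    obtain ⟨v, hv, hv0⟩ := Submodule.exists_mem_ne_zero_of_ne_bot hl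
    exact hv0 (cyc_norm hoF hxR hxU (one_pow _) h0' hs' hv.1 hv.2 (by simp [hx]))
  by_cases hc : ⁅Q, B⁆ ≤ R
  · left
    rw [← H1.commutator_commutator_eq (hBX.trans hXQ) hcop (Or.inl hBs)]
    refine (commutator_mono hc le_rfl).trans (le_kerOn_iff.2 ?_)
    refine le_of_wt_inf_le hRF (hRQ.trans hQU) hRR fun l => ?_
    by_cases hl : U ⊓ wt ρ R l = ⊥
    · rw [hl]; exact bot_le
    obtain ⟨t, ht, ht'⟩ := hper l hl
    have hy' : B ≤ wstab R l := zpowers_le.2 ((ht' _).2 (pow_dvd_pow p ht))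
    exact inf_le_right.trans (le_kerOn_iff.1 (commutator_le.2 fun k hk b hb =>
      comm_mem_kerOn_wt (hy' hb) hk))
  refine Or.inr ⟨hc, ?_⟩
  obtain ⟨l, hl⟩ := exists_rad_wt hU0 hQU hQF
  obtain ⟨t, ht, ht'⟩ := hper l hl
  set U2 := U ⊓ wt ρ R l with hU2
  set P := ⁅Q, B⁆ ⊔ R with hP
  have hPQ : P ≤ Q := sup_le (comm_le_left (hBX.trans hXQ)) hRQ
  set x' := x ^ p ^ t with hx'
  have hX'X : zpowers x' ≤ zpowers x := zpowers_le.2 (pow_mem (mem_zpowers x) _)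
  have hX'U : zpowers x' ≤ stabOn ρ U2 := zpowers_le.2
    (stabOn_inf _ _ ⟨pow_mem hxU _, wstab_le_stabOn R l ((ht' _).2 dvd_rfl)⟩)
  have hXB : zpowers x ≤ 𝒩(B) := le_norm_of_le_cent (cent_comm (hBX.trans
    (le_cent_self inferInstance)))
  have hX'P : zpowers x' ≤ 𝒩(P) := hX'X.trans (le_norm_sup (le_norm_comm hXQ hXB) hXR)
  have hy1 : y ≠ 1 := fun h => hc (by rw [hB, h, zpowers_one_eq_bot, commutator_bot_right]; exact bot_le)
  have hyx' : y = x' ^ p ^ (n - t) := by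
    rw [hx', ← pow_mul, ← pow_add, Nat.add_sub_cancel' ht]
  have hord : orderOf x' = p ^ (n - t + 1) := orderOf_eq_prime_pow (hyx' ▸ hy1) (by
    rw [hx', ← pow_mul, ← pow_add, ← add_assoc, Nat.add_sub_cancel' ht, hx])
  have hordx : orderOf x = p ^ (n + 1) := orderOf_eq_prime_pow hy1 hx
  have hcard : Nat.card (zpowers x') = p ^ (n + 1 - t) := by
    rw [Nat.card_zpowers, hord]; congr 1; omega
  have : Nontrivial U2 := Submodule.nontrivial_iff_ne_bot.2 hl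
  let τ := resRep (ρ.comp (zpowers x').subtype) U2 (fun k u hu => stabOn_apply (hX'U k.2) hu)
  obtain ⟨a, b⟩ := core25w (heis_setup hQU (hBX.trans hXU) (hBX.trans hXQ) hcop (Or.inl hBs) hsc hl)
    τ (cjAut P (zpowers x') hX'P)
    (fun r k => by ext u; exact LinearMap.congr_fun (cjAut_compat ρ hX'P r k) u)
    (natCast_ne_zero_of_dvd hQF (card_dvd_of_le hPQ))
    (by rw [hcard, Nat.cast_pow]; exact pow_ne_zero _ hpF) inferInstance
    (fun m hm hm1 c hc1 hfix => hm1 (by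
      have h1 : y ∈ zpowers (c : G) := hyx' ▸ pow_mem_zpowers_of_ne_one hp hord c.2
        fun h => hc1 (Subtype.ext h)
      have h2 : ∀ b ∈ zpowers (c : G), ∀ (k k' : P), (k' : G) = b * k * b⁻¹ → m k' = m k := by
        have h3 : ∀ (j : ℕ) (k : P), m (cjAut P (zpowers x') hX'P (c ^ j) k) = m k := fun j => by
          induction j with
          | zero => intro k; rw [pow_zero, map_one, MulAut.one_apply]
          | succ j ih =>
            intro k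
            rw [pow_succ, map_mul, MulAut.mul_apply, ih]
            exact DFunLike.congr_fun hfix k
        intro b hb k k' e
        obtain ⟨j, rfl⟩ := mem_powers_iff_mem_zpowers.2 hb
        rw [← h3 j k]
        congr 1
        exact Subtype.ext e
      rw [← MonoidHom.ker_eq_top_iff, eq_top_iff,
        ← map_le_map_iff_of_injective P.subtype_injective, map_top_subtype]
      refine sup_le ?_ fun z hz => ⟨⟨z, mem_sup_right hz⟩, hm _ hz, rfl⟩
      refine (H1.commutator_commutator_eq (hBX.trans hXQ) hcop (Or.inl hBs)).ge.trans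
        (commutator_le.2 fun k hk b hb => ?_)
      have hbP : b ∈ 𝒩(P) := (le_norm_sup (le_norm_comm hXQ hXB) hXR) (hBX hb)
      have h3 : b * k * b⁻¹ ∈ P := H1.conj_mem_of_mem_normalizer hbP (mem_sup_left hk)
      refine ⟨⟨k, mem_sup_left hk⟩ * (⟨_, h3⟩ : P)⁻¹, ?_, ?_⟩
      · rw [SetLike.mem_coe, MonoidHom.mem_ker, map_mul, map_inv,
          h2 b (zpowers_le.2 h1 hb) ⟨k, mem_sup_left hk⟩ ⟨_, h3⟩ rfl, mul_inv_cancel]
      · simp [commutatorElement_def, mul_assoc]))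
    (fun h => hc (le_sup_left.trans (subgroupOf_eq_top.1 h)))
    (eq_bot_iff.2 fun u hu => Subtype.ext (cyc_norm hoF hxR hxU (one_pow _) h0' ht' u.2.1 u.2.2
      (by
        rw [one_pow, one_smul]
        exact congrArg Subtype.val (hu ⟨x', mem_zpowers x'⟩ (mem_top _)))))
  rw [hcard] at a
  refine ⟨t, ht, a.symm, fun c hc1 hc2 => ?_⟩
  by_contra hne
  push Not at hne
  obtain ⟨χ, hχ⟩ := exists_char_zpowers x' (c := c ^ p ^ t) (by
    rw [hord, ← pow_mul, ← pow_add, ← add_assoc, Nat.add_sub_cancel' ht, hc1])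
  have h1 := hχ 1
  rw [pow_one, pow_one] at h1
  refine b χ (fun h => hc2 (by rw [← h1, h]; rfl)) (eq_bot_iff.2 fun u hu => Subtype.ext ?_)
  refine cyc_norm hoF hxR hxU (hordx ▸ hc1) (fun u hu h => by_contra fun h' => hne u hu h' h) ht'
    u.2.1 u.2.2 ?_
  rw [← h1]
  exact congrArg Subtype.val (hu ⟨x', mem_zpowers x'⟩)

end H9
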