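import Cfsg.Agent.H9.Sh2
import Cfsg.Agent.H7.Maschke
import Cfsg.Agent.H2.Frob

/-! The product trick for weights, counting lemmas on sections, and arithmetic. -/

set_option autoImplicit false

namespace H9
open Module H2 Subgroup H15 Cfsg
open scoped commutatorElement

section Arith

theorem two_mul_dvd_of_dvd_pow_sub_one {q d h D : ℕ} (hq : 2 ≤ q) (hd : 1 ≤ d) (hh : q ^ d + 1 = h)
    (hD : h ∣ q ^ D - 1) : 2 * d ∣ D := by
  have hpos : 1 ≤ q ^ d := Nat.one_le_pow _ _ (by omega)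
  haveI : NeZero h := ⟨by omega⟩
  have key : ∀ e, (q : ZMod h) ^ e = 1 ↔ h ∣ q ^ e - 1 := fun e => by
    rw [← Nat.cast_pow, ← Nat.cast_one (R := ZMod h), eq_comm, ZMod.natCast_eq_natCast_iff,
      Nat.modEq_iff_dvd' (Nat.one_le_pow _ _ (by omega))]
  have h1 : (q : ZMod h) ^ (2 * d) = 1 := by
    have : (q : ZMod h) ^ d = -1 := by
      rw [eq_neg_iff_add_eq_zero, ← Nat.cast_pow, ← Nat.cast_succ, Nat.succ_eq_add_one, hh,
        ZMod.natCast_self]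
    rw [mul_comm, pow_mul, this]; simp
  have h2 := orderOf_dvd_of_pow_eq_one h1
  have h3 := orderOf_dvd_of_pow_eq_one ((key D).2 hD)
  have h4 := (key _).1 (pow_orderOf_eq_one (q : ZMod h))
  generalize orderOf (q : ZMod h) = o at h2 h3 h4
  have ho : 0 < o := Nat.pos_of_dvd_of_pos h2 (by omega)
  have h5 : 1 < q ^ o := Nat.one_lt_pow ho.ne' (by omega)
  have h6 := Nat.le_of_dvd (by omega) h4
  have h7 : d < o := (Nat.pow_lt_pow_iff_right (by omega : 1 < q)).1 (by omega)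
  obtain ⟨c, hc⟩ := h2
  have : c = 1 := by
    rcases c with _ | _ | c
    · omega
    · rfl
    · nlinarith
  subst this
  rw [hc, mul_one]; exact h3

theorem exists_pow_of_sq {q m e : ℕ} (hq : q.Prime) (h : m ^ 2 = q ^ e) (hm : m ^ 2 ≠ 1) :
    ∃ d, 1 ≤ d ∧ m = q ^ d := by
  obtain ⟨d, -, hd⟩ := (Nat.dvd_prime_pow hq).1 (h ▸ dvd_pow_self m two_ne_zero : m ∣ q ^ e)
  refine ⟨d, Nat.pos_of_ne_zero ?_, hd⟩
  rintro rfl
  exact hm (by rw [hd]; rfl)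

theorem arith_shult {p q a s d D : ℕ} (hp : p.Prime) (hp2 : p ≠ 2) (hq : 2 ≤ q) (hd : 1 ≤ d)
    (h : p ^ a - 1 = q ^ d) (hD : 0 < D) (hle : q ^ D ≤ ((p ^ a - 1) ^ 2) ^ (p ^ s - 1))
    (hdv : p ^ (s + a) ∣ q ^ D - 1) : False := by
  have hpos : 1 ≤ p ^ a := Nat.one_le_pow _ _ hp.pos
  have hh : q ^ d + 1 = p ^ a := by omega
  obtain ⟨k, rfl⟩ := two_mul_dvd_of_dvd_pow_sub_one hq hd hh
    ((pow_dvd_pow p (Nat.le_add_left a s)).trans hdv)
  have ha : a ≠ 0 := by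
    rintro rfl
    have : 1 ≤ q ^ d := Nat.one_le_pow _ _ (by omega)
    simp at hh; omega
  have hp3 : 3 ≤ p := by have := hp.two_le; omega
  rw [h, ← pow_mul, ← pow_mul, Nat.pow_le_pow_iff_right (by omega)] at hle
  have hk : k ≤ p ^ s - 1 := by
    have : d * 2 * k ≤ d * 2 * (p ^ s - 1) := by nlinarith
    exact Nat.le_of_mul_le_mul_left this (by omega)
  have hnd : ¬ (p : ℤ) ∣ (p : ℤ) ^ a - 2 := fun hc => by
    have h1 : (p : ℤ) ∣ 2 := by
      have := dvd_sub (dvd_pow_self (p : ℤ) ha) hc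
      simpa using this
    have h2 : p ∣ 2 := by exact_mod_cast h1
    have := Nat.le_of_dvd (by norm_num) h2
    omega
  have h1 := ZMod.orderOf_one_add_mul_prime_pow hp a ha (by
    have := Nat.pos_of_ne_zero ha; nlinarith) _ hnd s
  have h2 : ((q : ZMod (p ^ (s + a))) ^ d) ^ 2 = 1 + (p : ZMod (p ^ (s + a))) ^ a *
      (((p : ℤ) ^ a - 2 : ℤ) : ZMod (p ^ (s + a))) := by
    have : (q : ZMod (p ^ (s + a))) ^ d = (p : ZMod (p ^ (s + a))) ^ a - 1 := by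
      rw [eq_sub_iff_add_eq, ← Nat.cast_pow, ← Nat.cast_pow, ← hh]; simp
    rw [this]; push_cast; ring
  have h3 : (q : ZMod (p ^ (s + a))) ^ (2 * d * k) = 1 := by
    rw [← Nat.cast_pow, ← Nat.cast_one (R := ZMod (p ^ (s + a))), eq_comm,
      ZMod.natCast_eq_natCast_iff, Nat.modEq_iff_dvd' (Nat.one_le_pow _ _ (by omega))]
    exact hdv
  rw [mul_comm 2 d, pow_mul, pow_mul, h2, ← orderOf_dvd_iff_pow_eq_one, h1] at h3
  have hk0 : 0 < k := Nat.pos_of_mul_pos_left hD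
  have := Nat.le_of_dvd hk0 h3
  have : 1 ≤ p ^ s := Nat.one_le_pow _ _ hp.pos
  omega

theorem arith_frob {p c m e : ℕ} (hp : p.Prime) (h1 : c ^ p = m ^ 2) (h2 : c ^ p = c * e)
    (h3 : e ≤ (p - 1) ^ 2) (hc : c ^ p ≠ 1) (hc0 : 0 < c) : False := by
  obtain ⟨k, rfl⟩ : ∃ k, p = k + 1 := ⟨p - 1, by have := hp.pos; omega⟩
  have hc2 : 2 ≤ c := by
    by_contra h
    obtain rfl : c = 1 := by omega
    exact hc (one_pow _)
  rw [pow_succ', Nat.mul_right_inj hc0.ne'] at h2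
  rw [Nat.add_sub_cancel, ← h2] at h3
  have h4 : 2 ^ k ≤ k ^ 2 := (Nat.pow_le_pow_left hc2 k).trans h3
  have hk : k ≤ 4 := by
    by_contra h
    have : ∀ j, (j + 5) ^ 2 < 2 ^ (j + 5) := fun j => by
      induction j with
      | zero => norm_num
      | succ j ih =>
        have : (j + 5 + 1) ^ 2 ≤ 2 * (j + 5) ^ 2 := by ring_nf; omega
        rw [show j + 1 + 5 = (j + 5) + 1 by ring, pow_succ 2]; omega
    have := this (k - 5)
    rw [show k - 5 + 5 = k by omega] at this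
    omega
  have hc3 : c = 2 := by
    by_contra h
    have : 3 ^ k ≤ k ^ 2 := (Nat.pow_le_pow_left (by omega) k).trans h3
    interval_cases k <;> omega
  subst hc3
  have hm : m ≤ 6 := by
    have : 2 ^ (k + 1) ≤ 2 ^ 5 := Nat.pow_le_pow_right (by norm_num) (by omega)
    nlinarith
  interval_cases k
  · exact absurd hp (by norm_num)
  · omega
  · interval_cases m <;> omega
  · exact absurd hp (by norm_num)
  · interval_cases m <;> omega

end Arith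

section Count
variable {G : Type*} [Group G] [Finite G]

theorem fpf_mod {Q Z : Subgroup G} {h : G} (hZ : h ∈ 𝒩(Z)) (hZQ : Z ≤ Q)
    (hcop : (orderOf h).Coprime (Nat.card Z)) (hC : Q ⊓ 𝒞₁(h) ≤ Z) {k : G} (hk : k ∈ Q)
    (hkh : k⁻¹ * (h * k * h⁻¹) ∈ Z) : k ∈ Z := by
  obtain ⟨n, hn, hkn⟩ := H1.exists_mul_mem_centralizer (A := zpowers h) (zpowers_le.2 hZ)
    (by rwa [Nat.card_zpowers]) (Or.inl inferInstance) (k := k) (fun a ha => by
      obtain ⟨j, rfl⟩ := mem_powers_iff_mem_zpowers.2 ha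
      induction j with
      | zero => simp
      | succ j ih =>
        have := mul_mem hkh (H1.conj_mem_of_mem_normalizer hZ (ih (pow_mem (mem_zpowers h) j)))
        convert this using 1
        simp only [pow_succ']
        group)
  rw [cent_zpowers] at hkn
  exact (mul_mem_cancel_right hn).1 (hC ⟨mul_mem hk (hZQ hn), hkn⟩)

theorem semireg_dvd {H Q Z : Subgroup G} (hHQ : H ≤ 𝒩(Q)) (hHZ : H ≤ 𝒩(Z)) (hZQ : Z ≤ Q)
    (hQZ : Q ≤ 𝒩(Z)) (hcop : (Nat.card H).Coprime (Nat.card Z))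
    (hC : ∀ h ∈ H, h ≠ 1 → Q ⊓ 𝒞₁(h) ≤ Z) : Nat.card H ∣ Z.relIndex Q - 1 := by
  haveI := normal_subgroupOf hQZ
  let ψ := H7.quotAut (cjAut Q H hHQ) (Z.subgroupOf Q) fun x v hv =>
    H1.conj_mem_of_mem_normalizer (hHZ x.2) hv
  letI : MulAction H (Q ⧸ Z.subgroupOf Q) := MulAction.compHom _ ψ
  have h1 := card_dvd_of_free (A := H) ({1}ᶜ : Set (Q ⧸ Z.subgroupOf Q))
    (fun a x hx h => hx ((ψ a).map_eq_one_iff.1 h)) (fun a x hx h => by
      obtain ⟨k, rfl⟩ := QuotientGroup.mk_surjective x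
      by_contra ha
      have h2 : ψ a (k : Q ⧸ Z.subgroupOf Q) = k := h
      replace h2 := (H7.quotAut_mk _ _ _ a k).symm.trans h2
      exact hx ((QuotientGroup.eq_one_iff k).2 (fpf_mod (hHZ a.2) hZQ
        (hcop.coprime_dvd_left (H.orderOf_dvd_natCard a.2)) (hC a a.2 fun h => ha (Subtype.ext h))
        k.2 (mem_subgroupOf.1 (QuotientGroup.eq.1 h2.symm)))))
  rwa [Nat.card_coe_set_eq, Set.ncard_compl, Set.ncard_singleton] at h1

theorem wiel_nrm {K R M Y : Subgroup G} [Y.Normal] (hK : Group.IsSolvable K) (hRK : R ≤ 𝒩(K))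
    (hKM : K ≤ 𝒩(M)) (hRM : R ≤ 𝒩(M)) (hM : Group.IsSolvable M)
    (hMK : (Nat.card M).Coprime (Nat.card K))
    (hMR : (Nat.card M).Coprime (Nat.card R)) (hKR : (Nat.card R).Coprime (Nat.card K))
    (hR : (Nat.card R).Prime) (hRY : ¬ R ≤ Y) (hCK : K ⊓ 𝒞(R) ≤ Y) (hMM : ⁅M, M⁆ ≤ Y)
    (hc : M ≤ ⁅M, K⁆ ⊔ Y) :
    Y.relIndex M = Y.relIndex (M ⊓ 𝒞(R)) ^ Nat.card R ∧
      Y.relIndex M = Y.relIndex (M ⊓ 𝒞(R)) * Y.relIndex ⁅M, R⁆ := by
  let f := QuotientGroup.mk' Y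
  have hbot : ∀ X : Subgroup G, X.map f = ⊥ ↔ X ≤ Y := fun X => by
    rw [Subgroup.map_eq_bot_iff, QuotientGroup.ker_mk']
  have hR' : Nat.card (R.map f) = Nat.card R :=
    ((Nat.dvd_prime hR).1 (card_map_dvd R f)).resolve_left fun h =>
      hRY ((hbot R).1 (card_eq_one.1 h))
  have cp : ∀ {A B : Subgroup G}, (Nat.card A).Coprime (Nat.card B) →
      (Nat.card (A.map f)).Coprime (Nat.card (B.map f)) := fun h =>
    (h.coprime_dvd_left (card_map_dvd _ _)).coprime_dvd_right (card_map_dvd _ _)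
  haveI : IsMulCommutative (M.map f) := comm_of_le_cent (le_cent_iff_comm.2 (by
    rw [← map_commutator, hbot]; exact hMM))
  have h1 : M.map f ⊓ 𝒞(K.map f) = ⊥ := by
    rw [← H1.inf_centralizer_inf_commutator_eq_bot (H1.le_normalizer_map hKM f) (cp hMK.symm),
      eq_comm, inf_eq_left, ← map_commutator]
    refine inf_le_left.trans ((map_mono hc).trans ?_)
    rw [Subgroup.map_sup, (hbot Y).2 le_rfl, sup_bot_eq]
  have h2 := wielandt_frob (H1.isSolvable_map hK f) (H1.le_normalizer_map hRK f)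
    (frob_of_prime (hR' ▸ hR) (by
      rw [← H1.map_inf_centralizer_of_coprime f hRK hKR (Or.inr hK), hbot]; exact hCK))
    (M.map f) (H1.isSolvable_map hM f) (H1.le_normalizer_map hKM f) (H1.le_normalizer_map hRM f)
    (cp hMK) (cp hMR)
  have h3 := H1.card_eq_card_centralizer_mul_card_commutator (H1.le_normalizer_map hRM f)
    (cp hMR.symm)
  rw [le_bot_iff.1 ((inf_le_inf_left _ (cent_anti le_sup_left)).trans h1.le), h1, card_bot, one_pow,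
    one_mul, mul_one, hR'] at h2
  rw [← H1.map_inf_centralizer_of_coprime f hRM hMR.symm (Or.inr hM)] at h2 h3
  rw [← map_commutator] at h3
  simp only [f, H1.card_map_mk'_eq_relIndex] at h2 h3
  exact ⟨h2, h3⟩

theorem wiel_mod {K R M Y : Subgroup G} (hKY : K ≤ 𝒩(Y)) (hRY' : R ≤ 𝒩(Y)) (hMY : M ≤ 𝒩(Y))
    (hK : Group.IsSolvable K) (hRK : R ≤ 𝒩(K))
    (hKM : K ≤ 𝒩(M)) (hRM : R ≤ 𝒩(M)) (hM : Group.IsSolvable M)
    (hMK : (Nat.card M).Coprime (Nat.card K))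
    (hMR : (Nat.card M).Coprime (Nat.card R)) (hKR : (Nat.card R).Coprime (Nat.card K))
    (hR : (Nat.card R).Prime) (hRY : ¬ R ≤ Y) (hCK : K ⊓ 𝒞(R) ≤ Y) (hMM : ⁅M, M⁆ ≤ Y)
    (hc : M ≤ ⁅M, K⁆ ⊔ Y) :
    Y.relIndex M = Y.relIndex (M ⊓ 𝒞(R)) ^ Nat.card R ∧
      Y.relIndex M = Y.relIndex (M ⊓ 𝒞(R)) * Y.relIndex ⁅M, R⁆ := by
  obtain ⟨N, hN⟩ : ∃ N, N = 𝒩(Y) := ⟨_, rfl⟩
  have hY : Y ≤ N := hN ▸ le_norm_self Y
  haveI : (Y.subgroupOf N).Normal := normal_subgroupOf hN.le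
  rw [← hN] at hKY hRY' hMY
  have c1 := H1.card_subgroupOf_of_le hMY
  have c2 := H1.card_subgroupOf_of_le hKY
  have c3 := H1.card_subgroupOf_of_le hRY'
  have e1 := subgroupOf_cent hRY'
  have p1 : ¬ R.subgroupOf N ≤ Y.subgroupOf N := by rwa [subgroupOf_le_iff hRY']
  have p2 : K.subgroupOf N ⊓ 𝒞(R.subgroupOf N) ≤ Y.subgroupOf N := by
    rw [← e1]; exact fun x hx => mem_subgroupOf.2 (hCK ⟨mem_subgroupOf.1 hx.1, mem_subgroupOf.1 hx.2⟩)
  have p3 : ⁅M.subgroupOf N, M.subgroupOf N⁆ ≤ Y.subgroupOf N := by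
    rw [← subgroupOf_comm hMY hMY]; exact comap_mono hMM
  have p4 : M.subgroupOf N ≤ ⁅M.subgroupOf N, K.subgroupOf N⁆ ⊔ Y.subgroupOf N := by
    rw [← subgroupOf_comm hMY hKY, ← subgroupOf_sup (commutator_le_of_le hMY hKY) hY]
    exact comap_mono hc
  have := wiel_nrm (H1.isSolvable_subgroupOf hK N) (H1.le_normalizer_subgroupOf hRK N)
    (H1.le_normalizer_subgroupOf hKM N) (H1.le_normalizer_subgroupOf hRM N)
    (H1.isSolvable_subgroupOf hM N) (c1 ▸ c2 ▸ hMK) (c1 ▸ c3 ▸ hMR) (c3 ▸ c2 ▸ hKR) (c3 ▸ hR)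
    p1 p2 p3 p4
  have e : (Y.subgroupOf N).relIndex (M.subgroupOf N ⊓ 𝒞(R.subgroupOf N)) =
      Y.relIndex (M ⊓ 𝒞(R)) := by
    rw [← e1, ← relIndex_subgroupOf (inf_le_left.trans hMY : M ⊓ 𝒞(R) ≤ N)]; rfl
  rwa [e, ← subgroupOf_comm hMY hRY', c3,
    relIndex_subgroupOf hMY, relIndex_subgroupOf (commutator_le_of_le hMY hRY')] at this

theorem relIndex_eq_pow {q : ℕ} [Fact q.Prime] {Q : Subgroup G} (hQ : IsPGroup q Q)
    (Z : Subgroup G) : ∃ e, Z.relIndex Q = q ^ e := by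
  obtain ⟨k, hk⟩ := IsPGroup.iff_card.1 hQ
  obtain ⟨e, -, he⟩ := (Nat.dvd_prime_pow Fact.out).1 (hk ▸ relIndex_dvd_card Z Q)
  exact ⟨e, he⟩

end Count

variable {F W G : Type*} [Field F] [AddCommGroup W] [Module F W] [Group G] {ρ : G →* End F W}

theorem wt_mul {S : Subgroup G} {l : G → F} (hl : wt ρ S l ≠ ⊥) {a b : G} (ha : a ∈ S)
    (hb : b ∈ S) : l (a * b) = l a * l b := by
  obtain ⟨v, hv, hv0⟩ := Submodule.exists_mem_ne_zero_of_ne_bot hl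
  have h := hv _ (mul_mem ha hb)
  rw [map_mul, End.mul_apply, hv b hb, map_smul, hv a ha, smul_smul] at h
  rw [mul_comm]
  exact (smul_left_injective F hv0 h).symm

theorem mem_kerOn_wt_iff {S : Subgroup G} {l : G → F} (hl : wt ρ S l ≠ ⊥) {z : G} (hz : z ∈ S) :
    z ∈ kerOn ρ (wt ρ S l) ↔ l z = 1 := by
  refine ⟨fun h => ?_, fun h w hw => by rw [hw z hz, h, one_smul]⟩
  obtain ⟨v, hv, hv0⟩ := Submodule.exists_mem_ne_zero_of_ne_bot hl
  have := h v hv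
  rw [hv z hz] at this
  exact smul_left_injective F hv0 (this.trans (one_smul F v).symm)

theorem cent_le_wstab (S : Subgroup G) (l : G → F) : 𝒞(S) ≤ wstab S l := fun u hu =>
  ⟨cent_le_norm S hu, fun k hk => by rw [mul_assoc, mem_cent.1 hu k hk, inv_mul_cancel_left]⟩

theorem comm_le_kerOn_wt {S B : Subgroup G} {l : G → F} (h : B ≤ wstab S l) :
    ⁅S, B⁆ ≤ kerOn ρ (wt ρ S l) :=
  commutator_le.2 fun _ hk _ hb => comm_mem_kerOn_wt (h hb) hk

theorem wt_scalar {Q Z : Subgroup G} (h : ⁅Q, Q⁆ ≤ Z) (l : G → F) :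
    ∀ z ∈ ⁅Q, Q⁆, ∃ c : F, ∀ w ∈ wt ρ Z l, ρ z w = c • w := fun z hz => ⟨l z, fun _ hw => hw z (h hz)⟩

theorem cent_le_stabOn (Z : Subgroup G) (l : G → F) : 𝒞(Z) ≤ stabOn ρ (wt ρ Z l) :=
  (cent_le_wstab Z l).trans (wstab_le_stabOn Z l)

theorem wstab_le_norm_ker (Z : Subgroup G) (l : G → F) : wstab Z l ≤ 𝒩(kerOn ρ (wt ρ Z l)) :=
  (wstab_le_stabOn Z l).trans (stabOn_le_norm_kerOn _)

theorem prod_wt [Finite G] {Z A : Subgroup G} (hZ : IsMulCommutative Z) (hA : A ≤ 𝒩(Z))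
    (hC : Z ⊓ 𝒞(A) = ⊥) (hcop : (Nat.card A).Coprime (Nat.card Z)) {l : G → F}
    (hl : wt ρ Z l ≠ ⊥) {z : G} (hz : z ∈ Z)
    (h : ∀ g ∈ A, g ∉ wstab Z l → l (g⁻¹ * z * g) = 1) : l z = 1 := by
  classical
  letI : CommGroup Z := { (inferInstance : Group Z) with mul_comm := hZ.is_comm.comm }
  haveI := Fintype.ofFinite A
  let lam : Z →* F :=
    { toFun := fun z => l z
      map_one' := (mem_kerOn_wt_iff hl (one_mem Z)).1 (one_mem _)
      map_mul' := fun a b => wt_mul hl a.2 b.2 }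
  have h1 : ∏ a : A, cjAut Z A hA a⁻¹ ⟨z, hz⟩ = 1 := by
    set N := ∏ a : A, cjAut Z A hA a⁻¹ ⟨z, hz⟩ with hN
    have h2 : ∀ b : A, cjAut Z A hA b N = N := fun b => by
      rw [hN, map_prod, ← Equiv.prod_comp (Equiv.mulRight b⁻¹)
        (fun a => cjAut Z A hA a⁻¹ ⟨z, hz⟩)]
      refine Finset.prod_congr rfl fun a _ => ?_
      rw [← MulAut.mul_apply, ← map_mul]; simp
    have h3 : (N : G) ∈ Z ⊓ 𝒞(A) := ⟨N.2, mem_cent.2 fun b hb => by
      have := congrArg Subtype.val (h2 ⟨b, hb⟩)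
      rw [cjAut_apply] at this
      exact mul_inv_eq_iff_eq_mul.1 this⟩
    rw [hC] at h3
    exact Subtype.ext h3
  have h2 := congrArg lam h1
  have e : ∀ a : A, lam (cjAut Z A hA a⁻¹ ⟨z, hz⟩) = l ((a : G)⁻¹ * z * a) := fun a => by
    show l _ = _
    rw [cjAut_apply]; simp
  rw [map_prod, map_one, ← Finset.prod_filter_mul_prod_filter_not _
    (fun a : A => (a : G) ∈ wstab Z l), Finset.prod_eq_one
      (s := Finset.filter (fun a : A => ¬ (a : G) ∈ wstab Z l) Finset.univ) (f := fun a : A =>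
      lam (cjAut Z A hA a⁻¹ ⟨z, hz⟩)) (fun a ha => by
        exact (e a).trans (h a a.2 (Finset.mem_filter.1 ha).2)), mul_one,
    Finset.prod_congr rfl (g := fun _ => l z) (fun a ha => by
      exact (e a).trans ((Finset.mem_filter.1 ha).2.2 z hz)), Finset.prod_const] at h2
  have h3 : l z ^ Nat.card Z = 1 := by
    have := map_pow lam ⟨z, hz⟩ (Nat.card Z)
    rw [pow_card_eq_one', map_one] at this
    exact this.symm
  have h4 := card_subgroup_dvd_card ((wstab Z l).subgroupOf A)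
  rw [Nat.card_eq_fintype_card, Fintype.card_subtype] at h4
  exact (pow_eq_one_iff_of_coprime (hcop.coprime_dvd_left h4)).1 ⟨h2, h3⟩

/-- radical of the commutator form at a weight -/
abbrev rad (ρ : G →* End F W) (Q Z : Subgroup G) (l : G → F) : Subgroup G :=
  relC Q (kerOn ρ (wt ρ Z l))

theorem le_norm_rad {Q Z B : Subgroup G} {l : G → F} (hQ : Q ≤ 𝒞(Z)) (hB : B ≤ 𝒩(Q))
    (hB' : B ≤ wstab Z l) : B ≤ 𝒩(rad ρ Q Z l) :=
  le_norm_relC (hQ.trans ((cent_le_wstab Z l).trans (wstab_le_norm_ker Z l))) hB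
    (hB'.trans (wstab_le_norm_ker Z l))

theorem mem_rad {Q Z : Subgroup G} {l : G → F} (hQ : Q ≤ 𝒞(Z)) {k : G} :
    k ∈ rad ρ Q Z l ↔ k ∈ Q ∧ ∀ y ∈ Q, ⁅k, y⁆ ∈ kerOn ρ (wt ρ Z l) :=
  mem_relC (hQ.trans ((cent_le_wstab Z l).trans (wstab_le_norm_ker Z l)))

theorem prod_rad [Finite G] {Q Z A : Subgroup G} (hQZ : ⁅Q, Q⁆ ≤ Z) (hZQ : Z ≤ Q) (hQ : Q ≤ 𝒞(Z))
    (hAQ : A ≤ 𝒩(Q)) (hA : A ≤ 𝒩(Z)) (hC : Z ⊓ 𝒞(A) = ⊥)
    (hcop : (Nat.card A).Coprime (Nat.card Z)) {l : G → F} (hl : wt ρ Z l ≠ ⊥) {k : G} (hk : k ∈ Q)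
    (h : ∀ g ∈ A, g ∉ wstab Z l → g⁻¹ * k * g ∈ rad ρ Q Z l) : k ∈ rad ρ Q Z l := by
  refine (mem_rad hQ).2 ⟨hk, fun y hy => ?_⟩
  have hz := hQZ (commutator_mem_commutator hk hy)
  refine (mem_kerOn_wt_iff hl hz).2 (prod_wt (comm_of_le_cent (hZQ.trans hQ)) hA hC hcop hl hz
    fun g hg hg' => ?_)
  refine (mem_kerOn_wt_iff hl (H1.conj_mem_of_mem_normalizer' (hA hg) hz)).1 ?_
  have := ((mem_rad hQ).1 (h g hg hg')).2 _ (H1.conj_mem_of_mem_normalizer' (hAQ hg) hy)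
  convert this using 1
  simp only [commutatorElement_def]; group

end H9
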