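import Cfsg.Agent.H9.Sh3
import Cfsg.Agent.H8.Sdp
import Cfsg.Agent.H2.FPFNil

/-! Cyclic operator groups of prime power order without fixed points. -/

set_option autoImplicit false

namespace H9
open Module H2 Subgroup H15 Cfsg
open scoped commutatorElement

universe u

section Rep
variable {F W G : Type*} [Field F] [AddCommGroup W] [Module F W] [Group G] {ρ : G →* End F W}
  [Finite G]

theorem MinA.le_norm {L B Q : Subgroup G} (h : MinA L B Q) : B ≤ 𝒩(Q) :=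
  h.comm ▸ normalizer_commutator_ge_right Q B

theorem MinA.le_cent {L B Q : Subgroup G} (h : MinA L B Q) : B ≤ 𝒞(⁅Q, Q⁆) :=
  cent_comm (h.der.le.trans inf_le_right)

theorem MinA.le_norm_rad {L B Q : Subgroup G} (h : MinA L B Q) (l : G → F) :
    B ≤ 𝒩(rad ρ Q ⁅Q, Q⁆ l) :=
  H9.le_norm_rad h.cent h.le_norm (h.le_cent.trans (cent_le_wstab _ l))

theorem MinA.core_le {L A B Q R : Subgroup G} (h : MinA L B Q) (hL : L ≤ B ⊔ A)
    (hAB : A ≤ 𝒩(B)) (hBR : B ≤ 𝒩(R)) (hR : R < Q) {k : G} (hk : ∀ g ∈ A, g⁻¹ * k * g ∈ R) :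
    k ∈ ⁅Q, Q⁆ := by
  let Y : Subgroup G :=
    { carrier := {k | ∀ g ∈ A, g⁻¹ * k * g ∈ R}
      mul_mem' := fun {a b} ha hb g hg => by
        have := mul_mem (ha g hg) (hb g hg)
        simpa [mul_assoc] using this
      one_mem' := fun g _ => by simp
      inv_mem' := fun {a} ha g hg => by
        have := inv_mem (ha g hg)
        simpa [mul_assoc] using this }
  have hY : Y ≤ R := fun k hk => by simpa using hk 1 (one_mem A)
  have hLY : L ≤ 𝒩(Y) := hL.trans (sup_le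
    (le_normalizer_iff.2 fun b hb k hk g hg => by
      have := H1.conj_mem_of_mem_normalizer
        (hBR (H1.conj_mem_of_mem_normalizer' (hAB hg) hb)) (hk g hg)
      simpa [mul_assoc] using this)
    (le_normalizer_iff.2 fun a ha k hk g hg => by
      have := hk (a⁻¹ * g) (mul_mem (inv_mem ha) hg)
      simpa [mul_assoc] using this))
  rw [h.der]
  exact ⟨hR.le (hY hk), cent_comm (h.min Y (hY.trans_lt hR) hLY) hk⟩

theorem relIndex_le_pow {R X Z : Subgroup G} (S : Finset G) (hS : ∀ g ∈ S, g ∈ 𝒩(X))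
    (h : ∀ k ∈ X, (∀ g ∈ S, g⁻¹ * k * g ∈ R) → k ∈ Z) : Z.relIndex X ≤ R.relIndex X ^ S.card := by
  let f : S → Subgroup G := fun g => R.comap (MulAut.conj (g : G)⁻¹).toMonoidHom
  have h1 : Z.relIndex X ≤ (⨅ g, f g).relIndex X := by
    rw [← inf_relIndex_right (⨅ g, f g)]
    refine relIndex_le_of_le_left (fun k hk => h k hk.2 fun g hg => ?_) index_ne_zero_of_finite
    simpa [f] using mem_iInf.1 hk.1 ⟨g, hg⟩
  refine h1.trans ((relIndex_iInf_le f).trans (le_of_eq ?_))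
  rw [Finset.prod_congr rfl (g := fun _ => R.relIndex X), Finset.prod_const, Finset.card_univ,
    Fintype.card_coe]
  intro g _
  rw [relIndex_comap]
  congr 1
  exact cj_of_mem_norm (inv_mem (hS g g.2))

theorem MinA.prod_bound {L A B Q : Subgroup G} (h : MinA L B Q) (hL : L ≤ B ⊔ A) (hAQ : A ≤ 𝒩(Q))
    (hAB : A ≤ 𝒩(B)) (hC : Q ⊓ 𝒞(A) = ⊥) (hcop : (Nat.card A).Coprime (Nat.card Q)) {l : G → F}
    (hl : wt ρ ⁅Q, Q⁆ l ≠ ⊥) (hR : ¬ Q ≤ rad ρ Q ⁅Q, Q⁆ l) (S : Finset G) (hSA : ∀ g ∈ S, g ∈ A)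
    (hS : ∀ g ∈ A, g ∉ wstab ⁅Q, Q⁆ l → ∃ s ∈ S, s⁻¹ * g ∈ wstab ⁅Q, Q⁆ l) {X : Subgroup G}
    (hX : X ≤ Q) (hAX : A ≤ 𝒩(X)) :
    (⁅Q, Q⁆).relIndex X ≤ (rad ρ Q ⁅Q, Q⁆ l).relIndex X ^ S.card := by
  refine relIndex_le_pow S (fun g hg => hAX (hSA g hg)) fun k hk hk' => ?_
  have hw : ∀ w ∈ A, w ∈ wstab ⁅Q, Q⁆ l → w ∈ 𝒩(rad ρ Q ⁅Q, Q⁆ l) := fun w h1 h2 =>
    H9.le_norm_rad (B := A ⊓ wstab ⁅Q, Q⁆ l) h.cent (inf_le_left.trans hAQ) inf_le_right ⟨h1, h2⟩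
  have h1 : ∀ g ∈ A, g ∉ wstab ⁅Q, Q⁆ l → g⁻¹ * k * g ∈ rad ρ Q ⁅Q, Q⁆ l := fun g hg hg' => by
    obtain ⟨s, hs, hs'⟩ := hS g hg hg'
    have := H1.conj_mem_of_mem_normalizer' (hw _ (mul_mem (inv_mem (hSA s hs)) hg) hs') (hk' s hs)
    simpa [mul_assoc] using this
  have h2 := prod_rad le_rfl h.lt.le h.cent hAQ (le_norm_comm hAQ hAQ)
    (le_bot_iff.1 ((inf_le_inf_right _ h.lt.le).trans hC.le))
    (hcop.coprime_dvd_right (card_dvd_of_le h.lt.le)) hl (hX hk) h1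
  refine h.core_le hL hAB (h.le_norm_rad l) (lt_of_le_not_ge (relC_le _ _) hR) fun g hg => ?_
  by_cases hg' : g ∈ wstab ⁅Q, Q⁆ l
  · exact H1.conj_mem_of_mem_normalizer' (hw g hg hg') h2
  · exact h1 g hg hg'

theorem exists_cyc_cover {x : G} {M : Subgroup G} {m : ℕ} (hm : 0 < m)
    (h : ∀ j, x ^ j ∈ M ↔ m ∣ j) : ∃ S : Finset G, S.card ≤ m - 1 ∧ (∀ g ∈ S, g ∈ zpowers x) ∧
      ∀ g ∈ zpowers x, g ∉ M → ∃ s ∈ S, s⁻¹ * g ∈ M := by
  classical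
  refine ⟨(Finset.Ico 1 m).image (x ^ ·), Finset.card_image_le.trans (by simp), fun g hg => ?_,
    fun g hg hg' => ?_⟩
  · obtain ⟨j, -, rfl⟩ := Finset.mem_image.1 hg
    exact pow_mem (mem_zpowers x) j
  · obtain ⟨j, rfl⟩ := mem_powers_iff_mem_zpowers.2 hg
    refine ⟨x ^ (j % m), Finset.mem_image.2 ⟨_, Finset.mem_Ico.2 ⟨Nat.pos_of_ne_zero fun h0 =>
      hg' ((h j).2 (Nat.dvd_of_mod_eq_zero h0)), Nat.mod_lt _ hm⟩, rfl⟩, ?_⟩
    have := (h (m * (j / m))).2 (dvd_mul_right _ _)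
    have e : (x ^ (j % m))⁻¹ * x ^ j = x ^ (m * (j / m)) := by
      rw [inv_mul_eq_iff_eq_mul, ← pow_add, Nat.mod_add_div]
    exact e ▸ this

variable [IsAlgClosed F] [FiniteDimensional F W]

theorem shult_wt {p : ℕ} (hp : p.Prime) (hpF : (p : F) ≠ 0) {x : G} {n : ℕ}
    (hx : x ^ p ^ (n + 1) = 1) {Q Z : Subgroup G} (hQF : (Nat.card Q : F) ≠ 0)
    (hQ : (Nat.card Q).Coprime p) (hxQ : x ∈ 𝒩(Q)) (hxZ : x ∈ 𝒩(Z)) (hQZ : ⁅Q, Q⁆ ≤ Z)
    (hQC : Q ≤ 𝒞(Z)) (hy : x ^ p ^ n ∈ 𝒞(Z)) (h0 : fix ρ (zpowers x) = ⊥) {l : G → F}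
    (hl : wt ρ Z l ≠ ⊥) :
    ⁅Q, zpowers (x ^ p ^ n)⁆ ≤ kerOn ρ (wt ρ Z l) ∨ (¬ ⁅Q, zpowers (x ^ p ^ n)⁆ ≤ rad ρ Q Z l ∧
      ∃ s a, s + a ≤ n + 1 ∧ (∀ j, x ^ j ∈ wstab Z l ↔ p ^ s ∣ j) ∧
        (rad ρ Q Z l).relIndex (⁅Q, zpowers (x ^ p ^ n)⁆ ⊔ rad ρ Q Z l) = (p ^ a - 1) ^ 2 ∧
        ∀ c : F, c ^ p ^ (n + 1) = 1 → c ^ p ^ n ≠ 1 → ∃ u, u ≠ 0 ∧ ρ x u = c • u) := by
  obtain ⟨s, -, hs⟩ := exists_period hp hx (wstab Z l)
  have hsn : s ≤ n := (Nat.pow_dvd_pow_iff_le_right hp.one_lt).1 ((hs _).1 (cent_le_wstab Z l hy))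
  obtain ⟨m, rfl⟩ := Nat.exists_eq_add_of_le hsn
  have hoF : (orderOf x : F) ≠ 0 := natCast_ne_zero_of_dvd (n := p ^ (s + m + 1))
    (by rw [Nat.cast_pow]; exact pow_ne_zero _ hpF) (orderOf_dvd_of_pow_eq_one hx)
  have e : (x ^ p ^ s) ^ p ^ m = x ^ p ^ (s + m) := by rw [← pow_mul, ← pow_add]
  have hU : x ∈ stabOn ρ ⊤ := by rw [stabOn_top]; trivial
  have := shult_core (ρ := ρ) hp hpF (x := x ^ p ^ s) (n := m)
    (by rw [← pow_mul, ← pow_add, ← add_assoc, hx]) hQF hQ (pow_mem hxQ _) hl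
    (hQC.trans (cent_le_stabOn Z l)) (wstab_le_stabOn Z l ((hs _).2 dvd_rfl)) (wt_scalar hQZ l)
    (eq_bot_iff.2 fun v hv => cyc_norm hoF hxZ hU (one_pow _) (fun u _ hu =>
      (Submodule.mem_bot F).1 (h0 ▸ mem_fix_zpowers.2 (by simpa using hu))) hs trivial hv.1
      (by simpa using mem_fix_zpowers.1 hv.2))
  rw [e] at this
  refine this.imp id fun ⟨h1, t, ht, h2, h3⟩ => ⟨h1, s, m + 1 - t, by omega, hs, h2,
    fun c hc1 hc2 => ?_⟩
  by_contra hne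
  push Not at hne
  have hord : orderOf x = p ^ (s + m + 1) := haveI := Fact.mk hp
    orderOf_eq_prime_pow (fun h => h1 (by
      rw [h, zpowers_one_eq_bot, commutator_bot_right]; exact bot_le)) hx
  obtain ⟨u, hu, hu0, hu'⟩ := h3 (c ^ p ^ s) (by rw [← pow_mul, ← pow_add, ← add_assoc, hc1])
    fun h => hc2 (by
      obtain ⟨d, rfl⟩ := Nat.exists_eq_add_of_le ht
      rw [← add_assoc, pow_add p, pow_add p, pow_mul, pow_mul, h, one_pow])
  exact hu0 (cyc_norm hoF hxZ hU (hord ▸ hc1) (fun v _ h => by_contra fun h' => hne v h' h) hs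
    trivial hu hu')

theorem MinA.exists_wt {L B Q : Subgroup G} (h : MinA L B Q) (hQF : (Nat.card Q : F) ≠ 0)
    (hρ : ¬ Q ≤ ρ.ker) : ∃ l : G → F, wt ρ ⁅Q, Q⁆ l ≠ ⊥ ∧ ¬ Q ≤ kerOn ρ (wt ρ ⁅Q, Q⁆ l) := by
  obtain ⟨l, hl⟩ := H9.exists_wt (ρ := ρ) (S := ⁅Q, Q⁆) (U := ⊤) (X := fix ρ Q)
    (natCast_ne_zero_of_dvd hQF (card_dvd_of_le h.lt.le)) (by rw [stabOn_top]; exact le_top)
    (by rw [le_cent_iff_comm.1 (h.lt.le.trans h.cent)]; exact bot_le)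
    (fun h' => hρ (by rw [← kerOn_top]; exact le_kerOn_iff.2 h'))
  rw [top_inf_eq] at hl
  exact ⟨l, fun h => hl (by rw [h]; exact bot_le), fun h => hl (le_kerOn_iff.1 h)⟩

theorem shult_rep {p : ℕ} (hp : p.Prime) (hpF : (p : F) ≠ 0) {x : G} {n : ℕ}
    (hx : x ^ p ^ (n + 1) = 1) {K : Subgroup G} (hKF : (Nat.card K : F) ≠ 0)
    (hK : (Nat.card K).Coprime p) (hs : Group.IsSolvable K) (hxK : x ∈ 𝒩(K))
    (hρ : ρ.ker ⊓ K = ⊥) (hy : x ^ p ^ n ∉ 𝒞(K)) (h0 : fix ρ (zpowers x) = ⊥) :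
    (∀ c : F, c ^ p ^ (n + 1) = 1 → c ^ p ^ n ≠ 1 → ∃ u, u ≠ 0 ∧ ρ x u = c • u) ∧
      (K ⊓ 𝒞(zpowers x) = ⊥ → p = 2 ∧ 2 ≤ n) := by
  haveI := Fact.mk hp
  set y := x ^ p ^ n with hy'
  have hBX : zpowers y ≤ zpowers x := zpowers_le.2 (pow_mem (mem_zpowers x) _)
  have hXB : zpowers x ≤ 𝒩(zpowers y) :=
    le_norm_of_le_cent (cent_comm (hBX.trans (le_cent_self inferInstance)))
  have hcop := H1.IsPGroup.coprime_card (isPGroup_zpowers_of_pow hx) hK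
  obtain ⟨Q, hQK, h⟩ := exists_minA (zpowers_le.2 hxK) hBX hXB hcop hs
    fun h => hy (h (mem_zpowers y))
  have hQF : (Nat.card Q : F) ≠ 0 := natCast_ne_zero_of_dvd hKF (card_dvd_of_le hQK)
  obtain ⟨l, hl, hl'⟩ := h.exists_wt (ρ := ρ) hQF fun h' =>
    h.lt.ne_bot (le_bot_iff.1 (hρ ▸ le_inf h' hQK))
  have hZ := le_norm_comm h.norm h.norm
  rcases shult_wt hp hpF hx hQF (hK.coprime_dvd_left (card_dvd_of_le hQK)) (h.norm (mem_zpowers x))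
    (hZ (mem_zpowers x)) le_rfl h.cent (h.le_cent (mem_zpowers y)) h0 hl with h1 |
    ⟨h1, s, a, hsa, hs, h2, h3⟩
  · rw [← hy', h.comm] at h1; exact absurd h1 hl'
  refine ⟨h3, fun hC => ?_⟩
  rw [← hy', h.comm] at h1 h2
  rw [sup_eq_left.2 (relC_le _ _)] at h2
  obtain ⟨S, hS1, hS2, hS3⟩ := exists_cyc_cover (pow_pos hp.pos s) hs
  have hcQ := hcop.coprime_dvd_right (card_dvd_of_le hQK)
  have h4 := h.prod_bound le_sup_right h.norm hXB
    (le_bot_iff.1 ((inf_le_inf_right _ hQK).trans hC.le)) hcQ hl h1 S hS2 hS3 le_rfl h.norm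
  obtain ⟨q, hq, hqQ, -⟩ := h.ex
  haveI := Fact.mk hq
  obtain ⟨e, he⟩ := relIndex_eq_pow hqQ (rad ρ Q ⁅Q, Q⁆ l)
  obtain ⟨D, hD⟩ := relIndex_eq_pow hqQ ⁅Q, Q⁆
  have hne : (p ^ a - 1) ^ 2 ≠ 1 := fun h' => h1 (relIndex_eq_one.1 (h2.trans h'))
  obtain ⟨d, hd, hd'⟩ := exists_pow_of_sq hq (h2.symm.trans he) hne
  have hD0 : 0 < D := Nat.pos_of_ne_zero fun h' =>
    h.lt.not_ge (relIndex_eq_one.1 (by rw [hD, h', pow_zero]))
  have hord : orderOf x = p ^ (n + 1) := orderOf_eq_prime_pow (fun h => hy (by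
    rw [hy', h]; exact one_mem _)) hx
  have h5 := semireg_dvd h.norm hZ h.lt.le (normalizer_commutator_ge_left Q Q)
    (hcQ.coprime_dvd_right (card_dvd_of_le h.lt.le)) fun g hg hg1 => by
      rw [h.der, ← cent_zpowers]
      exact inf_le_inf_left _ (cent_anti (zpowers_le.2 (pow_mem_zpowers_of_ne_one hp hord hg hg1)))
  rw [hD, h2] at h4
  replace h4 := h4.trans (Nat.pow_le_pow_right (h2 ▸ Nat.pos_of_ne_zero index_ne_zero_of_finite) hS1)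
  rw [Nat.card_zpowers, hord, hD] at h5
  have hp2 : p = 2 := by_contra fun hp2 =>
    arith_shult hp hp2 hq.two_le hd hd' hD0 h4 ((pow_dvd_pow p hsa).trans h5)
  refine ⟨hp2, by_contra fun hn => ?_⟩
  subst hp2
  have h6 : 1 < q ^ d := Nat.one_lt_pow (by omega) hq.one_lt
  have h7 : 1 < q ^ D := Nat.one_lt_pow (by omega) hq.one_lt
  have ha : 2 ≤ a := by
    by_contra ha
    interval_cases a <;> omega
  obtain rfl : s = 0 := by omega
  simp at h4; omega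

theorem shult_eigen {p : ℕ} (hp : p.Prime) (hpF : (p : F) ≠ 0) {x : G} {n : ℕ}
    (hx : x ^ p ^ (n + 1) = 1) {K : Subgroup G} (hKF : (Nat.card K : F) ≠ 0)
    (hK : (Nat.card K).Coprime p) (hs : Group.IsSolvable K) (hxK : x ∈ 𝒩(K))
    (hy : ¬ ⁅K, zpowers (x ^ p ^ n)⁆ ≤ ρ.ker) (h0 : fix ρ (zpowers x) = ⊥) (c : F)
    (h1 : c ^ p ^ (n + 1) = 1) (h2 : c ^ p ^ n ≠ 1) : ∃ u, u ≠ 0 ∧ ρ x u = c • u := by
  let f := QuotientGroup.mk' ρ.ker
  let ρ' : G ⧸ ρ.ker →* End F W := QuotientGroup.lift ρ.ker ρ fun _ h => h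
  refine (shult_rep (ρ := ρ') hp hpF (x := f x) (n := n) (K := K.map f)
    (by rw [← map_pow, hx, map_one]) (natCast_ne_zero_of_dvd hKF (card_map_dvd _ _))
    (hK.coprime_dvd_left (card_map_dvd _ _)) (H1.isSolvable_map hs f)
    (H1.le_normalizer_map (zpowers_le.2 hxK) f ⟨x, mem_zpowers x, rfl⟩) ?_ (fun h => hy ?_)
    ?_).1 c h1 h2
  · rw [eq_bot_iff]
    rintro _ ⟨h, x, -, rfl⟩
    exact (QuotientGroup.eq_one_iff x).2 h
  · have := le_cent_iff_comm.1 (cent_comm (zpowers_le.2 h))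
    rwa [← map_pow, ← MonoidHom.map_zpowers, ← map_commutator, Subgroup.map_eq_bot_iff,
      QuotientGroup.ker_mk'] at this
  · rw [← MonoidHom.map_zpowers, ← fix_comp]; exact h0

end Rep

variable {G : Type u} [Group G] [Finite G]

theorem core_not_le_cent {D B : Subgroup G} (hD : nres D = ⊥) (hB : B ≤ 𝒩(D)) (h : D ≤ ⁅D, B⁆)
    {q : ℕ} (hq : q.Prime) (hd : q ∣ Nat.card D) : ¬ B ≤ 𝒞(piCoreOf {q} D) := fun hc => by
  have hn := nres_eq_bot_iff.1 hD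
  have := core_le_comm hn hB h {q}
  rw [le_cent_iff_comm.1 (cent_comm hc), le_bot_iff] at this
  exact piCoreOf_ne_bot_of_nilpotent (π := {q}) hn hq rfl hd this

theorem Op.comm_normal {K A B : Subgroup G} (h : Op K A) (hB : A ≤ 𝒩(B)) : (⁅K, B⁆).Normal :=
  h.normal_of (normalizer_commutator_ge_left K B) (le_norm_comm h.le_norm hB)

theorem Op.comm_le {K A : Subgroup G} (h : Op K A) (B : Subgroup G) : ⁅K, B⁆ ≤ K :=
  haveI := h.nrm; comm_le_left le_normalizer_of_normal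

theorem Op.comm_comm {K A B X : Subgroup G} (h : Op K A) (hB : B ≤ A) (hX : X ≤ K)
    (hBX : B ≤ 𝒩(X)) : ⁅⁅X, B⁆, B⁆ = ⁅X, B⁆ :=
  H1.commutator_commutator_eq hBX (h.cop' hX hB) (Or.inr (h.solv' hX))

theorem zpowers_le_norm_pow (x : G) (m : ℕ) : zpowers x ≤ 𝒩(zpowers (x ^ m)) :=
  le_norm_of_le_cent (cent_comm ((zpowers_le.2 (pow_mem (mem_zpowers x) _)).trans
    (le_cent_self inferInstance)))

theorem prime_ne_zero_of_card {F : Type*} [Field F] {p n : ℕ} (hp : p.Prime) {x : G}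
    (hx : x ^ p ^ n = 1) (h1 : x ≠ 1) (h : (Nat.card (zpowers x) : F) ≠ 0) : (p : F) ≠ 0 := by
  rw [Nat.card_zpowers] at h
  obtain ⟨k, -, hk⟩ := (Nat.dvd_prime_pow hp).1 (orderOf_dvd_of_pow_eq_one hx)
  refine natCast_ne_zero_of_dvd h (hk ▸ dvd_pow_self p ?_)
  rintro rfl
  exact h1 (orderOf_eq_one_iff.1 hk)

theorem coprime_prime_of_card {p n m : ℕ} (hp : p.Prime) {x : G}
    (hx : x ^ p ^ n = 1) (h1 : x ≠ 1) (h : (Nat.card (zpowers x)).Coprime m) : m.Coprime p := by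
  rw [Nat.card_zpowers] at h
  obtain ⟨k, -, hk⟩ := (Nat.dvd_prime_pow hp).1 (orderOf_dvd_of_pow_eq_one hx)
  refine (h.coprime_dvd_left (hk ▸ dvd_pow_self p ?_)).symm
  rintro rfl
  exact h1 (orderOf_eq_one_iff.1 hk)

theorem Op.nres_comm {K : Subgroup G} {x : G} (h : Op K (zpowers x)) {p n : ℕ} (hp : p.Prime)
    (hx : x ^ p ^ (n + 1) = 1) (hn : p ≠ 2 ∨ n < 2) : nres ⁅K, zpowers (x ^ p ^ n)⁆ = ⊥ := by
  by_contra hD
  have hBX : zpowers (x ^ p ^ n) ≤ zpowers x := zpowers_le.2 (pow_mem (mem_zpowers x) _)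
  have hx1 : x ≠ 1 := by
    rintro rfl
    rw [one_pow, zpowers_one_eq_bot, commutator_bot_right] at hD
    exact hD (le_bot_iff.1 (nres_le _))
  haveI := h.comm_normal (zpowers_le_norm_pow x (p ^ n))
  obtain ⟨N, _, F, _, _, W, _, _, _, ρ, q, -, h1, h2, h3, h4, hq, hqF, hqD, -⟩ :=
    h.tower (h.comm_le _) hD
  set f := QuotientGroup.mk' N
  have hf : Function.Surjective f := QuotientGroup.mk'_surjective N
  have h' := h.map hf
  rw [MonoidHom.map_zpowers] at h' h3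
  set D := (⁅K, zpowers (x ^ p ^ n)⁆).map f with hD'
  haveI : D.Normal := Normal.map inferInstance f hf
  have hDK : D ≤ K.map f := map_mono (h.comm_le _)
  have hT := (piCoreOf_le {q} D).trans hDK
  have hc := core_not_le_cent (D := D) (B := zpowers (f x ^ p ^ n)) (by
    rw [hD', ← map_nres, Subgroup.map_eq_bot_iff, QuotientGroup.ker_mk']; exact h1)
    le_normalizer_of_normal (by
      rw [← map_pow, ← MonoidHom.map_zpowers, hD', ← map_commutator,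
        h.comm_comm hBX le_rfl (hBX.trans h.le_norm)]) hq hqD
  haveI := Fact.mk hq
  obtain ⟨e, he⟩ := IsPGroup.iff_card.1 (isPi_piCoreOf {q} D).isPGroup
  have := (shult_rep (ρ := ρ) hp (prime_ne_zero_of_card hp hx hx1 h4) (x := f x) (n := n)
    (K := piCoreOf {q} D) (by rw [← map_pow, hx, map_one])
    (by rw [he, Nat.cast_pow]; exact pow_ne_zero _ hqF)
    (((coprime_prime_of_card hp hx hx1 h.cop).coprime_dvd_left
      (card_map_dvd K f)).coprime_dvd_left (card_dvd_of_le hT)) (h'.solv' hT)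
    (le_norm_piCoreOf _ le_normalizer_of_normal (mem_top _))
    (le_bot_iff.1 ((inf_le_inf_left _ hT).trans h2.le)) (fun hc' => hc (zpowers_le.2 hc')) h3).2
    (h'.fpf' hT)
  omega

theorem le_norm_comm_sup (K B : Subgroup G) : K ≤ 𝒩(⁅K, B⁆ ⊔ B) :=
  le_normalizer_iff_commutator_le_left.2 (comm_sup_left_le
    ((comm_le_left (normalizer_commutator_ge_left K B)).trans le_sup_left)
    ((commutator_comm B K).le.trans le_sup_left) (le_norm_of_le le_sup_left)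
    (le_norm_of_le le_sup_right))

theorem Op.sup_normal {K A B : Subgroup G} (h : Op K A) (hB : A ≤ 𝒩(B)) : (⁅K, B⁆ ⊔ B).Normal :=
  h.normal_of (le_norm_comm_sup K B) (le_norm_sup (le_norm_comm h.le_norm hB) hB)

theorem Op.le_comm_of_map {K A B X : Subgroup G} (h : Op K A) (hB : B ≤ A)
    [(⁅K, B⁆ ⊔ B).Normal] (hX : X ≤ K) (h0 : X.map (QuotientGroup.mk' (⁅K, B⁆ ⊔ B)) = ⊥) :
    X ≤ ⁅K, B⁆ := fun k hk => by
  rw [Subgroup.map_eq_bot_iff, QuotientGroup.ker_mk'] at h0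
  obtain ⟨d, hd, b, hb, rfl⟩ := (H1.mem_sup_of_le_normalizer_left
    (normalizer_commutator_ge_right K B)).1 (h0 hk)
  have : b ∈ K ⊓ A := ⟨(mul_mem_cancel_left (h.comm_le B hd)).1 (hX hk), hB hb⟩
  rw [h.inf_eq, mem_bot] at this
  rwa [this, mul_one]

theorem Op.step {K : Subgroup G} {x : G} (h : Op K (zpowers x)) (m k : ℕ)
    (ih : ∀ (G' : Type u) [Group G'] [Finite G'] (K : Subgroup G') (x : G'), Op K (zpowers x) →
      x ^ m = 1 → nres^[k] K = ⊥) : nres^[k] K ≤ ⁅K, zpowers (x ^ m)⁆ := by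
  haveI := h.sup_normal (zpowers_le_norm_pow x m)
  refine h.le_comm_of_map (zpowers_le.2 (pow_mem (mem_zpowers x) _))
    (nres_iter_anti K (Nat.zero_le k)) ?_
  have h' := h.map (QuotientGroup.mk'_surjective (⁅K, zpowers (x ^ m)⁆ ⊔ zpowers (x ^ m)))
  rw [MonoidHom.map_zpowers] at h'
  rw [map_nres_iter]
  refine ih _ _ _ h' ?_
  rw [← map_pow]
  exact (QuotientGroup.eq_one_iff _).2 (mem_sup_right (mem_zpowers _))

theorem shult_amb {p : ℕ} (hp : p.Prime) (n : ℕ) (hn : p ≠ 2 ∨ n ≤ 2) :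
    ∀ (G : Type u) [Group G] [Finite G] (K : Subgroup G) (x : G), Op K (zpowers x) →
      x ^ p ^ n = 1 → nres^[n] K = ⊥ := by
  induction n with
  | zero =>
    intro G _ _ K x h hx
    have := h.fpf
    rw [pow_zero, pow_one] at hx
    rwa [hx, zpowers_one_eq_bot, cent_bot, inf_top_eq] at this
  | succ n ih =>
    intro G _ _ K x h hx
    rw [Function.iterate_succ_apply', eq_bot_iff, ← h.nres_comm hp hx (by omega)]
    exact nres_mono (h.step _ n (ih (by omega)))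

theorem comm_of_fpf_invol {K : Subgroup G} {x : G} (hx : x ∈ 𝒩(K)) (h2 : x ^ 2 = 1)
    (h : K ⊓ 𝒞₁(x) = ⊥) : ⁅K, K⁆ = ⊥ := by
  have hx' : x⁻¹ = x := inv_eq_of_mul_eq_one_right (by rwa [← sq])
  have h1 : ∀ k ∈ K, x * k * x = k⁻¹ := fun k hk => by
    obtain ⟨n, -, hn⟩ := fpf_conj_surj hx h hk
    have : k * x * (k * x) = 1 := by
      rw [← hn]
      calc _ = n⁻¹ * x ^ 2 * n := by rw [sq]; group
        _ = 1 := by rw [h2]; group
    rw [eq_inv_iff_mul_eq_one, mul_eq_one_comm, ← this]; group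
  rw [eq_bot_iff, commutator_le]
  intro a ha b hb
  have h3 := h1 _ (mul_mem (inv_mem ha) (inv_mem hb))
  have h4 : x * (a⁻¹ * b⁻¹) * x = (x * a⁻¹ * x) * (x * b⁻¹ * x) := by
    calc _ = x * a⁻¹ * (x⁻¹ * x) * b⁻¹ * x := by group
      _ = _ := by rw [hx']; group
  rw [h4, h1 _ (inv_mem ha), h1 _ (inv_mem hb)] at h3
  rw [mem_bot, commutatorElement_eq_one_iff_mul_comm]
  simpa using h3

theorem Op.der_nilpotent {K : Subgroup G} {x : G} (h : Op K (zpowers x)) (hx : x ^ 4 = 1) :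
    nres ⁅K, K⁆ = ⊥ := by
  rw [eq_bot_iff, ← h.nres_comm Nat.prime_two (n := 1) hx (by omega)]
  haveI := h.sup_normal (zpowers_le_norm_pow x (2 ^ 1))
  refine nres_mono (h.le_comm_of_map (zpowers_le.2 (pow_mem (mem_zpowers x) _)) (h.comm_le K) ?_)
  have h' := h.map (QuotientGroup.mk'_surjective (⁅K, zpowers (x ^ 2 ^ 1)⁆ ⊔ zpowers (x ^ 2 ^ 1)))
  rw [MonoidHom.map_zpowers] at h'
  rw [map_commutator]
  refine comm_of_fpf_invol (h'.le_norm (mem_zpowers _)) ?_ (by rw [← cent_zpowers]; exact h'.fpf)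
  rw [← map_pow]
  exact (QuotientGroup.eq_one_iff _).2 (mem_sup_right (mem_zpowers _))

end H9
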