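import Cfsg.Agent.H9.Sh4

/-! Passing from automorphism groups to semidirect products. -/

set_option autoImplicit false

namespace H9
open Module H2 Subgroup H15 Cfsg SemidirectProduct
open scoped commutatorElement

variable {G A : Type*} [Group G] [Finite G] [Group A] [Finite A]

theorem op_sdp (φ : A →* MulAut G) (hG : Group.IsSolvable G)
    (hcop : (Nat.card A).Coprime (Nat.card G)) (h : ∀ g : G, (∀ a, φ a g = g) → g = 1) :
    Op (H8.sdL φ ⊤) (H8.sdR φ ⊤) where
  nrm := inferInstance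
  solv := H1.isSolvable_map inferInstance _
  sup := H8.sdL_sup_sdR φ
  cop := by rwa [H8.card_sdL, H8.card_sdR, card_top, card_top]
  fpf := by
    rw [eq_bot_iff]
    rintro _ ⟨⟨g, -, rfl⟩, hg⟩
    rw [h g fun a => (H8.inl_mem_centralizer_sdR φ).1 hg a (mem_top a), map_one]
    exact one_mem _

theorem nres_iter_of_sdL (φ : A →* MulAut G) {n : ℕ} {X : Subgroup G}
    (h : nres^[n] (H8.sdL φ X) = ⊥) : nres^[n] X = ⊥ := by
  rwa [← map_nres_iter, map_eq_bot_iff_of_injective _ inl_injective] at h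

theorem coprime_of_fpf_pgroup {p : ℕ} [Fact p.Prime] (hA : IsPGroup p A) (φ : A →* MulAut G)
    (h : ∀ g : G, (∀ a, φ a g = g) → g = 1) : (Nat.card A).Coprime (Nat.card G) := by
  letI : MulAction A G := MulAction.compHom G φ
  have h1 := hA.card_modEq_card_fixedPoints G
  have h2 : Nat.card (MulAction.fixedPoints A G) = 1 := by
    rw [Nat.card_eq_one_iff_exists]
    exact ⟨⟨1, fun a => map_one (φ a)⟩, fun g => Subtype.ext (h g g.2)⟩
  obtain ⟨k, hk⟩ := IsPGroup.iff_card.1 hA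
  rw [hk]
  refine Nat.Coprime.pow_left k ((Nat.Prime.coprime_iff_not_dvd Fact.out).2 fun hd => ?_)
  rw [h2] at h1
  exact (Fact.out : p.Prime).not_dvd_one ((h1.dvd_iff dvd_rfl).1 hd)

theorem op_zpowers (hG : Group.IsSolvable G) {p n : ℕ} (hp : p.Prime) (σ : MulAut G)
    (hσ : σ ^ p ^ n = 1) (h : ∀ g : G, σ g = g → g = 1) :
    Op (H8.sdL (zpowers σ).subtype ⊤) (zpowers (inr ⟨σ, mem_zpowers σ⟩)) ∧
      (inr ⟨σ, mem_zpowers σ⟩ : G ⋊[(zpowers σ).subtype] zpowers σ) ^ p ^ n = 1 := by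
  haveI := Fact.mk hp
  have h' : ∀ g : G, (∀ a, (zpowers σ).subtype a g = g) → g = 1 := fun g hg =>
    h g (hg ⟨σ, mem_zpowers σ⟩)
  have := op_sdp (zpowers σ).subtype hG
    (coprime_of_fpf_pgroup (isPGroup_zpowers_of_pow hσ) _ h') h'
  refine ⟨?_, by rw [← map_pow, ← map_one inr]; exact congrArg _ (Subtype.ext hσ)⟩
  convert this
  rw [← MonoidHom.map_zpowers]
  congr 1
  rw [eq_top_iff]
  rintro ⟨_, j, rfl⟩ -
  exact ⟨j, rfl⟩

theorem shult_gross (hG : Group.IsSolvable G) {p : ℕ} (hp : p.Prime) (hp2 : p ≠ 2) (σ : MulAut G)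
    {n : ℕ} (hσ : σ ^ p ^ n = 1) (h : ∀ g : G, σ g = g → g = 1) :
    nres^[n] (⊤ : Subgroup G) = ⊥ :=
  have := op_zpowers hG hp σ hσ h
  nres_iter_of_sdL _ (shult_amb hp n (Or.inl hp2) _ _ _ this.1 this.2)

theorem der_nilpotent_of_four (hG : Group.IsSolvable G) (σ : MulAut G) (hσ : σ ^ 4 = 1)
    (h : ∀ g : G, σ g = g → g = 1) : Group.IsNilpotent (_root_.commutator G) := by
  have := op_zpowers hG Nat.prime_two σ (n := 2) hσ h
  have h1 := this.1.der_nilpotent this.2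
  rw [← map_commutator] at h1
  exact nres_eq_bot_iff.1 (nres_iter_of_sdL _ (n := 1) h1)

end H9
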