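import Cfsg.Agent.H9.Sh5
import Cfsg.Agent.H5.Radical
import Mathlib.RingTheory.RootsOfUnity.AlgebraicallyClosed

/-! Three level towers and cyclic operator 2-groups. -/

set_option autoImplicit false

namespace H9
open Module H2 Subgroup H15 Cfsg
open scoped commutatorElement

universe u

section Lin
variable {F V : Type*} [Field F] [AddCommGroup V] [Module F V] [IsAlgClosed F]
  [FiniteDimensional F V]

theorem two_pow_add_le (h2 : ((2 : ℕ) : F) ≠ 0) (f : End F V) (n : ℕ)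
    (h : ∀ c : F, c ^ 2 ^ (n + 1) = 1 → c ^ 2 ^ n ≠ 1 → ∃ u, u ≠ 0 ∧ f u = c • u)
    {U : Submodule F V} (hU : ∀ u ∈ U, (f ^ 2 ^ n) u = u) :
    2 ^ n + finrank F U ≤ finrank F V := by
  haveI : NeZero ((2 ^ (n + 1) : ℕ) : F) := ⟨by rw [Nat.cast_pow]; exact pow_ne_zero _ h2⟩
  obtain ⟨ζ, hζ⟩ := HasEnoughRootsOfUnity.exists_primitiveRoot F (2 ^ (n + 1))
  have h1 : ζ ^ 2 ^ n = -1 := (hζ.pow (by positivity) (pow_succ 2 n)).eq_neg_one_of_two_right
  have hm : (-1 : F) ≠ 1 := fun h' => h2 (by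
    rw [Nat.cast_ofNat, ← one_add_one_eq_two]; nth_rewrite 1 [← h']; simp)
  have h3 : ∀ i : ℕ, (ζ ^ (2 * i + 1)) ^ 2 ^ n = -1 := fun i => by
    rw [← pow_mul, mul_comm, pow_mul, h1, pow_succ, pow_mul]; simp
  choose u hu0 hu using fun i : Fin (2 ^ n) => h (ζ ^ (2 * (i : ℕ) + 1))
    (by rw [pow_succ 2, pow_mul, h3]; simp) (by rw [h3]; exact hm)
  have hli := f.eigenvectors_linearIndependent' (fun i : Fin (2 ^ n) => ζ ^ (2 * (i : ℕ) + 1))
    (fun i j hij => by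
      have := hζ.pow_inj (by have := i.2; omega) (by have := j.2; omega) hij
      exact Fin.ext (by omega)) u fun i => ⟨End.mem_eigenspace_iff.2 (hu i), hu0 i⟩
  have h4 := finrank_span_eq_card hli
  rw [Fintype.card_fin] at h4
  rw [← h4]
  refine Submodule.finrank_add_finrank_le_of_disjoint (Submodule.disjoint_def.2 fun v hv hv' => ?_)
  have h5 : Submodule.span F (Set.range u) ≤ (f ^ 2 ^ n).eigenspace (-1) :=
    Submodule.span_le.2 (by
      rintro _ ⟨i, rfl⟩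
      rw [SetLike.mem_coe, End.mem_eigenspace_iff, ← h3 i]
      exact End.HasEigenvector.pow_apply ⟨End.mem_eigenspace_iff.2 (hu i), hu0 i⟩ _)
  have h6 := End.mem_eigenspace_iff.1 (h5 hv)
  rw [hU v hv'] at h6
  by_contra h0
  exact hm (smul_left_injective F h0 (h6.symm.trans (one_smul F v).symm))

end Lin

theorem arith_gross {q d a s n : ℕ} (hq : 3 ≤ q) (hd : 1 ≤ d) (h : 2 ^ a - 1 = q ^ d)
    (hsa : s + a ≤ n + 1) (hle : q ^ 2 ^ n ≤ ((2 ^ a - 1) ^ 2) ^ (2 ^ s - 1)) : False := by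
  rw [h, ← pow_mul, ← pow_mul, Nat.pow_le_pow_iff_right (by omega)] at hle
  have h1 : ∀ e, 4 * (e + 1) ≤ 3 ^ (e + 1) + 1 := fun e => by
    induction e with
    | zero => norm_num
    | succ e ih => rw [pow_succ 3 (e + 1)]; omega
  have h2 := h1 (d - 1)
  rw [Nat.sub_add_cancel hd] at h2
  have h3 : 3 ^ d ≤ q ^ d := Nat.pow_le_pow_left hq d
  have h4 : 1 ≤ 2 ^ a := Nat.one_le_two_pow
  have h5 : 1 ≤ 2 ^ s := Nat.one_le_two_pow
  have h6 : 2 ^ s * 2 ^ a ≤ 2 ^ n * 2 := by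
    rw [← pow_add, ← pow_succ]; exact Nat.pow_le_pow_right (by norm_num) hsa
  obtain ⟨t, ht⟩ : ∃ t, 2 ^ s = t + 1 := ⟨2 ^ s - 1, by omega⟩
  rw [ht] at hle h6
  rw [Nat.add_sub_cancel] at hle
  have h7 : 4 * d ≤ 2 ^ a := by omega
  nlinarith

variable {G : Type u} [Group G] [Finite G]

theorem MinA.homKer_eq {L B Q : Subgroup G} (h : MinA L B Q) {q : ℕ} [hq : Fact q.Prime]
    (hQ : IsPGroup q Q) (F : Type*) [Field F] [CharP F q] : homKer F Q = ⁅Q, Q⁆ := by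
  refine le_antisymm (homKer_le_of (p := q) h.lt.le le_rfl ?_) (commutator_le_homKer Q)
  obtain ⟨q', hq', h1, h2⟩ := h.ex
  haveI := Fact.mk hq'
  by_cases e : q' = q
  · exact e ▸ h2
  · exact absurd (disjoint_self.1 (IsPGroup.disjoint_of_ne q' q e Q Q h1 hQ)) h.lt.ne_bot

theorem MinA.pow_le_relIndex {L R Q : Subgroup G} (h : MinA L R Q) (hRL : R ≤ L) {x : G}
    (hxL : x ∈ L) {n : ℕ} (hx : x ^ 2 ^ (n + 1) = 1) {q : ℕ} (hq : q.Prime) (hQ : IsPGroup q Q)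
    (hq2 : q ≠ 2) (hRq : (Nat.card R).Coprime q) (hR2 : (Nat.card R).Coprime 2)
    (hs : Group.IsSolvable R) (hxR : x ∈ 𝒩(R)) (hR : R ≤ ⁅R, zpowers (x ^ 2 ^ n)⁆)
    (hC : Q ⊓ 𝒞(zpowers x) = ⊥) :
    q ^ 2 ^ n ≤ (⁅Q, Q⁆).relIndex ⁅Q, zpowers (x ^ 2 ^ n)⁆ := by
  haveI := Fact.mk hq
  let F := AlgebraicClosure (ZMod q)
  have h2 : Nat.Coprime 2 q := (Nat.coprime_primes Nat.prime_two hq).2 hq2.symm
  have h2F : ((2 : ℕ) : F) ≠ 0 := natCast_ne_zero_of_coprime' F h2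
  have hXL : zpowers x ≤ L := zpowers_le.2 hxL
  have hBL : zpowers (x ^ 2 ^ n) ≤ L := zpowers_le.2 (pow_mem hxL _)
  obtain ⟨e, he⟩ := IsPGroup.iff_card.1 hQ
  obtain ⟨k, hk⟩ := IsPGroup.iff_card.1 (isPGroup_zpowers_of_pow hx)
  have e1 : ∀ m, (zpowers ((⟨x, hxL⟩ : L) ^ m)).map L.subtype = zpowers (x ^ m) := fun m => by
    rw [MonoidHom.map_zpowers]; rfl
  have hK := h.homKer_eq hQ F
  have h1 := two_pow_add_le h2F (homRep F Q L h.norm ⟨x, hxL⟩) n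
    (shult_eigen (K := R.subgroupOf L) Nat.prime_two h2F (Subtype.ext hx)
      (by rw [H1.card_subgroupOf_of_le hRL]; exact natCast_ne_zero_of_coprime' F hRq)
      (by rwa [H1.card_subgroupOf_of_le hRL]) (H1.isSolvable_subgroupOf hs L)
      (H1.le_normalizer_subgroupOf (zpowers_le.2 hxR) L (mem_zpowers x))
      (fun hc => by
        rw [← fix_eq_top_iff, fix_homRep, map_commutator, e1, map_subgroupOf hRL] at hc
        refine h.lt.not_ge (hK ▸ h.comm.ge.trans ((commutator_mono le_rfl hR).trans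
          (commutator_le.2 fun t ht g hg => ⟨comm_le_left (((comm_le_left (zpowers_le.2
            (pow_mem hxR _))).trans h.le_norm)) (commutator_mem_commutator ht hg),
              fun f hf => ?_⟩)))
        have h3 : (⟨f, hf⟩ : homSp F Q ⊥) ∈ homFix F Q ⁅R, zpowers (x ^ 2 ^ n)⁆ := by
          rw [hc]; trivial
        have h4 := congrFun (h3 g hg) (g * t⁻¹ * g⁻¹)
        have h5 : g * t⁻¹ * g⁻¹ ∈ Q := H1.conj_mem_of_mem_normalizer (h.le_norm (comm_le_left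
          (zpowers_le.2 (pow_mem hxR _)) hg)) (inv_mem ht)
        have h6 : ⁅t, g⁆ = t * (g * t⁻¹ * g⁻¹) := by simp [commutatorElement_def, mul_assoc]
        simp only [conjRep_apply, Submodule.subtype_apply] at h4
        rw [h6, hf.1 _ ht _ h5, ← h4, ← hf.1 _ ht _ (by simpa [mul_assoc] using inv_mem ht)]
        simpa [mul_assoc] using homSp_one hf)
      (by
        rw [fix_homRep, ← pow_one (⟨x, hxL⟩ : L), e1, pow_one]
        refine homFix_eq_bot (k := q) (hXL.trans h.norm) ?_ (Or.inl inferInstance) ?_ hC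
        · rw [hk, he]; exact h2.pow _ _
        · rw [hk, Nat.cast_pow]; exact pow_ne_zero _ h2F))
    (U := homFix F Q (zpowers (x ^ 2 ^ n))) (fun u hu => by
      rw [← map_pow]; exact Subtype.ext (hu _ (mem_zpowers _)))
  have hM : ⁅Q, zpowers (x ^ 2 ^ n)⁆ ≤ Q := comm_le_left (hBL.trans h.norm)
  have h3 : finrank F (homFix F Q (zpowers (x ^ 2 ^ n))) =
      finrank F (homSp F Q (⁅Q, zpowers (x ^ 2 ^ n)⁆ ⊔ ⁅Q, Q⁆)) := by
    rw [sup_comm, ← hK, ← homSp_inf_fix (hBL.trans h.norm), homFix,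
      ← Submodule.finrank_map_subtype_eq, Submodule.map_comap_subtype]
  have h4 : homSp F Q ⊥ = homSp F Q ⁅Q, Q⁆ := le_antisymm
    (fun f hf => ⟨hf.1, hf.2.1, fun y hy => (commutator_le_homKer Q hy).2 f hf⟩) (homSp_le_bot _ _)
  have hpw : ∀ x ∈ Q, x ^ q ∈ ⁅Q, Q⁆ := fun x hx => hK ▸ pow_mem_homKer Q q hx
  have h5 := pow_finrank_homSp (F := F) q h.lt.le le_rfl hpw
  have h6 := pow_finrank_homSp (F := F) q (sup_le hM h.lt.le) le_sup_right
    fun x hx => mem_sup_right (hpw x hx)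
  rw [← relIndex_mul_relIndex _ _ _ (le_sup_right : _ ≤ ⁅Q, zpowers (x ^ 2 ^ n)⁆ ⊔ ⁅Q, Q⁆)
    (sup_le hM h.lt.le), ← h6, H1.relIndex_sup_of_le_normalizer
      (hM.trans (normalizer_commutator_ge_left Q Q)), ← h4] at h5
  rw [h3] at h1
  have h7 := Nat.pow_le_pow_right hq.pos h1
  rw [h5, pow_add] at h7
  exact Nat.le_of_mul_le_mul_right h7 (pow_pos hq.pos _)

/-- three level configuration -/
structure Tw {F W : Type*} [Field F] [AddCommGroup W] [Module F W] (ρ : G →* End F W)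
    (K A T R : Subgroup G) (q r : ℕ) : Prop where
  op : Op K A
  ker : ρ.ker ⊓ K = ⊥
  fx : fix ρ A = ⊥
  AF : (Nat.card A : F) ≠ 0
  hq : q.Prime
  hr : r.Prime
  ne : r ≠ q
  qF : (q : F) ≠ 0
  Tn : T.Normal
  TK : T ≤ K
  Tp : IsPGroup q T
  RK : R ≤ K
  Rp : IsPGroup r R
  AR : A ≤ 𝒩(R)
  nc : ¬ R ≤ 𝒞(T)

theorem Op.tower3 {K A D : Subgroup G} (h : Op K A) [D.Normal] (hDK : D ≤ K)
    (hD : nres (nres D) ≠ ⊥) :
    ∃ (N : Subgroup G) (_ : N.Normal) (F : Type) (_ : Field F) (_ : IsAlgClosed F) (W : Type u)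
      (_ : AddCommGroup W) (_ : Module F W) (_ : FiniteDimensional F W) (ρ : G ⧸ N →* End F W)
      (q r : ℕ) (T R : Subgroup (G ⧸ N)), N ≤ K ∧
      Tw ρ (K.map (QuotientGroup.mk' N)) (A.map (QuotientGroup.mk' N)) T R q r ∧
      ∀ B ≤ A, D ≤ ⁅D, B⁆ → ¬ ⁅R, B.map (QuotientGroup.mk' N)⁆ ≤ 𝒞(T) := by
  obtain ⟨N, _, F, _, _, W, _, _, _, ρ, q, h0, h1, h2, h3, h4, hq, hqF, hqD, -⟩ :=
    h.tower ((nres_le D).trans hDK) hD
  have hf := QuotientGroup.mk'_surjective N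
  haveI : (D.map (QuotientGroup.mk' N)).Normal := Normal.map inferInstance _ hf
  obtain ⟨T, R, r, a1, a2, a3, a4, a5, a6, a7, a8, a9, a10⟩ := (h.map hf).tower_up
    (map_mono hDK) (by
      rw [← map_nres, ← map_nres, Subgroup.map_eq_bot_iff, QuotientGroup.ker_mk']; exact h1) hq
    (by rwa [← map_nres])
  exact ⟨N, inferInstance, F, inferInstance, inferInstance, W, inferInstance, inferInstance,
    inferInstance, ρ, q, r, T, R, h0, ⟨h.map hf, h2, h3, natCast_ne_zero_of_dvd h4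
      (card_map_dvd _ _), hq, a4, a5, hqF, a1, a2, a3, a6, a7, a8, a9⟩,
    fun B hB hc => a10 _ (map_mono hB) (by rw [← map_commutator]; exact map_mono hc)⟩

section Tw
variable {F W : Type*} [Field F] [AddCommGroup W] [Module F W] {ρ : G →* End F W}
  {K A T R : Subgroup G} {q r : ℕ}

theorem Tw.card_ne (h : Tw ρ K A T R q r) {Q : Subgroup G} (hQ : Q ≤ T) :
    (Nat.card Q : F) ≠ 0 := by
  haveI := Fact.mk h.hq
  obtain ⟨e, he⟩ := IsPGroup.iff_card.1 (h.Tp.to_le hQ)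
  rw [he, Nat.cast_pow]; exact pow_ne_zero _ h.qF

theorem Tw.cop_q (h : Tw ρ K A T R q r) {X : Subgroup G} (hX : X ≤ R) :
    (Nat.card X).Coprime q := by
  haveI := Fact.mk h.hr
  obtain ⟨e, he⟩ := IsPGroup.iff_card.1 (h.Rp.to_le hX)
  rw [he]; exact ((Nat.coprime_primes h.hr h.hq).2 h.ne).pow_left e

theorem Tw.cop (h : Tw ρ K A T R q r) {X Q : Subgroup G} (hX : X ≤ R) (hQ : Q ≤ T) :
    (Nat.card X).Coprime (Nat.card Q) :=
  haveI := Fact.mk h.hq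
  (H1.IsPGroup.coprime_card (h.Tp.to_le hQ) (h.cop_q hX)).symm

theorem Tw.exists_minA (h : Tw ρ K A T R q r) {X : Subgroup G} (hX : X ≤ R) (hA : A ≤ 𝒩(X))
    (hn : ¬ X ≤ 𝒞(T)) : ∃ Q ≤ T, MinA (X ⊔ A) X Q := by
  haveI := h.Tn
  refine H9.exists_minA le_normalizer_of_normal le_sup_left (sup_le (le_norm_self X) hA)
    (Nat.Coprime.coprime_dvd_left ?_ ((h.op.cop' h.TK le_rfl).mul_left (h.cop hX le_rfl)))
    (h.op.solv' h.TK) hn
  rw [sup_comm]; exact H1.card_sup_dvd hA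

theorem Tw.not_le_ker (h : Tw ρ K A T R q r) {Q : Subgroup G} (hQ : Q ≤ T) (h0 : Q ≠ ⊥) :
    ¬ Q ≤ ρ.ker := fun h' => h0 (le_bot_iff.1 (h.ker ▸ le_inf h' (hQ.trans h.TK)))

variable [IsAlgClosed F] [FiniteDimensional F W]

theorem comm_le_ker_of_abelian {p : ℕ} (hp : p.Prime) (hpF : (p : F) ≠ 0) {x : G} {n : ℕ}
    (hx : x ^ p ^ (n + 1) = 1) {S : Subgroup G} (hSF : (Nat.card S : F) ≠ 0)
    (hS : (Nat.card S).Coprime p) (hxS : x ∈ 𝒩(S)) (hc : ⁅S, S⁆ = ⊥)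
    (h0 : fix ρ (zpowers x) = ⊥) : ⁅S, zpowers (x ^ p ^ n)⁆ ≤ ρ.ker := by
  by_cases hW : (⊤ : Submodule F W) = ⊥
  · rw [← fix_eq_top_iff, eq_top_iff, hW]; exact bot_le
  have hN : S ≤ 𝒩(kerOn ρ ⊤) := le_top.trans (stabOn_top.ge.trans (stabOn_le_norm_kerOn ⊤))
  rcases shult_core (ρ := ρ) hp hpF hx hSF hS hxS hW (le_top.trans stabOn_top.ge)
    (stabOn_top.ge (mem_top x)) (fun z hz => ⟨1, fun w _ => by
      rw [hc, mem_bot] at hz; simp [hz]⟩) (by rw [h0, inf_bot_eq]) with h | ⟨h, -⟩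
  · rwa [kerOn_top] at h
  · refine absurd (fun k hk => (mem_relC hN).2 ⟨comm_le_left (zpowers_le.2 (pow_mem hxS _)) hk,
      fun l hl => ?_⟩) h
    have := commutator_mem_commutator (comm_le_left (zpowers_le.2 (pow_mem hxS _)) hk) hl
    rw [hc, mem_bot] at this
    rw [this]; exact one_mem _

theorem Tw.gross {x : G} (h : Tw ρ K (zpowers x) T R q r) {n : ℕ} (hx : x ^ 2 ^ (n + 1) = 1) :
    ⁅R, zpowers (x ^ 2 ^ n)⁆ ≤ 𝒞(T) := by
  by_contra hn
  haveI := Fact.mk h.hq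
  have hBX : zpowers (x ^ 2 ^ n) ≤ zpowers x := zpowers_le.2 (pow_mem (mem_zpowers x) _)
  have hx1 : x ≠ 1 := by
    rintro rfl
    rw [one_pow, zpowers_one_eq_bot, commutator_bot_right] at hn
    exact hn bot_le
  have h2F := prime_ne_zero_of_card Nat.prime_two hx hx1 h.AF
  have hK2 := coprime_prime_of_card Nat.prime_two hx hx1 h.op.cop
  have hXR : ⁅R, zpowers (x ^ 2 ^ n)⁆ ≤ R := comm_le_left (hBX.trans h.AR)
  have hXX := h.op.comm_comm hBX h.RK (hBX.trans h.AR)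
  have hAX := le_norm_comm h.AR (zpowers_le_norm_pow x (2 ^ n))
  generalize ⁅R, zpowers (x ^ 2 ^ n)⁆ = X at hn hXR hXX hAX
  obtain ⟨Q, hQT, m⟩ := h.exists_minA hXR hAX hn
  have hQK := hQT.trans h.TK
  have hAQ : zpowers x ≤ 𝒩(Q) := le_sup_right.trans m.norm
  have hAZ := le_norm_comm hAQ hAQ
  have hQ2 := hK2.coprime_dvd_left (card_dvd_of_le hQK)
  have hy : x ^ 2 ^ n ∈ 𝒞(⁅Q, Q⁆) := by
    refine cent_comm (le_cent_iff_comm.2 (le_bot_iff.1 (h.ker ▸ le_inf ?_ ?_))) (mem_zpowers _)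
    · exact comm_le_ker_of_abelian Nat.prime_two h2F hx (h.card_ne (m.lt.le.trans hQT))
        (hQ2.coprime_dvd_left (card_dvd_of_le m.lt.le)) (hAZ (mem_zpowers x))
        (le_cent_iff_comm.1 (m.lt.le.trans m.cent)) h.fx
    · exact (comm_le_left (hBX.trans hAZ)).trans (m.lt.le.trans hQK)
  obtain ⟨l, hl, hl'⟩ := m.exists_wt (h.card_ne hQT) (h.not_le_ker hQT m.lt.ne_bot)
  have hN := (cent_le_wstab ⁅Q, Q⁆ l).trans (wstab_le_norm_ker (ρ := ρ) _ l)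
  have hM : ⁅Q, zpowers (x ^ 2 ^ n)⁆ ≤ Q := comm_le_left (hBX.trans hAQ)
  rcases shult_wt Nat.prime_two h2F hx (h.card_ne hQT) hQ2 (hAQ (mem_zpowers x))
    (hAZ (mem_zpowers x)) le_rfl m.cent hy h.fx hl with h1 | ⟨h1, s, a, hsa, hs, h2, -⟩
  · have := H5.three_subgroups_mod (X := X) (Y := zpowers (x ^ 2 ^ n)) (Z := Q) (m.le_cent.trans hN)
      ((zpowers_le.2 hy).trans hN) (m.cent.trans hN)
      ((commutator_mono ((commutator_comm _ _).le.trans h1) le_rfl).trans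
        (comm_le_left (m.le_cent.trans hN))) (by rw [m.comm]; exact h1)
    rw [hXX, commutator_comm, m.comm] at this
    exact hl' this
  obtain ⟨S, hS1, hS2, hS3⟩ := exists_cyc_cover (pow_pos two_pos s) hs
  have h4 := m.prod_bound le_rfl hAQ hAX (h.op.fpf' hQK) (h.op.cop' hQK le_rfl) hl
    (fun h' => h1 (hM.trans h')) S hS2 hS3 hM (le_norm_comm hAQ (zpowers_le_norm_pow x (2 ^ n)))
  rw [H1.relIndex_sup_of_le_normalizer (hM.trans (le_norm_rad m.cent (le_norm_self Q)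
    (m.cent.trans (cent_le_wstab _ l))))] at h2
  obtain ⟨e, he⟩ := relIndex_eq_pow (h.Tp.to_le (hM.trans hQT)) (rad ρ Q ⁅Q, Q⁆ l)
  obtain ⟨d, hd, hd'⟩ := exists_pow_of_sq h.hq (h2.symm.trans he)
    fun h' => h1 (relIndex_eq_one.1 (h2.trans h'))
  have hq2 : q ≠ 2 := by
    rintro rfl
    exact m.lt.ne_bot (card_eq_one.1 ((Nat.coprime_self _).1
      (H1.IsPGroup.coprime_card (h.Tp.to_le hQT) hQ2)))
  have h5 := m.pow_le_relIndex le_sup_left (mem_sup_right (mem_zpowers x)) hx h.hq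
    (h.Tp.to_le hQT) hq2 (h.cop_q hXR)
    (hK2.coprime_dvd_left (card_dvd_of_le (hXR.trans h.RK))) (h.op.solv' (hXR.trans h.RK))
    (hAX (mem_zpowers x)) hXX.ge (h.op.fpf' hQK)
  rw [h2] at h4
  have := h.hq.two_le
  exact arith_gross (by omega) hd hd' hsa (h5.trans (h4.trans (Nat.pow_le_pow_right
    (h2 ▸ Nat.pos_of_ne_zero index_ne_zero_of_finite) hS1)))

end Tw

theorem Op.nres_nres_comm {K : Subgroup G} {x : G} (h : Op K (zpowers x)) {n : ℕ}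
    (hx : x ^ 2 ^ (n + 1) = 1) : nres (nres ⁅K, zpowers (x ^ 2 ^ n)⁆) = ⊥ := by
  by_contra hD
  have hBX : zpowers (x ^ 2 ^ n) ≤ zpowers x := zpowers_le.2 (pow_mem (mem_zpowers x) _)
  haveI := h.comm_normal (zpowers_le_norm_pow x (2 ^ n))
  obtain ⟨N, _, F, _, _, W, _, _, _, ρ, q, r, T, R, -, h1, h2⟩ := h.tower3 (h.comm_le _) hD
  refine h2 _ hBX (h.comm_comm hBX le_rfl (hBX.trans h.le_norm)).ge ?_
  rw [MonoidHom.map_zpowers] at h1
  rw [MonoidHom.map_zpowers, map_pow]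
  exact h1.gross (by rw [← map_pow, hx, map_one])

theorem gross_amb (n : ℕ) : ∀ (G : Type u) [Group G] [Finite G] (K : Subgroup G) (x : G),
    Op K (zpowers x) → x ^ 2 ^ (n + 2) = 1 → nres^[2 * n + 2] K = ⊥ := by
  induction n with
  | zero => exact shult_amb Nat.prime_two 2 (Or.inr le_rfl)
  | succ n ih =>
    intro G _ _ K x h hx
    rw [show 2 * (n + 1) + 2 = (2 * n + 2) + 1 + 1 by ring, Function.iterate_succ_apply',
      Function.iterate_succ_apply', eq_bot_iff, ← h.nres_nres_comm hx]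
    exact nres_mono (nres_mono (h.step _ _ ih))

theorem gross_two {G : Type*} [Group G] [Finite G] (hG : Group.IsSolvable G) (σ : MulAut G)
    {n : ℕ} (hn : 1 < n) (hσ : σ ^ 2 ^ n = 1) (h : ∀ g : G, σ g = g → g = 1) :
    nres^[2 * n - 2] (⊤ : Subgroup G) = ⊥ := by
  obtain ⟨m, rfl⟩ : ∃ m, n = m + 2 := ⟨n - 2, by omega⟩
  have := op_zpowers hG Nat.prime_two σ hσ h
  exact nres_iter_of_sdL _ (gross_amb m _ _ _ this.1 this.2)

end H9
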