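import Cfsg.Agent.H9.Sh6
import Cfsg.Agent.H7.MinAct

/-! Noncyclic operator groups whose order is a product of two primes. -/

set_option autoImplicit false

namespace H9
open Module H2 Subgroup H15 Cfsg
open scoped commutatorElement

universe u

variable {G : Type u} [Group G] [Finite G]

omit [Finite G] in
theorem le_cent_sup {X H K : Subgroup G} (h1 : X ≤ 𝒞(H)) (h2 : X ≤ 𝒞(K)) : X ≤ 𝒞(H ⊔ K) :=
  cent_comm (sup_le (cent_comm h1) (cent_comm h2))

/-- noncyclic group of order `p * p'` with normal subgroup generated by `a` -/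
structure PQ (A : Subgroup G) (a : G) (p p' : ℕ) : Prop where
  hp : p.Prime
  hp' : p'.Prime
  mem : a ∈ A
  ord : orderOf a = p
  nrm : A ≤ 𝒩(zpowers a)
  out : ∀ c ∈ A, c ∉ zpowers a → orderOf c = p' ∧ A ≤ zpowers a ⊔ zpowers c
  ex : ¬ A ≤ zpowers a

theorem pq_of_card {A : Subgroup G} {a : G} {p p' : ℕ} (hp : p.Prime) (hp' : p'.Prime)
    (hA : Nat.card A = p * p') (hc : ¬ IsCyclic A) (ha : a ∈ A) (ho : orderOf a = p)
    (hn : A ≤ 𝒩(zpowers a)) : PQ A a p p' := by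
  refine ⟨hp, hp', ha, ho, hn, fun c hc1 hc2 => ?_, fun h => hc (isCyclic_of_le h)⟩
  have h1 : zpowers a ⊔ zpowers c ≤ A := sup_le (zpowers_le.2 ha) (zpowers_le.2 hc1)
  have h2 := H1.card_mul_relIndex (le_sup_left : zpowers a ≤ zpowers a ⊔ zpowers c)
  rw [Nat.card_zpowers, ho] at h2
  have h3 : (zpowers a).relIndex (zpowers a ⊔ zpowers c) = p' := by
    refine ((Nat.dvd_prime hp').1 (Nat.dvd_of_mul_dvd_mul_left hp.pos ?_)).resolve_left fun h =>
      hc2 (relIndex_eq_one.1 h (mem_sup_right (mem_zpowers c)))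
    rw [h2, ← hA]; exact card_dvd_of_le h1
  have h4 : zpowers a ⊔ zpowers c = A := eq_of_le_of_card_ge h1 (by rw [← h2, h3, hA])
  refine ⟨?_, h4.ge⟩
  rw [sup_comm, H1.relIndex_sup_of_le_normalizer ((zpowers_le.2 hc1).trans hn)] at h3
  obtain ⟨k, hk⟩ := h3 ▸ relIndex_dvd_card (zpowers a) (zpowers c)
  have h5 := card_dvd_of_le (zpowers_le.2 hc1)
  rw [hA, hk, mul_comm p, Nat.mul_dvd_mul_iff_left hp'.pos, Nat.dvd_prime hp] at h5
  rcases h5 with rfl | rfl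
  · rw [← Nat.card_zpowers, hk, mul_one]
  · have : zpowers c = A := eq_of_le_of_card_ge (zpowers_le.2 hc1) (by rw [hk, hA, mul_comm])
    exact absurd (this ▸ inferInstance) hc

namespace PQ
variable {A : Subgroup G} {a : G} {p p' : ℕ} (P : PQ A a p p')
include P

theorem zp_eq {d : G} (hd : d ∈ zpowers a) (h1 : d ≠ 1) : zpowers d = zpowers a :=
  zpowers_eq_of_prime (by rw [Nat.card_zpowers, P.ord]; exact P.hp) hd h1

theorem prime_ord {d : G} (hd : d ∈ A) (h1 : d ≠ 1) : (orderOf d).Prime := by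
  by_cases h : d ∈ zpowers a
  · rw [← Nat.card_zpowers, P.zp_eq h h1, Nat.card_zpowers, P.ord]; exact P.hp
  · rw [(P.out d hd h).1]; exact P.hp'

theorem le_zp {B : Subgroup G} (hB : B ≤ A) (hB' : ¬ A ≤ B) {d : G} (hd : d ∈ B) (h1 : d ≠ 1) :
    B ≤ zpowers d := fun e he => by
  by_cases h : d ∈ zpowers a
  · rw [P.zp_eq h h1]
    by_contra h2
    exact hB' ((P.out e (hB he) h2).2.trans (sup_le ((P.zp_eq h h1).ge.trans (zpowers_le.2 hd))
      (zpowers_le.2 he)))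
  · obtain ⟨u, hu, v, hv, rfl⟩ := (H1.mem_sup_of_le_normalizer_left
      ((zpowers_le.2 (hB hd)).trans P.nrm)).1 ((P.out d (hB hd) h).2 (hB he))
    by_cases hu1 : u = 1
    · rwa [hu1, one_mul]
    · refine absurd ((P.out d (hB hd) h).2.trans (sup_le ((P.zp_eq hu hu1).ge.trans
        (zpowers_le.2 ?_)) (zpowers_le.2 hd))) hB'
      exact (mul_mem_cancel_right (zpowers_le.2 hd hv)).1 he

theorem not_le_zp {d : G} (hd : d ∈ A) : ¬ A ≤ zpowers d := fun h => by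
  by_cases h1 : d ∈ zpowers a
  · exact P.ex (h.trans (zpowers_le.2 h1))
  · have h2 : (Nat.card (zpowers d)).Prime := by
      rw [Nat.card_zpowers, (P.out d hd h1).1]; exact P.hp'
    refine h1 ?_
    rw [zpowers_eq_of_prime h2 (h P.mem) (fun h => P.hp.ne_one (by rw [← P.ord, h, orderOf_one]))]
    exact mem_zpowers d

theorem inf_zp {c : G} (hc : c ∈ A) (h : c ∉ zpowers a) : zpowers a ⊓ zpowers c = ⊥ := by
  rw [eq_bot_iff]
  intro u hu
  by_contra h1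
  have h2 : (Nat.card (zpowers c)).Prime := by rw [Nat.card_zpowers, (P.out c hc h).1]; exact P.hp'
  exact h (zpowers_le.2 hu.1 (by rw [zpowers_eq_of_prime h2 hu.2 h1]; exact mem_zpowers c))

theorem cent_or {c : G} (hc : c ∈ A) (h : c ∉ zpowers a) :
    (A ≤ 𝒞(A) ∧ p' = p) ∨ (¬ A ≤ 𝒞(A) ∧ p' ∣ p - 1) := by
  have h2 : (Nat.card (zpowers c)).Prime := by rw [Nat.card_zpowers, (P.out c hc h).1]; exact P.hp'
  have h3 : (Nat.card (zpowers a)).Prime := by rw [Nat.card_zpowers, P.ord]; exact P.hp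
  by_cases hca : zpowers a ≤ 𝒞(zpowers c)
  · left
    have hA := (P.out c hc h).2
    refine ⟨hA.trans ((le_cent_sup ?_ ?_).trans (cent_anti hA)), ?_⟩
    · exact sup_le (le_cent_self inferInstance) (cent_comm hca)
    · exact sup_le hca (le_cent_self inferInstance)
    have h4 := (P.out (a * c) (mul_mem P.mem hc)
      (fun h' => h ((mul_mem_cancel_left (mem_zpowers a)).1 h'))).1
    have h5 : Commute a c := (mem_cent.1 (hca (mem_zpowers a)) c (mem_zpowers c)).symm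
    have h6 := pow_orderOf_eq_one (a * c)
    rw [h4, h5.mul_pow, ← (P.out c hc h).1, pow_orderOf_eq_one, mul_one, (P.out c hc h).1,
      ← orderOf_dvd_iff_pow_eq_one, P.ord] at h6
    exact ((Nat.prime_dvd_prime_iff_eq P.hp P.hp').1 h6).symm
  · refine Or.inr ⟨fun h' => hca ((zpowers_le.2 P.mem).trans (h'.trans (cent_anti
      (zpowers_le.2 hc)))), ?_⟩
    have := semireg_dvd (H := zpowers c) (Q := zpowers a) (Z := ⊥) ((zpowers_le.2 hc).trans P.nrm)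
      le_normalizer_of_normal bot_le le_normalizer_of_normal (by simp) fun g hg hg1 u hu => by
        by_contra hu1
        refine hca ?_
        rw [← zpowers_eq_of_prime h3 hu.1 hu1, ← zpowers_eq_of_prime h2 hg hg1, cent_zpowers]
        exact zpowers_le.2 hu.2
    rwa [relIndex_bot_left, Nat.card_zpowers, Nat.card_zpowers, P.ord, (P.out c hc h).1] at this

theorem le_sup_conj (hA : ¬ A ≤ 𝒞(A)) {c g : G} (hc : c ∈ A) (h : c ∉ zpowers a) (hg : g ∈ A)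
    (hg' : g ∉ zpowers c) : A ≤ zpowers (g⁻¹ * c * g) ⊔ zpowers c := by
  by_contra h1
  have hc1 : c ≠ 1 := fun h' => h (h' ▸ one_mem _)
  have h2 := P.le_zp (sup_le (zpowers_le.2 (mul_mem (mul_mem (inv_mem hg) hc) hg))
    (zpowers_le.2 hc)) h1 (mem_sup_right (mem_zpowers c)) hc1
  have h3 : g⁻¹ ∈ 𝒩(zpowers c) := mem_norm_of_cj_le (by
    rw [cj_zpowers, inv_inv]; exact le_sup_left.trans h2)
  have h4 : A ≤ 𝒩(zpowers c) := by
    by_contra h4
    have := P.le_zp (B := A ⊓ 𝒩(zpowers c)) inf_le_left (fun h => h4 (h.trans inf_le_right))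
      ⟨hc, le_norm_self _ (mem_zpowers c)⟩ hc1
    exact hg' (this ⟨hg, by simpa using inv_mem h3⟩)
  have h5 : zpowers a ≤ 𝒞(zpowers c) := le_cent_iff_comm.2 (le_bot_iff.1 (P.inf_zp hc h ▸
    comm_le_inf ((zpowers_le.2 hc).trans P.nrm) ((zpowers_le.2 P.mem).trans h4)))
  have hA' := (P.out c hc h).2
  refine hA (hA'.trans ((le_cent_sup ?_ ?_).trans (cent_anti hA')))
  · exact sup_le (le_cent_self inferInstance) (cent_comm h5)
  · exact sup_le h5 (le_cent_self inferInstance)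

end PQ

theorem le_comm_sup_comm {X B C : Subgroup G} (hB : B ≤ 𝒩(X)) (hC : C ≤ 𝒩(X)) :
    ⁅X, B ⊔ C⁆ ≤ ⁅X, B⁆ ⊔ ⁅X, C⁆ := by
  have h : ⁅X, B⁆ ⊔ ⁅X, C⁆ ≤ X := sup_le (comm_le_left hB) (comm_le_left hC)
  rw [commutator_comm]
  exact comm_sup_left_le ((commutator_comm _ _).le.trans le_sup_left)
    ((commutator_comm _ _).le.trans le_sup_right)
    (le_normalizer_iff_commutator_le_left.2 ((commutator_mono h le_rfl).trans le_sup_left))
    (le_normalizer_iff_commutator_le_left.2 ((commutator_mono h le_rfl).trans le_sup_right))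

theorem cent_le_of_two {Q X S₁ S₂ Y : Subgroup G} (hXQ : X ≤ 𝒩(Q)) (hS : S₂ ≤ X) (hX : X ≤ 𝒩(S₁))
    (h : X ≤ S₁ ⊔ S₂) (hcop : (Nat.card X).Coprime (Nat.card Q)) (hs : Group.IsSolvable Q)
    (h1 : Q ⊓ 𝒞(X) ≤ Y) (h2 : ⁅Q, S₂⁆ ≤ Y) : Q ⊓ 𝒞(S₁) ≤ Y := by
  rw [← H1.commutator_sup_centralizer (A := S₂) (K := Q ⊓ 𝒞(S₁))
    (hS.trans (le_norm_inf hXQ (le_norm_cent hX)))
    ((hcop.coprime_dvd_left (card_dvd_of_le hS)).coprime_dvd_right (card_dvd_of_le inf_le_left))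
    (Or.inr (H1.isSolvable_of_le hs inf_le_left))]
  refine sup_le ((commutator_mono inf_le_left le_rfl).trans h2) (le_trans ?_ h1)
  exact le_inf (inf_le_left.trans inf_le_left)
    ((le_cent_sup (inf_le_left.trans inf_le_right) inf_le_right).trans (cent_anti h))

variable {F W : Type*} [Field F] [AddCommGroup W] [Module F W] {ρ : G →* End F W}

omit [Finite G] in
theorem mem_wstab_conj {S : Subgroup G} {l : G → F} {x g : G} (hx : x ∈ 𝒩(S)) :
    g ∈ wstab S (fun k => l (x⁻¹ * k * x)) ↔ x⁻¹ * g * x ∈ wstab S l := by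
  refine ⟨fun h => ⟨mul_mem (mul_mem (inv_mem hx) h.1) hx, fun k hk => ?_⟩,
    fun h => ⟨by simpa [mul_assoc] using mul_mem (mul_mem hx h.1) (inv_mem hx), fun k hk => ?_⟩⟩
  · simpa [mul_assoc] using h.2 _ (H1.conj_mem_of_mem_normalizer hx hk)
  · simpa [mul_assoc] using h.2 _ (H1.conj_mem_of_mem_normalizer' hx hk)

omit [Finite G] in
theorem wt_conj_ne_bot {S : Subgroup G} {l : G → F} {x : G} (hx : x ∈ 𝒩(S)) (hl : wt ρ S l ≠ ⊥) :
    wt ρ S (fun k => l (x⁻¹ * k * x)) ≠ ⊥ := fun h => by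
  obtain ⟨v, hv, hv0⟩ := Submodule.exists_mem_ne_zero_of_ne_bot hl
  have h1 := wt_apply hx hv
  rw [h, Submodule.mem_bot] at h1
  refine hv0 ?_
  rw [← End.one_apply (R := F) v, ← map_one ρ, ← inv_mul_cancel x, map_mul, End.mul_apply, h1,
    map_zero]

variable [IsAlgClosed F] [FiniteDimensional F W]

theorem shult_prime {Q Z : Subgroup G} {l : G → F} (hQZ : ⁅Q, Q⁆ ≤ Z) (hQC : Q ≤ 𝒞(Z))
    (hl : wt ρ Z l ≠ ⊥) {c : G} (hp : (orderOf c).Prime) (hpF : (orderOf c : F) ≠ 0)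
    (hcQ : c ∈ 𝒩(Q)) (hcw : c ∈ wstab Z l) (h0 : wt ρ Z l ⊓ fix ρ (zpowers c) = ⊥)
    (hQF : (Nat.card Q : F) ≠ 0) (hQ : (Nat.card Q).Coprime (orderOf c)) :
    ⁅Q, zpowers c⁆ ≤ rad ρ Q Z l ∨
      (rad ρ Q Z l).relIndex ⁅Q, zpowers c⁆ = (orderOf c - 1) ^ 2 := by
  have hM : ⁅Q, zpowers c⁆ ≤ Q := comm_le_left (zpowers_le.2 hcQ)
  have := shult_core (ρ := ρ) hp hpF (x := c) (n := 0) (by simp) hQF hQ hcQ hl
    (hQC.trans (cent_le_stabOn Z l)) (wstab_le_stabOn Z l hcw) (wt_scalar hQZ l) h0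
  rw [pow_zero, pow_one] at this
  rcases this with h | ⟨-, t, ht, h, -⟩
  · refine Or.inl fun k hk => (mem_rad hQC).2 ⟨hM hk, fun y hy => ?_⟩
    exact comm_le_left (hQC.trans ((cent_le_wstab Z l).trans (wstab_le_norm_ker Z l)))
      (commutator_mem_commutator (h hk) hy)
  · obtain rfl : t = 0 := by omega
    rw [H1.relIndex_sup_of_le_normalizer (hM.trans (le_norm_rad hQC (le_norm_self Q)
      (hQC.trans (cent_le_wstab _ l))))] at h
    exact Or.inr (by simpa using h)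

theorem frob_contra {Q Z : Subgroup G} {l : G → F} (hQZ : ⁅Q, Q⁆ ≤ Z) (hQC : Q ≤ 𝒞(Z))
    (hl : wt ρ Z l ≠ ⊥) {c : G} (hp : (orderOf c).Prime) (hpF : (orderOf c : F) ≠ 0)
    (hcQ : c ∈ 𝒩(Q)) (hcw : c ∈ wstab Z l) (h0 : wt ρ Z l ⊓ fix ρ (zpowers c) = ⊥)
    (hQF : (Nat.card Q : F) ≠ 0) (hQ : (Nat.card Q).Coprime (orderOf c)) (hs : Group.IsSolvable Q)
    {R : Subgroup G} (hRQ : R ≤ 𝒩(Q)) (hRZ : R ≤ 𝒞(Z)) (hcR : c ∈ 𝒩(R))
    (hC : R ⊓ 𝒞(zpowers c) ≤ 𝒞(Q)) (hR : (Nat.card R).Coprime (orderOf c))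
    (hRQ' : (Nat.card R).Coprime (Nat.card Q)) (hs' : Group.IsSolvable R) :
    ⁅Q, R⁆ ≤ rad ρ Q Z l := by
  by_contra hn
  have hM : ⁅Q, R⁆ ≤ Q := comm_le_left hRQ
  have n1 : Q ≤ 𝒩(rad ρ Q Z l) := le_norm_rad hQC (le_norm_self Q) (hQC.trans (cent_le_wstab _ l))
  have n2 : R ≤ 𝒩(rad ρ Q Z l) := le_norm_rad hQC hRQ (hRZ.trans (cent_le_wstab _ l))
  have n3 : zpowers c ≤ 𝒩(rad ρ Q Z l) := le_norm_rad hQC (zpowers_le.2 hcQ) (zpowers_le.2 hcw)
  have hd := der_le_rad (hQC.trans (cent_le_stabOn (ρ := ρ) Z l)) (wt_scalar hQZ l)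
  obtain ⟨m, hm⟩ := sq_relIndex hl (hQC.trans (cent_le_stabOn Z l))
    (hRZ.trans (cent_le_stabOn Z l)) hRQ hRQ' (Or.inl hs') hQF (wt_scalar hQZ l)
  rw [H1.relIndex_sup_of_le_normalizer (hM.trans n1)] at hm
  have h1 := shult_prime hQZ hQC hl hp hpF hcQ hcw h0 hQF hQ
  have hrQ : rad ρ Q Z l ≤ Q := relC_le _ _
  change (rad ρ Q Z l).relIndex _ = _ at hm
  change _ ≤ rad ρ Q Z l at hd
  generalize rad ρ Q Z l = D at *
  have n4 : Q ≤ 𝒩(R ⊓ 𝒞(Q)) := le_norm_of_le_cent (cent_comm inf_le_right)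
  have n5 : R ⊓ 𝒞(Q) ≤ 𝒩(D) := inf_le_left.trans n2
  have e : ∀ N ≤ Q, (D ⊔ R ⊓ 𝒞(Q)).relIndex N = D.relIndex N := fun N hN => by
    rw [← inf_relIndex_right, ← inf_relIndex_right D]
    congr 1
    refine le_antisymm (fun y hy => ⟨?_, hy.2⟩) (inf_le_inf_right _ le_sup_left)
    obtain ⟨k, hk, s, hs, rfl⟩ := (H1.mem_sup_of_le_normalizer_left n5).1 hy.1
    have : s ∈ R ⊓ Q := ⟨hs.1, (mul_mem_cancel_left (hrQ hk)).1 (hN hy.2)⟩
    rw [H1.inf_eq_bot_of_coprime' hRQ', mem_bot] at this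
    rwa [this, mul_one]
  have hcz : Nat.card (zpowers c) = orderOf c := Nat.card_zpowers c
  have hMQ := card_dvd_of_le hM
  have p1 : (Nat.card (⁅Q, R⁆ : Subgroup G)).Coprime (Nat.card (zpowers c)) := by
    rw [hcz]; exact hQ.coprime_dvd_left hMQ
  have p2 : (Nat.card (zpowers c)).Coprime (Nat.card R) := by rw [hcz]; exact hR.symm
  have p3 : (Nat.card (zpowers c)).Prime := by rwa [hcz]
  have p4 : ¬ zpowers c ≤ D ⊔ R ⊓ 𝒞(Q) := fun h => by
    have h3 := card_dvd_of_le h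
    rw [hcz, sup_comm] at h3
    exact hp.ne_one (Nat.eq_one_of_dvd_coprimes ((hR.coprime_dvd_left (card_dvd_of_le
      inf_le_left)).mul_left (hQ.coprime_dvd_left (card_dvd_of_le hrQ)))
      (h3.trans (H1.card_sup_dvd n5)) dvd_rfl)
  have h2 := wiel_mod (K := R) (R := zpowers c) (M := ⁅Q, R⁆) (Y := D ⊔ R ⊓ 𝒞(Q))
    (le_norm_sup n2 (le_norm_inf (le_norm_self R) (le_norm_cent hRQ)))
    (le_norm_sup n3 (le_norm_inf (zpowers_le.2 hcR) (le_norm_cent (zpowers_le.2 hcQ))))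
    (hM.trans (le_norm_sup n1 n4)) hs' (zpowers_le.2 hcR) (normalizer_commutator_ge_right Q R)
    (le_norm_comm (zpowers_le.2 hcQ) (zpowers_le.2 hcR)) (H1.isSolvable_of_le hs hM)
    (hRQ'.symm.coprime_dvd_left hMQ) p1 p2 p3 p4
    (le_sup_of_le_right (le_inf inf_le_left hC))
    (le_sup_of_le_left ((commutator_mono hM hM).trans hd))
    (le_sup_of_le_left (H1.commutator_commutator_eq hRQ hRQ' (Or.inl hs')).ge)
  have hMc : ⁅⁅Q, R⁆, zpowers c⁆ ≤ ⁅Q, zpowers c⁆ := commutator_mono hM le_rfl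
  rw [e _ hM, e _ (inf_le_left.trans hM), e _ (hMc.trans (comm_le_left (zpowers_le.2 hcQ))),
    hcz] at h2
  refine arith_frob hp (h2.1.symm.trans hm) (h2.1.symm.trans h2.2) ?_
    (fun h => hn (relIndex_eq_one.1 (h2.1.trans h))) (Nat.pos_of_ne_zero index_ne_zero_of_finite)
  refine (relIndex_le_of_le_right hMc index_ne_zero_of_finite).trans ?_
  rcases h1 with h1 | h1
  · rw [relIndex_eq_one.2 h1]
    exact Nat.one_le_pow _ _ (by have := hp.two_le; omega)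
  · exact h1.le

end H9
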