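import Cfsg.Agent.H3.Hd2

set_option autoImplicit false

/-! The case of a small centralizer of the normal elementary abelian subgroup of order 8. -/

namespace H9.Small
open Subgroup Cfsg.Agent.H3 Cfsg.Agent.H3.Hd
variable {G : Type*} [Group G] [Finite G] {A B H K Y : Subgroup G} [B.Normal] {a : G}

theorem small (h : St A B) (g : Gd A B) (ha : a ∈ A) (aB : a ∉ B) (hb : Bad H K) (hC : Nat.card (centralizer (B : Set G)) ≤ 16) :
    Nat.card ↥(A ⊓ B) = 4 ∧ 64 ≤ Nat.card (centralizer ((A ⊓ B : Subgroup G) : Set G)) := by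
  have BC := h.BC
  have gd := g.gd
  have aC : ∀ x ∈ A, x ∉ B → x ∉ centralizer (B : Set G) := fun x hx n c => n (g.ac ⟨hx, c⟩)
  have P4 := fun x hx n => (tv h.c8 h.e2 h.ab (h.a2 x hx) (aC x hx n)).1
  obtain ⟨i8, q4⟩ := flag h.hG h.c8 h.e2
  have al := fun h1 h2 => hb.al (B := B) h1 h2
  have cb : ∀ x ∈ B, ∀ y ∈ centralizer (B : Set G), x * y = y * x := fun x hx y hy => hy x hx
  have cc : ∀ y, (∀ x ∈ B, x * y = y * x) → y ∈ centralizer (B : Set G) := fun y hy => hy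
  have c8 := h.c8
  have nC : (centralizer (B : Set G)).Normal := inferInstance
  generalize centralizer (B : Set G) = C at *
  have cab : ∀ x ∈ C, ∀ y ∈ C, x * y = y * x := fun x hx y hy => by
    by_cases e : x ∈ B; · exact cb x e y hy
    by_cases e' : y ∈ B; · exact (cb y e' x hx).symm
    have := cb _ (H17.Mw.two_mul BC (by omega) hx (inv_mem hy) e (by rwa [inv_mem_iff])) y hy
    rwa [inv_mul_cancel_right, ← mul_assoc, eq_mul_inv_iff_mul_eq] at this
  have big := hb.big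
  rw [H17.Mw.comb C hb.sq] at big
  have r2 := q4 H ((K ⊓ H) ⊔ C) le_sup_right fun x hx => mem_sup_left ⟨hb.sq x hx, pow_mem hx 2⟩
  have cD := crd (K := K) (D := C ⊓ H)
  have DC := card_le_of_le (inf_le_left : C ⊓ H ≤ C)
  have pK : 0 < Nat.card ↥(K ⊓ (C ⊓ H)) := Nat.card_pos
  have cm : ∀ x ∈ H, ∀ d ∈ C ⊓ H, x * d * x⁻¹ * d⁻¹ ∈ K ⊓ (C ⊓ H) := fun x hx d hd => ⟨H12.SR.comm_sq hb.sq hx hd.2,
    C.mul_mem (nC.conj_mem d hd.1 x) (C.inv_mem hd.1), hb.le (H12.SR.comm_sq hb.sq hx hd.2)⟩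
  have key : ∀ x ∈ A, x ∉ B → x ∉ H ⊔ C := fun x hx n m => by
    obtain ⟨y, hy, c, hc, rfl⟩ := mem_sup_of_normal_right.1 m
    have b1 := bd (X := C ⊓ H) (L := K ⊓ (C ⊓ H)) (a := y * c) fun d hd => by
      rw [show d * (y * c) * d⁻¹ * (y * c)⁻¹ = (y * (c * d) * c⁻¹ * y⁻¹ * d⁻¹)⁻¹ by group, cab c hc d hd.1, ← mul_assoc y,
        mul_inv_cancel_right]
      exact inv_mem (cm y hy d hd)
    have b2 := card_le_of_le (show centralizer {y * c} ⊓ (C ⊓ H) ≤ B ⊓ centralizer {y * c} from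
      fun z hz => ⟨gd _ hx n ⟨hz.2.1, hz.1⟩, hz.1⟩)
    rw [P4 _ hx n] at b2
    nlinarith
  have r8 : K.relIndex (C ⊓ H) = 8 := by
    obtain ⟨n, hn⟩ := H17.Mw.pow2 h.hG K (C ⊓ H)
    have l : K.relIndex (C ⊓ H) < 16 := by
      by_contra! l
      have e := eq_of_le_of_card_ge (inf_le_left : C ⊓ H ≤ C) (by nlinarith)
      have e1 : K ⊓ (C ⊓ H) = ⊥ := card_eq_one.1 (by nlinarith)
      have := al (BC.trans (e.ge.trans inf_le_right)) fun x hx hx' => mem_bot.1 (e1 ▸ mem_inf.2 ⟨hx, e.ge (BC hx')⟩)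
      omega
    have : 8 ≤ K.relIndex (C ⊓ H) := by nlinarith
    rw [hn] at l this ⊢
    have : n < 4 := (Nat.pow_lt_pow_iff_right (by norm_num : 1 < 2)).1 l
    interval_cases n <;> omega
  rw [r8] at big cD
  have r4 : 4 ≤ C.relIndex (H ⊔ C) := by
    have := relIndex_le_of_le_left (le_sup_right : C ≤ (K ⊓ H) ⊔ C) (L := H) index_ne_zero_of_finite
    rw [relIndex_sup_right]; omega
  have i2 : (H ⊔ C).index = 2 := by
    have := relIndex_mul_index (le_sup_right : C ≤ H ⊔ C)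
    have n1 : (H ⊔ C).index ≠ 1 := fun e => key a ha aB (index_eq_one.1 e ▸ mem_top a)
    have n0 : (H ⊔ C).index ≠ 0 := index_ne_zero_of_finite
    have : (H ⊔ C).index ≤ 2 := by nlinarith
    omega
  have nM := normal_of_index_eq_two i2
  have cM := crd (K := C) (D := H ⊔ C)
  rw [inf_eq_left.2 le_sup_right] at cM
  have le : A ⊓ B ≤ B ⊓ centralizer {a} := fun x hx => ⟨hx.2, mem_centralizer_singleton_iff.2 (h.aab hx.1 ha)⟩
  have c4 : 4 ≤ Nat.card ↥(A ⊓ B) := by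
    have i := H12.SR.idx_two (N := B) (X := A) fun x hx y hy x1 y1 => by_contra fun n => key _ (mul_mem (inv_mem hx) hy) n
      ((mul_mem_iff_of_index_two i2).2 (iff_of_false (by rw [inv_mem_iff]; exact key x hx x1) (key y hy y1)))
    have := crd (K := B) (D := A)
    rw [h.a8, inf_comm] at this; nlinarith
  have eP := eq_of_le_of_card_ge le (by rw [P4 a ha aB]; exact c4)
  have P := P4 a ha aB
  refine ⟨eP ▸ P, ?_⟩
  suffices ∃ L ≤ H ⊔ C, L ≤ centralizer ((A ⊓ B : Subgroup G) : Set G) ∧ 32 ≤ Nat.card L by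
    obtain ⟨L, l1, l2, l3⟩ := this
    have := H12.SR.two_le (lt_of_le_of_ne l2 fun e => key a ha aB (l1 (e.ge fun x hx => h.aab hx.1 ha)))
    omega
  rw [eP]
  have b8 := card_le_of_le BC
  rcases (by omega : Nat.card ↥(K ⊓ (C ⊓ H)) = 1 ∨ Nat.card ↥(K ⊓ (C ⊓ H)) = 2) with e | e
  · refine ⟨_, le_rfl, le_centralizer_iff.1 (le_trans ?_ (inf_le_right : C ⊓ centralizer (H ⊔ C : Subgroup G) ≤ _)), by nlinarith⟩
    have DE : C ⊓ H ≤ C ⊓ centralizer (H ⊔ C : Subgroup G) := fun d hd => ⟨hd.1, fun x hx => mem_centralizer_singleton_iff.1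
      ((sup_le (c := centralizer {d}) (fun x hx => mem_centralizer_singleton_iff.2 (by
        have := cm x hx d hd
        rwa [card_eq_one.1 e, mem_bot, mul_inv_eq_one, mul_inv_eq_iff_eq_mul] at this))
        fun x hx => mem_centralizer_singleton_iff.2 (cab x hx d hd.1)) hx)⟩
    have nE : (C ⊓ centralizer (H ⊔ C : Subgroup G)).Normal := inferInstance
    have EC : C ⊓ centralizer (H ⊔ C : Subgroup G) ≤ C := inf_le_left
    generalize C ⊓ centralizer (H ⊔ C : Subgroup G) = E at *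
    by_contra n
    have b1 := bd (X := E) (L := E ⊓ (B ⊓ centralizer {a})) (a := a) fun x hx => by
      have m : x * a * x⁻¹ * a⁻¹ ∈ B := by simpa [mul_assoc] using inv_mem (cm2 BC (by omega) a (EC hx))
      exact ⟨by simpa [mul_assoc] using mul_mem hx (nE.conj_mem _ (inv_mem hx) a), m, cinv (h.a2 a ha) (h.e2 _ m)⟩
    have b2 := card_le_of_le (show centralizer {a} ⊓ E ≤ E ⊓ (B ⊓ centralizer {a}) from
      fun z hz => ⟨hz.2, gd _ ha aB ⟨EC hz.2, hz.1⟩, hz.1⟩)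
    have b3 := H12.SR.two_le (lt_of_le_of_ne (inf_le_right : E ⊓ (B ⊓ centralizer {a}) ≤ _) fun e => n (e.ge.trans inf_le_left))
    have b4 := card_le_of_le DE
    nlinarith
  · have CH : C ≤ H := (eq_of_le_of_card_ge (inf_le_left : C ⊓ H ≤ C) (by omega)).ge.trans inf_le_right
    rw [sup_eq_left.2 CH] at *
    obtain ⟨⟨u, hu⟩, u1, un⟩ := (Nat.card_eq_two_iff' (1 : ↥(K ⊓ (C ⊓ H)))).1 e
    have un : ∀ v ∈ K ⊓ (C ⊓ H), v ≠ 1 → v = u := fun v hv n => congrArg Subtype.val (un ⟨v, hv⟩ fun e => n (congrArg Subtype.val e))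
    obtain ⟨x, hx, n⟩ := SetLike.not_le_iff_exists.1 fun l : H ≤ C => by rw [relIndex_eq_one.2 l] at r4; omega
    obtain ⟨b, hb', n⟩ : ∃ b ∈ B, x * b * x⁻¹ * b⁻¹ ≠ 1 := by
      by_contra! k
      exact n (cc x fun b hb => (mul_inv_eq_iff_eq_mul.1 (mul_inv_eq_one.1 (k b hb))).symm)
    have BD : B ≤ C ⊓ H := le_inf BC (BC.trans CH)
    have eu := un _ (cm x hx b (BD hb')) n
    have uc : ∀ y, y * u = u * y := fun y => mul_inv_eq_iff_eq_mul.1 (un _ (by
      have := cm _ (nM.conj_mem x hx y) _ (BD (Normal.conj_mem inferInstance b hb' y))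
      rw [← eu]; simpa [mul_assoc] using this) (by rw [Ne, conj_eq_one_iff, ← eu]; exact n))
    have uP : u ∈ B ⊓ centralizer {a} := ⟨eu ▸ B.mul_mem (Normal.conj_mem inferInstance b hb' x) (B.inv_mem hb'),
      mem_centralizer_singleton_iff.2 (uc a).symm⟩
    obtain ⟨p, hp, pn⟩ := SetLike.not_le_iff_exists.1 fun l : B ⊓ centralizer {a} ≤ K ⊓ (C ⊓ H) => by
      have := card_le_of_le l; omega
    have b1 := bd (X := H) (L := K ⊓ (C ⊓ H)) (a := p) fun y hy => cm y hy p (BD hp.1)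
    refine ⟨centralizer {p} ⊓ H, inf_le_right, fun y hy z hz => ?_, by nlinarith⟩
    have yp := mem_centralizer_singleton_iff.1 hy.1
    by_cases z1 : z = 1; · simp [z1]
    by_cases zu : u = z; · exact zu ▸ (uc y).symm
    by_cases zp : p = z; · exact zp ▸ yp.symm
    rw [R4.four_el P.le uP hp hz (eu ▸ n) (fun e => pn (e ▸ one_mem _)) z1 (fun e => pn (e ▸ hu)) zu zp
      fun e => pn (eq_inv_of_mul_eq_one_right e ▸ inv_mem hu), mul_assoc, ← yp, ← mul_assoc, ← uc, mul_assoc]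
end H9.Small
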